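import Mathlib.Analysis.Complex.Polynomial.Basic
import Mathlib.Analysis.Normed.Group.Bounded
import Mathlib.RingTheory.NoetherNormalization
import Mathlib.RingTheory.Jacobson.Ring
import Mathlib.FieldTheory.Minpoly.IsIntegrallyClosed
import Mathlib.RingTheory.Polynomial.UniqueFactorization
import Mathlib.RingTheory.Ideal.GoingUp
import Mathlib.Algebra.MvPolynomial.Funext
import Mathlib.Topology.Algebra.MvPolynomial
import Mathlib.Topology.MetricSpace.Sequences
import Mathlib.RingTheory.Polynomial.RationalRoot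

/-!
# Points of a complex affine variety outside a hypersurface are dense in the complex topology

Proof by Noether normalization and continuity of roots.
-/

set_option autoImplicit false

open Polynomial Filter Topology

namespace Groth.Agent.AnPts

variable {A : Type*} [CommRing A] [Algebra ℂ A]

/-- Points extend along integral extensions. -/
theorem exists_point_lift {P : Type*} [CommRing P] [Algebra ℂ P] [Algebra P A] [IsScalarTower ℂ P A]
    [Algebra.IsIntegral P A] [Algebra.FiniteType ℂ A] (u : P →ₐ[ℂ] ℂ)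
    (hu : RingHom.ker (algebraMap P A) ≤ RingHom.ker u) :
    ∃ y : A →ₐ[ℂ] ℂ, ∀ r, y (algebraMap P A r) = u r := by
  have hus : Function.Surjective u := fun c => ⟨algebraMap ℂ P c, u.commutes c⟩
  haveI : (RingHom.ker u).IsMaximal := RingHom.ker_isMaximal_of_surjective u hus
  obtain ⟨Q, -, hQ, hQu⟩ := Ideal.exists_ideal_over_prime_of_isIntegral (S := A) (RingHom.ker u) ⊥
    ((RingHom.ker_eq_comap_bot _).ge.trans hu)
  haveI : Q.IsPrime := hQ
  haveI : (Q.comap (algebraMap P A)).IsMaximal := by rw [hQu]; infer_instance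
  haveI : Q.IsMaximal := Ideal.isMaximal_of_isIntegral_of_isMaximal_comap (R := P) Q ‹_›
  letI := Ideal.Quotient.field Q
  haveI : Module.Finite ℂ (A ⧸ Q) := finite_of_finite_type_of_isJacobsonRing ℂ (A ⧸ Q)
  haveI : Algebra.IsIntegral ℂ (A ⧸ Q) := Algebra.IsIntegral.of_finite ℂ _
  let e : ℂ ≃ₐ[ℂ] A ⧸ Q :=
    AlgEquiv.ofBijective (Algebra.ofId ℂ (A ⧸ Q)) IsAlgClosed.algebraMap_bijective_of_isIntegral
  refine ⟨e.symm.toAlgHom.comp (Ideal.Quotient.mkₐ ℂ Q), fun r => ?_⟩
  show e.symm (Ideal.Quotient.mk Q (algebraMap P A r)) = u r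
  rw [AlgEquiv.symm_apply_eq]
  show Ideal.Quotient.mk Q (algebraMap P A r) = algebraMap ℂ (A ⧸ Q) (u r)
  rw [IsScalarTower.algebraMap_apply ℂ A (A ⧸ Q), IsScalarTower.algebraMap_apply ℂ P A]
  refine Ideal.Quotient.eq.mpr ?_
  rw [← map_sub, ← Ideal.mem_comap, hQu]
  show u _ = 0
  rw [map_sub, AlgHom.commutes]
  exact sub_self _

/-- The value at `r` of a monic polynomial bounds `r`. -/
theorem norm_le_of_root {F : ℂ[X]} (hF : F.Monic) {r : ℂ} (hr : F.IsRoot r) :
    ‖r‖ ≤ 1 + ∑ j ∈ Finset.range F.natDegree, ‖F.coeff j‖ := by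
  have hs : 0 ≤ ∑ j ∈ Finset.range F.natDegree, ‖F.coeff j‖ := Finset.sum_nonneg fun _ _ => norm_nonneg _
  rcases le_total ‖r‖ 1 with h | h
  · linarith
  have h0 : r ^ F.natDegree + ∑ j ∈ Finset.range F.natDegree, F.coeff j * r ^ j = 0 := by
    have := hr.eq_zero
    rw [eval_eq_sum_range, Finset.sum_range_succ, hF.coeff_natDegree, one_mul] at this
    rw [add_comm]; exact this
  obtain ⟨n, hn⟩ : ∃ n, F.natDegree = n + 1 := by
    refine Nat.exists_eq_succ_of_ne_zero fun hn => ?_
    rw [hn] at h0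
    simp at h0
  rw [hn] at h0 ⊢
  have h1 : ‖r‖ ^ (n + 1) ≤ (∑ j ∈ Finset.range (n + 1), ‖F.coeff j‖) * ‖r‖ ^ n := by
    rw [← norm_pow, eq_neg_of_add_eq_zero_left h0, norm_neg, Finset.sum_mul]
    refine (norm_sum_le _ _).trans (Finset.sum_le_sum fun j hj => ?_)
    rw [norm_mul, norm_pow]
    exact mul_le_mul_of_nonneg_left (pow_le_pow_right₀ h (Nat.lt_succ_iff.mp (Finset.mem_range.mp hj)))
      (norm_nonneg _)
  rw [pow_succ'] at h1
  have := le_of_mul_le_mul_right h1 (pow_pos (zero_lt_one.trans_le h) n)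
  linarith

/-- A monic polynomial has a root of size at most the root of the size of its constant coefficient. -/
theorem exists_small_root {F : ℂ[X]} (hF : F.Monic) (hd : 0 < F.natDegree) :
    ∃ r, F.IsRoot r ∧ ‖r‖ ^ F.natDegree ≤ ‖F.coeff 0‖ := by
  have hcard : F.roots.card = F.natDegree :=
    IsAlgClosed.card_roots_eq_natDegree
  have hne : F.roots.toFinset.Nonempty := by
    rw [Multiset.toFinset_nonempty, ← Multiset.card_pos, hcard]; exact hd
  obtain ⟨r, hr, hmin⟩ := F.roots.toFinset.exists_min_image (fun z => ‖z‖₊) hne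
  refine ⟨r, (mem_roots hF.ne_zero).mp (Multiset.mem_toFinset.mp hr), ?_⟩
  have hsplit : F.Splits := IsAlgClosed.splits F
  have h1 : ‖r‖₊ ^ F.natDegree ≤ (F.roots.map (fun z => ‖z‖₊)).prod := by
    rw [← hcard, ← Multiset.card_map (fun z => ‖z‖₊) F.roots]
    refine Multiset.pow_card_le_prod fun z hz => ?_
    obtain ⟨w, hw, rfl⟩ := Multiset.mem_map.mp hz
    exact hmin w (Multiset.mem_toFinset.mpr hw)
  have h2 : (F.roots.map (fun z => ‖z‖₊)).prod = ‖F.coeff 0‖₊ := by
    have e : (F.roots.map (fun z : ℂ => ‖z‖₊)).prod = ‖F.roots.prod‖₊ :=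
      (map_multiset_prod (nnnormHom : ℂ →*₀ NNReal) F.roots).symm
    rw [e, hsplit.coeff_zero_eq_prod_roots_of_monic hF, nnnorm_mul, nnnorm_pow, nnnorm_neg, nnnorm_one,
      one_pow, one_mul]
  exact_mod_cast h1.trans h2.le

/-- The minimal polynomial of a nonzero element of a domain has nonzero constant coefficient. -/
theorem coeff_zero_minpoly_ne_zero {R S : Type*} [CommRing R] [IsDomain R] [CommRing S] [IsDomain S] [Algebra R S]
    {b : S} (hi : IsIntegral R b) (hb : b ≠ 0) : (minpoly R b).coeff 0 ≠ 0 := fun h0 => by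
  obtain ⟨G, hG⟩ : X ∣ minpoly R b := X_dvd_iff.mpr h0
  have hm : G.Monic := monic_X.of_mul_monic_left (hG ▸ minpoly.monic hi)
  have hGb : aeval b G = 0 := by
    have := minpoly.aeval R b
    rw [hG, map_mul, aeval_X] at this
    exact (mul_eq_zero.mp this).resolve_left hb
  have := minpoly.min R b hm hGb
  rw [hG, degree_mul, degree_X, degree_eq_natDegree hm.ne_zero, ← WithBot.coe_one, ← Nat.cast_withBot, ← Nat.cast_add,
    Nat.cast_le] at this
  omega

/-- Outside a hypersurface there are points arbitrarily near a given one. -/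
theorem exists_tendsto_of_ne_zero {n : ℕ} {h : MvPolynomial (Fin n) ℂ} (hh : h ≠ 0) (p : Fin n → ℂ) :
    ∃ t : ℕ → (Fin n → ℂ), Tendsto t atTop (𝓝 p) ∧ ∀ k, MvPolynomial.eval (t k) h ≠ 0 := by
  obtain ⟨v, hv⟩ : ∃ v, MvPolynomial.eval v h ≠ 0 := by
    by_contra hall
    push Not at hall
    exact hh (MvPolynomial.funext fun v => by rw [hall, map_zero])
  let Q : ℂ[X] := MvPolynomial.aeval (fun i => Polynomial.C (p i) + Polynomial.X * Polynomial.C (v i - p i)) h
  have hQ : ∀ z : ℂ, Q.eval z = MvPolynomial.eval (fun i => p i + z * (v i - p i)) h := fun z => by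
    have := DFunLike.congr_fun (MvPolynomial.comp_aeval
      (f := fun i => Polynomial.C (p i) + Polynomial.X * Polynomial.C (v i - p i)) (Polynomial.aeval z : ℂ[X] →ₐ[ℂ] ℂ)) h
    simpa [Q, MvPolynomial.aeval_eq_eval] using this
  have hQ0 : Q ≠ 0 := fun e => hv (by
    have := hQ 1
    simpa [e] using this.symm)
  have hfin : {z : ℂ | Q.IsRoot z}.Finite := Polynomial.finite_setOf_isRoot hQ0
  have hex : ∀ k : ℕ, ∃ z : ℂ, ‖z‖ < 1 / (k + 1) ∧ Q.eval z ≠ 0 := fun k => by
    have hinf : (Metric.ball (0 : ℂ) (1 / (k + 1))).Infinite :=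
      infinite_of_mem_nhds (0 : ℂ) (Metric.ball_mem_nhds _ (by positivity))
    obtain ⟨z, hz, hz'⟩ := (hinf.sdiff hfin).nonempty
    exact ⟨z, by simpa using hz, hz'⟩
  choose z hz hz' using hex
  refine ⟨fun k i => p i + z k * (v i - p i), tendsto_pi_nhds.mpr fun i => ?_, fun k => hQ (z k) ▸ hz' k⟩
  have hz0 : Tendsto z atTop (𝓝 0) :=
    squeeze_zero_norm (fun k => (hz k).le) tendsto_one_div_add_atTop_nhds_zero_nat
  simpa using (hz0.mul_const (v i - p i)).const_add (p i)

/-- The set of tuples of values of points at generators is closed. -/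
theorem isClosed_range_coords {ι : Type*} (q : MvPolynomial ι ℂ →ₐ[ℂ] A) (hq : Function.Surjective q) :
    IsClosed (Set.range fun (y : A →ₐ[ℂ] ℂ) (i : ι) => y (q (MvPolynomial.X i))) := by
  have : (Set.range fun (y : A →ₐ[ℂ] ℂ) (i : ι) => y (q (MvPolynomial.X i))) =
      ⋂ P ∈ RingHom.ker q, {z : ι → ℂ | MvPolynomial.eval z P = 0} := by
    ext z
    simp only [Set.mem_range, Set.mem_iInter, Set.mem_ofPred_eq]
    constructor
    · rintro ⟨y, rfl⟩ P hP
      have := DFunLike.congr_fun (MvPolynomial.aeval_unique (y.comp q)) P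
      rw [AlgHom.comp_apply, (RingHom.mem_ker).mp hP, map_zero] at this
      rw [← MvPolynomial.aeval_eq_eval]
      exact this.symm
    · intro hz
      refine ⟨(Ideal.Quotient.liftₐ (RingHom.ker q) (MvPolynomial.aeval z) fun P hP => by
        rw [MvPolynomial.aeval_eq_eval]; exact hz P hP).comp
        (Ideal.quotientKerAlgEquivOfSurjective hq).symm.toAlgHom, funext fun i => ?_⟩
      simp only [AlgHom.comp_apply]
      rw [show (Ideal.quotientKerAlgEquivOfSurjective hq).symm.toAlgHom (q (MvPolynomial.X i)) =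
        Ideal.Quotient.mk _ (MvPolynomial.X i) from (AlgEquiv.symm_apply_eq _).mpr rfl]
      exact MvPolynomial.aeval_X z i
  rw [this]
  exact isClosed_biInter fun P _ => isClosed_eq P.continuous_eval continuous_const

/-- The points of a complex affine domain outside a hypersurface are dense. -/
theorem mem_closure_coords [IsDomain A] {m : ℕ} (q : MvPolynomial (Fin m) ℂ →ₐ[ℂ] A) (hq : Function.Surjective q)
    {b : A} (hb : b ≠ 0) (x : A →ₐ[ℂ] ℂ) :
    (fun i => x (q (MvPolynomial.X i))) ∈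
      closure ((fun (y : A →ₐ[ℂ] ℂ) (i : Fin m) => y (q (MvPolynomial.X i))) '' {y | y b ≠ 0}) := by
  classical
  haveI : Algebra.FiniteType ℂ A := Algebra.FiniteType.of_surjective q hq
  obtain ⟨d, g, hginj, hgfin⟩ := exists_finite_inj_algHom_of_fg ℂ A
  let P := MvPolynomial (Fin d) ℂ
  letI : Algebra P A := g.toRingHom.toAlgebra
  haveI : IsScalarTower ℂ P A := IsScalarTower.of_algebraMap_eq fun r => (g.commutes r).symm
  haveI : Module.Finite P A := hgfin
  haveI : Algebra.IsIntegral P A := Algebra.IsIntegral.of_finite P A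
  haveI : FaithfulSMul P A := (faithfulSMul_iff_algebraMap_injective P A).mpr hginj
  let e : Fin m → A := fun j => q (MvPolynomial.X j)
  have hext : ∀ {y y' : A →ₐ[ℂ] ℂ}, (∀ j, y (e j) = y' (e j)) → y = y' := fun {y y'} h => by
    refine AlgHom.ext fun c => ?_
    obtain ⟨Pc, rfl⟩ := hq c
    exact DFunLike.congr_fun (MvPolynomial.algHom_ext (f := y.comp q) (g := y'.comp q) h) Pc
  let u := x.comp g
  -- the fibre of `x` is finite
  have hfib : {y : A →ₐ[ℂ] ℂ | y.comp g = u}.Finite := by
    refine Set.Finite.of_finite_image (f := fun y j => y (e j)) ?_ fun y _ y' _ h => hext (congrFun h)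
    refine (Set.Finite.pi fun j => Polynomial.finite_setOf_isRoot
      ((minpoly.monic (Algebra.IsIntegral.isIntegral (R := P) (e j))).map u.toRingHom).ne_zero).subset ?_
    rintro _ ⟨y, hy, rfl⟩ j -
    show ((minpoly P (e j)).map u.toRingHom).eval (y (e j)) = 0
    rw [eval_map, show u.toRingHom = (y : A →+* ℂ).comp (algebraMap P A) from
      congrArg AlgHom.toRingHom hy.symm]
    refine (hom_eval₂ _ _ (y : A →+* ℂ) (e j)).symm.trans ?_
    rw [← aeval_def, minpoly.aeval, map_zero]
  -- a function separating `x` in its fibre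
  obtain ⟨τ, hτ⟩ : ∃ τ : ℂ, ∀ y ∈ {y : A →ₐ[ℂ] ℂ | y.comp g = u}, y ≠ x →
      (∑ j : Fin m, Polynomial.C (y (e j) - x (e j)) * Polynomial.X ^ (j : ℕ)).eval τ ≠ 0 := by
    let bad : Set ℂ := ⋃ y ∈ {y : A →ₐ[ℂ] ℂ | y.comp g = u ∧ y ≠ x},
      {z | (∑ j : Fin m, Polynomial.C (y (e j) - x (e j)) * Polynomial.X ^ (j : ℕ)).IsRoot z}
    have hbad : bad.Finite := (hfib.subset fun y hy => hy.1).biUnion fun y hy => by
      refine Polynomial.finite_setOf_isRoot fun h0 => hy.2 (hext fun j => ?_)
      have := congrArg (fun F : ℂ[X] => F.coeff (j : ℕ)) h0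
      simp only [finset_sum_coeff, coeff_C_mul_X_pow, coeff_zero] at this
      rw [Finset.sum_eq_single j (fun k _ hk => by simp [Fin.val_ne_of_ne hk.symm]) (by simp)] at this
      simpa [sub_eq_zero] using this
    obtain ⟨τ, hτ⟩ := hbad.infinite_compl.nonempty
    exact ⟨τ, fun y hy hyx hz => hτ (Set.mem_iUnion₂.mpr ⟨y, ⟨hy, hyx⟩, hz⟩)⟩
  let a : A := ∑ j : Fin m, algebraMap ℂ A (τ ^ (j : ℕ)) * (e j - algebraMap ℂ A (x (e j)))
  have hya : ∀ y : A →ₐ[ℂ] ℂ, y a =
      (∑ j : Fin m, Polynomial.C (y (e j) - x (e j)) * Polynomial.X ^ (j : ℕ)).eval τ := fun y => by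
    simp [a, eval_finset_sum, mul_comm]
  have hxa : x a = 0 := by rw [hya]; simp
  -- minimal polynomials over the polynomial ring
  have hbint := Algebra.IsIntegral.isIntegral (R := P) b
  have haint := Algebra.IsIntegral.isIntegral (R := P) a
  let h := (minpoly P b).coeff 0
  have hh : h ≠ 0 := coeff_zero_minpoly_ne_zero hbint hb
  obtain ⟨t, ht, hth⟩ := exists_tendsto_of_ne_zero hh (fun i => u (MvPolynomial.X i))
  have hu : ∀ Q : P, u Q = MvPolynomial.eval (fun i => u (MvPolynomial.X i)) Q := fun Q => by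
    conv_lhs => rw [MvPolynomial.aeval_unique u, MvPolynomial.aeval_eq_eval]
    rfl
  let F := minpoly P a
  have hFm : F.Monic := minpoly.monic haint
  have hdeg : 0 < F.natDegree := minpoly.natDegree_pos haint
  -- lifts with small value at `a`
  have key : ∀ k, ∃ y : A →ₐ[ℂ] ℂ, y b ≠ 0 ∧ (∀ Q : P, y (algebraMap P A Q) = MvPolynomial.eval (t k) Q) ∧
      ‖y a‖ ^ F.natDegree ≤ ‖MvPolynomial.eval (t k) (F.coeff 0)‖ := fun k => by
    let uk : P →ₐ[ℂ] ℂ := MvPolynomial.aeval (t k)
    have huk : ∀ Q, uk Q = MvPolynomial.eval (t k) Q := fun Q => by rw [← MvPolynomial.aeval_eq_eval]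
    have hFk : (F.map uk.toRingHom).natDegree = F.natDegree := hFm.natDegree_map _
    obtain ⟨r, hr, hrb⟩ := exists_small_root (hFm.map uk.toRingHom) (by rw [hFk]; exact hdeg)
    rw [hFk, coeff_map] at hrb
    letI : Algebra P[X] A := (Polynomial.aeval a : P[X] →ₐ[P] A).toRingHom.toAlgebra
    haveI : IsScalarTower P P[X] A := IsScalarTower.of_algebraMap_eq fun c => (aeval_C a c).symm
    haveI : IsScalarTower ℂ P[X] A := IsScalarTower.of_algebraMap_eq fun c => by
      rw [IsScalarTower.algebraMap_apply ℂ P A, IsScalarTower.algebraMap_apply P P[X] A,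
        ← IsScalarTower.algebraMap_apply ℂ P P[X]]
    haveI : Algebra.IsIntegral P[X] A := Algebra.IsIntegral.tower_top P
    let ψ : P[X] →ₐ[ℂ] ℂ := Polynomial.aevalTower uk r
    obtain ⟨y, hy⟩ := exists_point_lift ψ (fun Q hQ => by
      obtain ⟨G, rfl⟩ := minpoly.isIntegrallyClosed_dvd haint (show aeval a Q = 0 from hQ)
      show ψ (F * G) = 0
      rw [map_mul, show ψ F = 0 from (eval₂_eq_eval_map _).trans hr, zero_mul])
    have hyP : ∀ Q : P, y (algebraMap P A Q) = MvPolynomial.eval (t k) Q := fun Q => by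
      rw [IsScalarTower.algebraMap_apply P P[X] A, hy, ← huk]
      exact Polynomial.aevalTower_C uk r Q
    have hya' : y a = r := by
      rw [show a = algebraMap P[X] A Polynomial.X from (aeval_X a).symm, hy]
      exact Polynomial.aevalTower_X uk r
    refine ⟨y, fun hyb => hth k ?_, hyP, by rw [hya', ← huk]; exact hrb⟩
    have := congrArg y (minpoly.aeval P b)
    rw [aeval_def, map_zero] at this
    rw [show y (eval₂ (algebraMap P A) b (minpoly P b)) =
      eval₂ ((y : A →+* ℂ).comp (algebraMap P A)) (y b) (minpoly P b) from hom_eval₂ _ _ (y : A →+* ℂ) b, hyb,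
      eval₂_at_zero] at this
    rw [← hyP]
    exact this
  choose y hyb hyP hyna using key
  -- boundedness
  have hbd : ∀ j, ∃ M : ℝ, ∀ k, ‖y k (e j)‖ ≤ M := fun j => by
    let G := minpoly P (e j)
    have hG : G.Monic := minpoly.monic (Algebra.IsIntegral.isIntegral (e j))
    have hlim : Tendsto (fun k => 1 + ∑ i ∈ Finset.range G.natDegree, ‖MvPolynomial.eval (t k) (G.coeff i)‖) atTop
        (𝓝 (1 + ∑ i ∈ Finset.range G.natDegree, ‖MvPolynomial.eval (fun i => u (MvPolynomial.X i)) (G.coeff i)‖)) :=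
      (tendsto_finset_sum _ fun i _ => ((G.coeff i).continuous_eval.tendsto _ |>.comp ht).norm).const_add 1
    obtain ⟨M, hM⟩ := hlim.bddAbove_range
    refine ⟨M, fun k => le_trans ?_ (hM ⟨k, rfl⟩)⟩
    let v : P →+* ℂ := (y k : A →+* ℂ).comp (algebraMap P A)
    have hroot : (G.map v).IsRoot (y k (e j)) := by
      rw [IsRoot, eval_map]
      have := congrArg (y k) (minpoly.aeval P (e j))
      rw [aeval_def, map_zero] at this
      exact (hom_eval₂ _ _ (y k : A →+* ℂ) (e j)).symm.trans this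
    have := norm_le_of_root (hG.map v) hroot
    simpa only [hG.natDegree_map, coeff_map, v, RingHom.comp_apply, RingHom.coe_coe, hyP k] using this
  choose M hM using hbd
  have hbdd : Bornology.IsBounded (Set.range fun k j => y k (e j)) := by
    refine (isBounded_iff_forall_norm_le).mpr ⟨∑ j, |M j|, ?_⟩
    rintro _ ⟨k, rfl⟩
    refine (pi_norm_le_iff_of_nonneg (Finset.sum_nonneg fun _ _ => abs_nonneg _)).mpr fun j => ?_
    exact ((hM j k).trans (le_abs_self _)).trans
      (Finset.single_le_sum (fun j _ => abs_nonneg (M j)) (Finset.mem_univ j))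
  obtain ⟨L, -, φ, hφ, hL⟩ := tendsto_subseq_of_bounded hbdd (fun k => Set.mem_range_self k)
  obtain ⟨z, hz⟩ := (isClosed_range_coords q hq).mem_of_tendsto hL
    (Eventually.of_forall fun k => ⟨y (φ k), rfl⟩)
  have hzlim : ∀ c : A, Tendsto (fun k => y (φ k) c) atTop (𝓝 (z c)) := fun c => by
    obtain ⟨Pc, rfl⟩ := hq c
    have hev : ∀ w : A →ₐ[ℂ] ℂ, w (q Pc) = MvPolynomial.eval (fun j => w (e j)) Pc := fun w => by
      rw [← MvPolynomial.aeval_eq_eval]
      exact DFunLike.congr_fun (MvPolynomial.aeval_unique (w.comp q)) Pc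
    simp only [hev, show (fun j => z (e j)) = L from hz]
    exact Pc.continuous_eval.tendsto _ |>.comp hL
  have hzu : z.comp g = u := by
    refine MvPolynomial.algHom_ext fun i => ?_
    refine tendsto_nhds_unique (hzlim (g (MvPolynomial.X i))) ?_
    have : (fun k => y (φ k) (g (MvPolynomial.X i))) = fun k => t (φ k) i := funext fun k => by
      exact (hyP (φ k) (MvPolynomial.X i)).trans (MvPolynomial.eval_X i)
    rw [this]
    exact ((tendsto_pi_nhds.mp ht i).comp hφ.tendsto_atTop)
  have hza : z a = 0 := by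
    have hc0 : u (F.coeff 0) = 0 := by
      have := congrArg x (minpoly.aeval P a)
      rw [aeval_def, map_zero, show x (eval₂ (algebraMap P A) a (minpoly P a)) =
        eval₂ ((x : A →+* ℂ).comp (algebraMap P A)) (x a) (minpoly P a) from hom_eval₂ _ _ (x : A →+* ℂ) a,
        hxa, eval₂_at_zero] at this
      exact this
    have h1 : Tendsto (fun k => ‖y (φ k) a‖ ^ F.natDegree) atTop (𝓝 0) := by
      refine squeeze_zero (fun k => by positivity) (fun k => hyna (φ k)) ?_
      have := ((F.coeff 0).continuous_eval.tendsto _ |>.comp (ht.comp hφ.tendsto_atTop)).norm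
      rw [← hu, hc0, norm_zero] at this
      exact this
    have h2 := ((hzlim a).norm.pow F.natDegree)
    have := tendsto_nhds_unique h2 h1
    exact norm_eq_zero.mp (pow_eq_zero_iff hdeg.ne' |>.mp this)
  have hzx : z = x := by
    by_contra hne
    exact hτ z hzu hne (by rw [← hya]; exact hza)
  rw [show (fun i => x (q (MvPolynomial.X i))) = L from hzx ▸ hz]
  exact mem_closure_of_tendsto hL (Eventually.of_forall fun k => ⟨y (φ k), hyb (φ k), rfl⟩)

end Groth.Agent.AnPts
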