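import Groth.Prelude.Def_AnPts
import Mathlib.AlgebraicGeometry.AlgClosed.Basic
import Mathlib.Analysis.Complex.Polynomial.Basic
import Mathlib.Topology.Algebra.MvPolynomial
import Mathlib.AlgebraicGeometry.Morphisms.Immersion
import Mathlib.AlgebraicGeometry.Morphisms.ClosedImmersion
import Groth.Agent.AnPts.Dense

/-!
# The space of complex points: first properties

Evaluation is a ring homomorphism; points are the closed points; immersions give embeddings; the complex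
topology of an affine scheme is the one induced by a set of generators.
-/

set_option autoImplicit false
set_option backward.isDefEq.respectTransparency.types false

open CategoryTheory AlgebraicGeometry Topology TopologicalSpace An

namespace Groth.Agent.AnPts

variable {X Y : Scheme.{0}} [X.Over SC] [Y.Over SC]

section Ev

/-- Evaluation at a point as a ring homomorphism. -/
noncomputable def evHom (x : Pts X) (U : X.Opens) (h : x.pt ∈ U) : Γ(X, U) →+* ℂ :=
  (x.1.appLE U ⊤ (x.top_le_preimage h) ≫ (Scheme.ΓSpecIso (CommRingCat.of ℂ)).hom).hom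

lemma evHom_apply (x : Pts X) (U : X.Opens) (h : x.pt ∈ U) (f : Γ(X, U)) : evHom x U h f = x.ev U h f := rfl

lemma ev_res (x : Pts X) {U V : X.Opens} (e : V ≤ U) (h : x.pt ∈ V) (f : Γ(X, U)) :
    x.ev V h (X.presheaf.map (homOfLE e).op f) = x.ev U (e h) f := by
  unfold An.Pts.ev
  rw [← Scheme.Hom.map_appLE x.1 (x.top_le_preimage h) (homOfLE e).op]
  rfl

lemma evTop_eq (x : Pts X) (f : Γ(X, ⊤)) :
    x.evTop f = (Scheme.ΓSpecIso (CommRingCat.of ℂ)).hom (x.1.appTop f) := by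
  unfold An.Pts.evTop An.Pts.ev
  rw [Scheme.Hom.appLE, Scheme.Hom.appTop]
  simp

lemma evTop_strHom (x : Pts X) (c : ℂ) : x.evTop (strHom X c) = c := by
  rw [evTop_eq]
  have h := congrArg (fun m : SC ⟶ SC => m.appTop) x.2
  rw [Scheme.Hom.comp_appTop, Scheme.Hom.id_appTop] at h
  show (Scheme.ΓSpecIso (CommRingCat.of ℂ)).hom
    (((X ↘ SC).appTop ≫ x.1.appTop) ((Scheme.ΓSpecIso (CommRingCat.of ℂ)).inv c)) = c
  rw [h]
  exact congrArg (fun m => m.hom c) (Scheme.ΓSpecIso (CommRingCat.of ℂ)).inv_hom_id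

/-- Evaluation of global sections, as an algebra homomorphism. -/
noncomputable def evAlg (x : Pts X) : Γ(X, ⊤) →ₐ[ℂ] ℂ :=
  { evHom x ⊤ trivial with commutes' := fun c => evTop_strHom x c }

lemma evAlg_apply (x : Pts X) (f : Γ(X, ⊤)) : evAlg x f = x.evTop f := rfl

lemma mem_basicOpen_iff (x : Pts X) {U : X.Opens} (h : x.pt ∈ U) (f : Γ(X, U)) :
    x.pt ∈ X.basicOpen f ↔ x.ev U h f ≠ 0 := by
  obtain ⟨c, hc⟩ : ∃ c, (Scheme.ΓSpecIso (CommRingCat.of ℂ)).inv c = x.1.appLE U ⊤ (x.top_le_preimage h) f :=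
    ⟨(Scheme.ΓSpecIso (CommRingCat.of ℂ)).hom _,
      congrArg (fun m : Γ(SC, ⊤) ⟶ Γ(SC, ⊤) => m.hom _) (Scheme.ΓSpecIso (CommRingCat.of ℂ)).hom_inv_id⟩
  have hev : x.ev U h f = c := by
    unfold An.Pts.ev
    rw [← hc]
    exact congrArg (fun m => m.hom c) (Scheme.ΓSpecIso (CommRingCat.of ℂ)).inv_hom_id
  have h1 : SC.basicOpen (x.1.appLE U ⊤ (x.top_le_preimage h) f) = ⊤ ⊓ x.1 ⁻¹ᵁ X.basicOpen f :=
    Scheme.basicOpen_appLE x.1 ⊤ U _ f
  rw [← hc, basicOpen_eq_of_affine] at h1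
  have h2 : cpt ∈ x.1 ⁻¹ᵁ X.basicOpen f ↔ (cpt : PrimeSpectrum ℂ) ∈ PrimeSpectrum.basicOpen c := by
    constructor
    · intro hm; exact h1.ge ⟨trivial, hm⟩
    · intro hm; exact (h1.le hm).2
  rw [hev]
  refine h2.trans ?_
  show c ∉ (cpt : PrimeSpectrum ℂ).asIdeal ↔ c ≠ 0
  rcases Ideal.eq_bot_or_top (cpt : PrimeSpectrum ℂ).asIdeal with e | e
  · rw [e]; rfl
  · exact absurd e (cpt : PrimeSpectrum ℂ).isPrime.ne_top

end Ev

section Points

variable [LocallyOfFiniteType (X ↘ SC)]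

lemma pt_injective : Function.Injective (Pts.pt : Pts X → X) := fun x y h => by
  have e : ((pointEquivClosedPoint (X ↘ SC)) ⟨x.1, x.2⟩ : X) = (pointEquivClosedPoint (X ↘ SC)) ⟨y.1, y.2⟩ := by
    show x.1 (IsLocalRing.closedPoint ℂ) = y.1 (IsLocalRing.closedPoint ℂ)
    rw [An.eq_cpt (IsLocalRing.closedPoint ℂ)]
    exact h
  exact Subtype.ext (congrArg Subtype.val ((pointEquivClosedPoint (X ↘ SC)).injective (Subtype.ext e)))

lemma exists_pts {z : X} (hz : IsClosed {z}) : ∃ x : Pts X, x.pt = z :=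
  ⟨⟨pointOfClosedPoint (X ↘ SC) z hz, pointOfClosedPoint_comp _ z hz⟩, pointOfClosedPoint_apply _ z hz _⟩

lemma isClosed_pt (x : Pts X) : IsClosed {x.pt} := by
  have := ((pointEquivClosedPoint (X ↘ SC)) ⟨x.1, x.2⟩).2
  show IsClosed {x.1 cpt}
  rw [← An.eq_cpt (IsLocalRing.closedPoint ℂ)]
  exact this

lemma jacobsonSpace : JacobsonSpace X := LocallyOfFiniteType.jacobsonSpace (X ↘ SC)

lemma preimage_pt_nonempty {Z : Set X} (hZ : Z.Nonempty) (hZ' : IsLocallyClosed Z) :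
    (Pts.pt ⁻¹' Z : Set (Pts X)).Nonempty := by
  haveI := jacobsonSpace (X := X)
  obtain ⟨z, hzZ, hz⟩ := nonempty_inter_closedPoints hZ hZ'
  obtain ⟨x, hx⟩ := exists_pts hz
  exact ⟨x, show x.pt ∈ Z by rw [hx]; exact hzZ⟩

variable [LocallyOfFiniteType (Y ↘ SC)]

/-- The image on points is given by the image on the underlying spaces. -/
lemma range_map (f : X ⟶ Y) [f.IsOver SC] : Set.range (Pts.map f) = Pts.pt ⁻¹' Set.range f := by
  ext y
  constructor
  · rintro ⟨x, rfl⟩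
    exact ⟨x.pt, (Pts.pt_map f x).symm⟩
  · rintro ⟨x', hx'⟩
    obtain ⟨x, hx⟩ := preimage_pt_nonempty (X := X) (Z := f ⁻¹' {y.pt}) ⟨x', hx'⟩
      ((isClosed_pt y).preimage f.continuous).isLocallyClosed
    exact ⟨x, pt_injective (X := Y) ((Pts.pt_map f x).trans hx)⟩

omit [LocallyOfFiniteType (X ↘ SC)] [LocallyOfFiniteType (Y ↘ SC)] in
lemma map_injective_of_mono (f : X ⟶ Y) [f.IsOver SC] [Mono f] : Function.Injective (Pts.map f) :=
  fun _ _ h => Subtype.ext ((cancel_mono f).mp (congrArg Subtype.val h))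

end Points

section Immersions

omit [X.Over SC] [Y.Over SC]

variable [X.Over SC] [Y.Over SC]

/-- An open immersion induces an embedding. -/
lemma isInducing_map_of_isOpenImmersion (f : X ⟶ Y) [f.IsOver SC] [IsOpenImmersion f] :
    IsInducing (Pts.map f) := by
  refine ⟨le_antisymm (Pts.continuous_map f).le_induced ?_⟩
  refine le_generateFrom ?_
  rintro _ ⟨U, s, V, hV, rfl⟩
  refine ⟨Pts.basicSet (f ''ᵁ U) ((f.appIso U).inv s) V, Pts.isOpen_basicSet _ _ hV, ?_⟩
  rw [Pts.preimage_basicSet]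
  have hU : f ⁻¹ᵁ (f ''ᵁ U) = U := f.preimage_image_eq U
  ext x
  have key : ∀ (h : x.pt ∈ f ⁻¹ᵁ (f ''ᵁ U)) (h' : x.pt ∈ U),
      x.ev _ h (f.app (f ''ᵁ U) ((f.appIso U).inv s)) = x.ev U h' s := fun h h' => by
    have e : f.app (f ''ᵁ U) ((f.appIso U).inv s) = X.presheaf.map (homOfLE hU.le).op s :=
      congrArg (fun m => m.hom s) (f.appIso_inv_app U)
    rw [e, ev_res x hU.le h]
  constructor
  · rintro ⟨h, hv⟩
    exact ⟨hU.le h, key h (hU.le h) ▸ hv⟩
  · rintro ⟨h, hv⟩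
    exact ⟨hU.ge h, (key (hU.ge h) h).symm ▸ hv⟩

/-- A closed immersion induces an inducing map. -/
lemma isInducing_map_of_isClosedImmersion (f : X ⟶ Y) [f.IsOver SC] [IsClosedImmersion f] :
    IsInducing (Pts.map f) := by
  refine ⟨le_antisymm (Pts.continuous_map f).le_induced ?_⟩
  refine le_generateFrom ?_
  rintro _ ⟨U, s, V, hV, rfl⟩
  rw [@isOpen_iff_forall_mem_open _ (TopologicalSpace.induced (Pts.map f) inferInstance)]
  rintro x ⟨hxU, hxV⟩
  obtain ⟨U', hU'o, hU'⟩ := f.isClosedEmbedding.isInducing.isOpen_iff.mp U.2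
  have hfx : f x.pt ∈ U' := hU'.ge hxU
  obtain ⟨_, ⟨W, hW, rfl⟩, hxW, hWU'⟩ :=
    Y.isBasis_affineOpens.exists_subset_of_mem_open hfx hU'o
  have hle : f ⁻¹ᵁ W ≤ U := fun z hz => hU'.le (hWU' hz)
  obtain ⟨s', hs'⟩ := f.app_surjective W hW
    (X.presheaf.map (homOfLE hle).op s)
  refine ⟨Pts.map f ⁻¹' Pts.basicSet W s' V, ?_, ⟨_, Pts.isOpen_basicSet _ _ hV, rfl⟩, ?_⟩
  · rw [Pts.preimage_basicSet, hs']
    rintro y ⟨h, hv⟩
    exact ⟨hle h, by rwa [ev_res y hle h] at hv⟩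
  · rw [Pts.preimage_basicSet, hs']
    exact ⟨hxW, by rwa [ev_res x hle]⟩

lemma isEmbedding_map_of_isOpenImmersion (f : X ⟶ Y) [f.IsOver SC] [IsOpenImmersion f] :
    IsEmbedding (Pts.map f) := ⟨isInducing_map_of_isOpenImmersion f, map_injective_of_mono f⟩

lemma isEmbedding_map_of_isClosedImmersion (f : X ⟶ Y) [f.IsOver SC] [IsClosedImmersion f] :
    IsEmbedding (Pts.map f) := ⟨isInducing_map_of_isClosedImmersion f, map_injective_of_mono f⟩

variable [LocallyOfFiniteType (X ↘ SC)] [LocallyOfFiniteType (Y ↘ SC)]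

lemma isOpenEmbedding_map (f : X ⟶ Y) [f.IsOver SC] [IsOpenImmersion f] : IsOpenEmbedding (Pts.map f) :=
  ⟨isEmbedding_map_of_isOpenImmersion f, by
    rw [range_map]; exact f.isOpenEmbedding.isOpen_range.preimage Pts.continuous_pt⟩

lemma isClosedEmbedding_map (f : X ⟶ Y) [f.IsOver SC] [IsClosedImmersion f] : IsClosedEmbedding (Pts.map f) :=
  ⟨isEmbedding_map_of_isClosedImmersion f, by
    rw [range_map]; exact f.isClosedEmbedding.isClosed_range.preimage Pts.continuous_pt⟩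

lemma isEmbedding_map_of_isImmersion (f : X ⟶ Y) [f.IsOver SC] [IsImmersion f] :
    IsEmbedding (Pts.map f) := by
  letI : (f.coborderRange : Scheme).Over SC := ⟨f.coborderRange.ι ≫ Y ↘ SC⟩
  haveI : f.coborderRange.ι.IsOver SC := ⟨rfl⟩
  haveI : f.liftCoborder.IsOver SC := ⟨by
    show f.liftCoborder ≫ f.coborderRange.ι ≫ Y ↘ SC = _
    rw [← Category.assoc, f.liftCoborder_ι, comp_over f]⟩
  have e : Pts.map f = Pts.map f.coborderRange.ι ∘ Pts.map f.liftCoborder := funext fun x => Subtype.ext (by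
    show x.1 ≫ f = (x.1 ≫ f.liftCoborder) ≫ f.coborderRange.ι
    rw [Category.assoc, f.liftCoborder_ι])
  rw [e]
  exact (isEmbedding_map_of_isOpenImmersion _).comp (isEmbedding_map_of_isClosedImmersion _)

lemma isLocallyClosed_range_map (f : X ⟶ Y) [f.IsOver SC] [IsImmersion f] :
    IsLocallyClosed (Set.range (Pts.map f)) := by
  rw [range_map]
  exact f.isLocallyClosed_range.preimage Pts.continuous_pt

end Immersions

section Affine

variable [IsAffine X]

lemma ext_of_evTop {x y : Pts X} (h : ∀ f, x.evTop f = y.evTop f) : x = y := by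
  refine Subtype.ext (ext_of_isAffine ?_)
  ext f
  have := h f
  rw [evTop_eq, evTop_eq] at this
  exact (ConcreteCategory.bijective_of_isIso (Scheme.ΓSpecIso (CommRingCat.of ℂ)).hom).1 this

/-- A point with prescribed values. -/
lemma exists_evTop_eq (φ : Γ(X, ⊤) →ₐ[ℂ] ℂ) : ∃ x : Pts X, ∀ f, x.evTop f = φ f := by
  let p : SC ⟶ X := Spec.map (CommRingCat.ofHom φ.toRingHom) ≫ X.isoSpec.inv
  have hp : p.appTop = CommRingCat.ofHom φ.toRingHom ≫ (Scheme.ΓSpecIso (CommRingCat.of ℂ)).inv := by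
    haveI : IsIso X.isoSpec.hom.appTop := inferInstanceAs (IsIso (X.isoSpec.hom.app ⊤))
    have h1 : X.isoSpec.inv.appTop = (Scheme.ΓSpecIso Γ(X, ⊤)).inv := by
      rw [← cancel_epi X.isoSpec.hom.appTop, ← Scheme.Hom.comp_appTop, Iso.inv_hom_id,
        Scheme.isoSpec_hom, Scheme.toSpecΓ_appTop, Iso.hom_inv_id, Scheme.Hom.id_appTop]
    rw [Scheme.Hom.comp_appTop, h1]
    exact (Scheme.ΓSpecIso_inv_naturality (CommRingCat.ofHom φ.toRingHom)).symm
  have hsec : p ≫ (X ↘ SC) = 𝟙 SC := by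
    refine ext_of_isAffine ?_
    rw [Scheme.Hom.comp_appTop, hp, Scheme.Hom.id_appTop]
    ext c
    obtain ⟨c', rfl⟩ := (ConcreteCategory.bijective_of_isIso (Scheme.ΓSpecIso (CommRingCat.of ℂ)).inv).2 c
    exact congrArg (Scheme.ΓSpecIso (CommRingCat.of ℂ)).inv.hom (φ.commutes c')
  refine ⟨⟨p, hsec⟩, fun f => ?_⟩
  rw [evTop_eq]
  show (Scheme.ΓSpecIso (CommRingCat.of ℂ)).hom (p.appTop f) = _
  rw [hp]
  exact congrArg (fun m => m.hom (φ f)) (Scheme.ΓSpecIso (CommRingCat.of ℂ)).inv_hom_id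

lemma finiteType_top [LocallyOfFiniteType (X ↘ SC)] : Algebra.FiniteType ℂ Γ(X, ⊤) := by
  have h : (X ↘ SC).appTop.hom.FiniteType :=
    (HasRingHomProperty.iff_of_isAffine (P := @LocallyOfFiniteType)).mp ‹_›
  exact h.comp (RingHom.FiniteType.of_surjective _
    (ConcreteCategory.bijective_of_isIso (Scheme.ΓSpecIso (CommRingCat.of ℂ)).inv).2)

variable {m : ℕ} (q : MvPolynomial (Fin m) ℂ →ₐ[ℂ] Γ(X, ⊤))

/-- The coordinates of a point. -/
noncomputable def coords (x : Pts X) (i : Fin m) : ℂ := x.evTop (q (MvPolynomial.X i))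

lemma evTop_eq_eval (x : Pts X) (P : MvPolynomial (Fin m) ℂ) :
    x.evTop (q P) = MvPolynomial.eval (coords q x) P := by
  rw [← MvPolynomial.aeval_eq_eval]
  exact DFunLike.congr_fun (MvPolynomial.aeval_unique ((evAlg x).comp q)) P

omit [IsAffine X] in
lemma continuous_evTop (f : Γ(X, ⊤)) : Continuous fun x : Pts X => x.evTop f := by
  refine continuous_def.mpr fun V hV => ?_
  have : (fun x : Pts X => x.evTop f) ⁻¹' V = Pts.basicSet ⊤ f V :=
    Set.ext fun x => ⟨fun h => ⟨trivial, h⟩, fun ⟨_, h⟩ => h⟩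
  rw [this]
  exact Pts.isOpen_basicSet _ _ hV

/-- The complex topology of an affine scheme is induced by generators. -/
theorem isClosedEmbedding_coords (hq : Function.Surjective q) : IsClosedEmbedding (coords q) := by
  have hcont : Continuous (coords q) := continuous_pi fun i => continuous_evTop _
  refine ⟨⟨⟨le_antisymm hcont.le_induced (le_generateFrom ?_)⟩, fun x y h => ext_of_evTop fun f => ?_⟩, ?_⟩
  · rintro _ ⟨U, s, V, hV, rfl⟩
    rw [@isOpen_iff_forall_mem_open _ (TopologicalSpace.induced (coords q) inferInstance)]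
    rintro x ⟨hxU, hxV⟩
    obtain ⟨g, hgU, hxg⟩ := (isAffineOpen_top X).exists_basicOpen_le (V := U) ⟨x.pt, hxU⟩ trivial
    haveI := (isAffineOpen_top X).isLocalization_basicOpen g
    obtain ⟨⟨a, ⟨_, k, rfl⟩⟩, hak⟩ := IsLocalization.surj (Submonoid.powers g)
      (X.presheaf.map (homOfLE hgU).op s)
    obtain ⟨Pg, rfl⟩ := hq g
    obtain ⟨Pa, rfl⟩ := hq a
    have key : ∀ y : Pts X, ∀ h : MvPolynomial.eval (coords q y) Pg ≠ 0, ∃ hU : y.pt ∈ U,
        y.ev U hU s = MvPolynomial.eval (coords q y) Pa / MvPolynomial.eval (coords q y) Pg ^ k := fun y h => by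
      have hy : y.pt ∈ X.basicOpen (q Pg) := (mem_basicOpen_iff y (Opens.mem_top _) _).mpr (by
        show y.evTop _ ≠ 0
        rw [evTop_eq_eval]; exact h)
      refine ⟨hgU hy, (eq_div_iff (pow_ne_zero k h)).mpr ?_⟩
      have := congrArg (evHom y _ hy) hak
      rw [map_mul] at this
      simp only [evHom_apply] at this
      rw [ev_res y hgU hy] at this
      have hres : ∀ c : Γ(X, ⊤), y.ev _ hy (algebraMap Γ(X, ⊤) Γ(X, X.basicOpen (q Pg)) c) = y.evTop c :=
        fun c => ev_res y (U := ⊤) le_top hy c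
      rw [hres, hres] at this
      rw [← evTop_eq_eval, ← evTop_eq_eval,
        show y.evTop (q Pg) ^ k = y.evTop (q Pg ^ k) from (map_pow (evAlg y) _ _).symm]
      exact this
    let O : Set (Fin m → ℂ) := {z | MvPolynomial.eval z Pg ≠ 0} ∩
      (fun z => MvPolynomial.eval z Pa / MvPolynomial.eval z Pg ^ k) ⁻¹' V
    refine ⟨coords q ⁻¹' O, fun y hy => ?_, ⟨O, ?_, rfl⟩, ?_⟩
    · obtain ⟨hU, e⟩ := key y hy.1
      exact ⟨hU, e ▸ hy.2⟩
    · exact (ContinuousOn.div Pa.continuous_eval.continuousOn (Pg.continuous_eval.pow k).continuousOn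
        fun z hz => pow_ne_zero k hz).isOpen_inter_preimage (isOpen_ne_fun Pg.continuous_eval continuous_const) hV
    · have hx0 : MvPolynomial.eval (coords q x) Pg ≠ 0 := by
        rw [← evTop_eq_eval]; exact (mem_basicOpen_iff x (Opens.mem_top _) _).mp hxg
      obtain ⟨hU, e⟩ := key x hx0
      exact ⟨hx0, show _ / _ ∈ V from e ▸ hxV⟩
  · obtain ⟨P, rfl⟩ := hq f
    rw [evTop_eq_eval, evTop_eq_eval, h]
  · convert isClosed_range_coords q hq using 1
    ext z
    constructor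
    · rintro ⟨x, rfl⟩; exact ⟨evAlg x, rfl⟩
    · rintro ⟨φ, rfl⟩
      obtain ⟨x, hx⟩ := exists_evTop_eq φ
      exact ⟨x, funext fun i => hx _⟩

end Affine

end Groth.Agent.AnPts
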