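import Groth.Agent.AnPts.Basic
import Mathlib.RingTheory.Spectrum.Prime.ConstructibleSet
import Mathlib.RingTheory.Ideal.MinimalPrime.Noetherian
import Mathlib.Topology.Constructible
import Mathlib.AlgebraicGeometry.Noetherian

/-!
# Closure of a constructible set in the complex topology
-/

set_option autoImplicit false
set_option backward.isDefEq.respectTransparency.types false

open CategoryTheory AlgebraicGeometry Topology TopologicalSpace An

namespace Groth.Agent.AnPts

variable {X : Scheme.{0}} [X.Over SC]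

/-- A prime of a basic constructible set below a given point of its closure. -/
theorem exists_prime_le_of_mem_closure {R : Type*} [CommRing R] [IsNoetherianRing R]
    (C : PrimeSpectrum.BasicConstructibleSetData R) {m : PrimeSpectrum R} (hm : m ∈ closure C.toSet) :
    ∃ q : Ideal R, q.IsPrime ∧ (∀ i, C.g i ∈ q) ∧ C.f ∉ q ∧ q ≤ m.asIdeal := by
  classical
  let J : Ideal R := Ideal.span (Set.range C.g)
  have hfin : {q ∈ J.minimalPrimes | C.f ∉ q}.Finite :=
    (Ideal.finite_minimalPrimes_of_isNoetherianRing R J).subset fun q hq => hq.1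
  let I : Ideal R := ∏ q ∈ hfin.toFinset, q
  have hsub : C.toSet ⊆ PrimeSpectrum.zeroLocus (I : Set R) := by
    rintro p ⟨hg, hf⟩
    have hJ : J ≤ p.asIdeal := Ideal.span_le.mpr hg
    obtain ⟨q, hq, hqp⟩ := Ideal.exists_minimalPrimes_le hJ
    have hfq : C.f ∉ q := fun h => hf (by
      rw [PrimeSpectrum.mem_zeroLocus, Set.singleton_subset_iff]; exact hqp h)
    exact le_trans (Ideal.prod_le_inf.trans (Finset.inf_le (hfin.mem_toFinset.mpr ⟨hq, hfq⟩))) hqp
  have hIm : I ≤ m.asIdeal := (PrimeSpectrum.mem_zeroLocus _ _).mp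
    ((PrimeSpectrum.isClosed_zeroLocus (I : Set R)).closure_subset_iff.mpr hsub hm)
  obtain ⟨q, hq, hqm⟩ := (Ideal.IsPrime.prod_le m.isPrime).mp hIm
  obtain ⟨hqmin, hfq⟩ := hfin.mem_toFinset.mp hq
  exact ⟨q, hqmin.1.1, fun i => hqmin.1.2 (Ideal.subset_span ⟨i, rfl⟩), hfq, hqm⟩

lemma mem_basicOpen_isoSpec [IsAffine X] (z : X) (a : Γ(X, ⊤)) :
    a ∉ ((X.isoSpec.hom z : PrimeSpectrum Γ(X, ⊤))).asIdeal ↔ z ∈ X.basicOpen a := by
  rw [← X.toSpecΓ_preimage_basicOpen a]
  rfl

lemma mem_asIdeal_iff [IsAffine X] (x : Pts X) (a : Γ(X, ⊤)) :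
    a ∈ ((X.isoSpec.hom x.pt : PrimeSpectrum Γ(X, ⊤))).asIdeal ↔ x.evTop a = 0 := by
  rw [← not_iff_not, mem_basicOpen_isoSpec, mem_basicOpen_iff x (Opens.mem_top _) a]

/-- The affine case. -/
theorem mem_closure_of_isAffine [IsAffine X] [LocallyOfFiniteType (X ↘ SC)] {T : Set X}
    (hT : IsConstructible T) (x : Pts X) (hx : x.pt ∈ closure T) :
    x ∈ closure (Pts.pt ⁻¹' T : Set (Pts X)) := by
  haveI := finiteType_top (X := X)
  haveI : IsNoetherianRing Γ(X, ⊤) := Algebra.FiniteType.isNoetherianRing ℂ _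
  obtain ⟨n, q, hq⟩ := Algebra.FiniteType.iff_quotient_mvPolynomial''.mp ‹Algebra.FiniteType ℂ Γ(X, ⊤)›
  let e := X.isoSpec.hom.homeomorph
  have hS : IsConstructible (e.symm ⁻¹' T) := hT.preimage_of_isOpenEmbedding e.symm.isOpenEmbedding
  obtain ⟨D, hD⟩ := PrimeSpectrum.exists_constructibleSetData_iff.mpr hS
  have hx' : e x.pt ∈ closure (e.symm ⁻¹' T) := by
    rw [← e.symm.preimage_closure]
    show e.symm (e x.pt) ∈ closure T
    rwa [e.symm_apply_apply]
  have hD' : e.symm ⁻¹' T = ⋃ C ∈ D, C.toSet := hD.symm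
  rw [hD'] at hx'
  replace hx' : (e x.pt : PrimeSpectrum Γ(X, ⊤)) ∈ closure (⋃ C ∈ (D : Set (PrimeSpectrum.BasicConstructibleSetData Γ(X, ⊤))), C.toSet) := hx'
  rw [D.finite_toSet.closure_biUnion] at hx'
  obtain ⟨C, hC, hxC⟩ := Set.mem_iUnion₂.mp hx'
  obtain ⟨p, hp, hgp, hfp, hpm⟩ := exists_prime_le_of_mem_closure C hxC
  haveI := hp
  let xbar : (Γ(X, ⊤) ⧸ p) →ₐ[ℂ] ℂ := Ideal.Quotient.liftₐ p (evAlg x) fun a ha => (mem_asIdeal_iff x a).mp (hpm ha)
  have hden := mem_closure_coords ((Ideal.Quotient.mkₐ ℂ p).comp q)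
    ((Ideal.Quotient.mkₐ_surjective ℂ p).comp hq) (b := Ideal.Quotient.mk p C.f)
    (fun h => hfp (Ideal.Quotient.eq_zero_iff_mem.mp h)) xbar
  rw [(isClosedEmbedding_coords q hq).isInducing.closure_eq_preimage_closure_image, Set.mem_preimage]
  refine closure_mono ?_ hden
  rintro _ ⟨y, hy, rfl⟩
  obtain ⟨z, hz⟩ := exists_evTop_eq (X := X) (y.comp (Ideal.Quotient.mkₐ ℂ p))
  refine ⟨z, ?_, funext fun i => hz _⟩
  have hz' : e z.pt ∈ C.toSet := by
    refine ⟨?_, fun h => hy ?_⟩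
    · rintro _ ⟨i, rfl⟩
      refine (mem_asIdeal_iff z _).mpr ((hz _).trans ?_)
      show y (Ideal.Quotient.mk p (C.g i)) = 0
      rw [Ideal.Quotient.eq_zero_iff_mem.mpr (hgp i), map_zero]
    · exact (hz C.f).symm.trans ((mem_asIdeal_iff z _).mp (h rfl))
  have : e z.pt ∈ e.symm ⁻¹' T := hD'.ge (Set.mem_biUnion hC hz')
  simpa using this

/-- Closure in the complex topology of the points of a locally constructible set. -/
theorem preimage_closure [LocallyOfFiniteType (X ↘ SC)] {T : Set X} (hT : IsLocallyConstructible T) :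
    (Pts.pt ⁻¹' closure T : Set (Pts X)) = closure (Pts.pt ⁻¹' T) := by
  refine Set.Subset.antisymm (fun x hx => ?_) (Pts.continuous_pt.closure_preimage_subset T)
  obtain ⟨_, ⟨W, hW, rfl⟩, hxW, -⟩ :=
    X.isBasis_affineOpens.exists_subset_of_mem_open (Set.mem_univ x.pt) isOpen_univ
  letI : (W : Scheme).Over SC := ⟨(Scheme.Opens.ι W) ≫ X ↘ SC⟩
  haveI : (Scheme.Opens.ι W).IsOver SC := ⟨rfl⟩
  haveI : IsAffine (W : Scheme) := hW
  haveI : LocallyOfFiniteType ((W : Scheme) ↘ SC) := inferInstanceAs (LocallyOfFiniteType ((Scheme.Opens.ι W) ≫ X ↘ SC))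
  obtain ⟨x', rfl⟩ : x ∈ Set.range (Pts.map (Scheme.Opens.ι W)) := by
    rw [range_map]; exact ⟨⟨_, hxW⟩, rfl⟩
  haveI : CompactSpace (W : Scheme) := inferInstance
  have hT' : IsConstructible ((Scheme.Opens.ι W) ⁻¹' T) :=
    (hT.preimage_of_isOpenEmbedding (Scheme.Opens.ι W).isOpenEmbedding).isConstructible
  have hx' : x'.pt ∈ closure ((Scheme.Opens.ι W) ⁻¹' T) := by
    rw [← (Scheme.Opens.ι W).isOpenEmbedding.isOpenMap.preimage_closure_eq_closure_preimage (Scheme.Opens.ι W).continuous]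
    show (Scheme.Opens.ι W) x'.pt ∈ closure T
    rw [← Pts.pt_map (Scheme.Opens.ι W) x']; exact hx
  refine map_mem_closure (Pts.continuous_map (Scheme.Opens.ι W)) (mem_closure_of_isAffine hT' x' hx') fun y hy => ?_
  show (Pts.map (Scheme.Opens.ι W) y).pt ∈ T
  rw [Pts.pt_map]
  exact hy

omit [X.Over SC] in
lemma isLocallyConstructible_compl {T : Set X} (hT : IsLocallyConstructible T) :
    IsLocallyConstructible (Tᶜ : Set X) := fun x => by
  obtain ⟨U, hU, hUo, hc⟩ := hT x
  exact ⟨U, hU, hUo, hc.compl⟩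

omit [X.Over SC] in
lemma isLocallyConstructible_of_isClosed [IsLocallyNoetherian X] {s : Set X} (hs : IsClosed s) :
    IsLocallyConstructible (s : Set X) := fun x => by
  obtain ⟨_, ⟨W, hW, rfl⟩, hxW, -⟩ :=
    X.isBasis_affineOpens.exists_subset_of_mem_open (Set.mem_univ x) isOpen_univ
  haveI : IsAffine (W : Scheme) := hW
  haveI : IsLocallyNoetherian (W : Scheme) := LocallyOfFiniteType.isLocallyNoetherian (Scheme.Opens.ι W)
  haveI : AlgebraicGeometry.IsNoetherian (W : Scheme) := {}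
  haveI : NoetherianSpace ↥(W : Scheme) := IsNoetherian.noetherianSpace (X := (W : Scheme))
  refine ⟨W, W.2.mem_nhds hxW, W.2, isConstructible_compl.mp ?_⟩
  have ho : IsOpen ((Subtype.val ⁻¹' s : Set (W : Set X)))ᶜ := (hs.preimage continuous_subtype_val).isOpen_compl
  have hr : IsRetrocompact ((Subtype.val ⁻¹' s : Set ↥(W : Scheme)))ᶜ := fun t _ _ => TopologicalSpace.NoetherianSpace.isCompact _
  exact hr.isConstructible ho

variable [LocallyOfFiniteType (X ↘ SC)]

/-- Closed sets are determined by their complex points. -/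
theorem subset_of_preimage_pt_subset {S : Set X} {C : Set X} (hS : IsLocallyClosed S) (hC : IsClosed C)
    (h : (Pts.pt ⁻¹' S : Set (Pts X)) ⊆ Pts.pt ⁻¹' C) : S ⊆ C := by
  intro z hz
  by_contra hzC
  obtain ⟨x, hx⟩ := preimage_pt_nonempty (X := X) (show (S ∩ Cᶜ).Nonempty from ⟨z, hz, hzC⟩) (hS.inter hC.isOpen_compl.isLocallyClosed)
  exact hx.2 (h hx.1)

/-- A nonempty locally constructible set has a complex point. -/
theorem preimage_pt_nonempty_of_isLocallyConstructible {T : Set X} (hT : IsLocallyConstructible T)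
    (h : T.Nonempty) : (Pts.pt ⁻¹' T : Set (Pts X)).Nonempty := by
  by_contra h0
  rw [Set.not_nonempty_iff_eq_empty] at h0
  have h1 := preimage_closure hT
  rw [h0, closure_empty] at h1
  obtain ⟨x, hx⟩ := preimage_pt_nonempty (X := X) (h.mono subset_closure) isClosed_closure.isLocallyClosed
  exact (h1 ▸ hx : x ∈ (∅ : Set (Pts X)))

theorem subset_of_preimage_pt_subset' {S T : Set X} (hS : IsLocallyConstructible S) (hT : IsLocallyConstructible T)
    (h : (Pts.pt ⁻¹' S : Set (Pts X)) ⊆ Pts.pt ⁻¹' T) : S ⊆ T := by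
  intro z hz
  by_contra hzT
  obtain ⟨x, hx⟩ := preimage_pt_nonempty_of_isLocallyConstructible (hS.inter (isLocallyConstructible_compl hT)) ⟨z, hz, hzT⟩
  exact hx.2 (h hx.1)

theorem isClosed_iff {T : Set X} (hT : IsLocallyConstructible T) :
    IsClosed T ↔ IsClosed (Pts.pt ⁻¹' T : Set (Pts X)) := by
  refine ⟨fun h => h.preimage Pts.continuous_pt, fun h => ?_⟩
  have h1 : (Pts.pt ⁻¹' closure T : Set (Pts X)) ⊆ Pts.pt ⁻¹' T := by
    rw [preimage_closure hT, h.closure_eq]
  refine isClosed_of_closure_subset fun z hz => ?_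
  by_contra hzT
  have hlc : ∀ (s : Set X), IsClosed s → IsLocallyConstructible (s : Set X) := fun s hs =>
    haveI : IsLocallyNoetherian X := LocallyOfFiniteType.isLocallyNoetherian (X ↘ SC)
    isLocallyConstructible_of_isClosed hs
  exact hzT (subset_of_preimage_pt_subset' (hlc _ isClosed_closure) hT h1 hz)

theorem isOpen_iff {T : Set X} (hT : IsLocallyConstructible T) :
    IsOpen T ↔ IsOpen (Pts.pt ⁻¹' T : Set (Pts X)) := by
  rw [← isClosed_compl_iff, isClosed_iff (isLocallyConstructible_compl hT), Set.preimage_compl, isClosed_compl_iff]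

theorem dense_iff {T : Set X} (hT : IsLocallyConstructible T) :
    Dense T ↔ Dense (Pts.pt ⁻¹' T : Set (Pts X)) := by
  rw [dense_iff_closure_eq, dense_iff_closure_eq, ← preimage_closure hT]
  refine ⟨fun h => by rw [h, Set.preimage_univ], fun h => Set.eq_univ_of_univ_subset ?_⟩
  exact subset_of_preimage_pt_subset isOpen_univ.isLocallyClosed isClosed_closure (by rw [h]; exact fun _ _ => trivial)

end Groth.Agent.AnPts
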