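import Mathlib.Analysis.Complex.Liouville
import Mathlib.Analysis.Complex.RemovableSingularity
import Mathlib.Analysis.Calculus.DSlope
import Mathlib.LinearAlgebra.Lagrange
import Mathlib.Algebra.MvPolynomial.Funext
import Mathlib.Algebra.MvPolynomial.Equiv
import Mathlib.Topology.Algebra.MvPolynomial

/-!
# Holomorphic functions of polynomial growth off a hypersurface are polynomials

A continuous function on the complement of a hypersurface of `ℂ^d` which is holomorphic in each
variable and grows at most polynomially is the restriction of a polynomial.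
-/

set_option autoImplicit false

open Filter Topology Function

namespace Groth.Agent.AnPts

/-- An entire function of polynomial growth is a polynomial. -/
theorem exists_polynomial_of_growth : ∀ (N : ℕ) {g : ℂ → ℂ}, Differentiable ℂ g → ∀ {C : ℝ},
    (∀ z, ‖g z‖ ≤ C * (1 + ‖z‖) ^ N) → ∃ P : Polynomial ℂ, P.natDegree ≤ N ∧ ∀ z, g z = P.eval z := by
  intro N
  induction N with
  | zero =>
    intro g hg C hb
    refine ⟨Polynomial.C (g 0), by simp, fun z => ?_⟩
    rw [Polynomial.eval_C]
    refine hg.apply_eq_apply_of_bounded (isBounded_iff_forall_norm_le.mpr ⟨C, ?_⟩) z 0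
    rintro _ ⟨w, rfl⟩
    simpa using hb w
  | succ N ih =>
    intro g hg C hb
    have hC : 0 ≤ C := by
      have := (norm_nonneg _).trans (hb 0)
      simpa using this
    have hh : Differentiable ℂ (dslope g 0) :=
      differentiableOn_univ.mp ((Complex.differentiableOn_dslope univ_mem).mpr hg.differentiableOn)
    have hmul : ∀ z, z * dslope g 0 z = g z - g 0 := fun z => by
      have := sub_smul_dslope g 0 z
      rwa [sub_zero, smul_eq_mul] at this
    obtain ⟨M, hM⟩ := (isCompact_closedBall (0 : ℂ) 1).exists_bound_of_continuousOn hh.continuous.continuousOn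
    obtain ⟨P, hP, hPe⟩ := ih hh (C := max (4 * C) M) fun z => by
      rcases le_total ‖z‖ 1 with hz | hz
      · refine (hM z (mem_closedBall_zero_iff.mpr hz)).trans ((le_max_right (4 * C) M).trans ?_)
        exact le_mul_of_one_le_right ((mul_nonneg (by norm_num) hC).trans (le_max_left _ _))
          (one_le_pow₀ (by linarith [norm_nonneg z]))
      · have h1 : ‖z‖ * ‖dslope g 0 z‖ ≤ 2 * (C * (1 + ‖z‖) ^ (N + 1)) := by
          rw [← norm_mul, hmul, two_mul]
          refine (norm_sub_le _ _).trans (add_le_add (hb z) ((hb 0).trans ?_))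
          exact mul_le_mul_of_nonneg_left (pow_le_pow_left₀ (by simp) (by simp) _) hC
        have h2 : 2 * (C * (1 + ‖z‖) ^ (N + 1)) ≤ ‖z‖ * (4 * C * (1 + ‖z‖) ^ N) := by
          rw [pow_succ]
          have : 0 ≤ C * (1 + ‖z‖) ^ N := by positivity
          nlinarith
        refine (le_of_mul_le_mul_left (h1.trans h2) (by linarith)).trans ?_
        exact mul_le_mul_of_nonneg_right (le_max_left _ _) (by positivity)
    refine ⟨Polynomial.X * P + Polynomial.C (g 0), ?_, fun z => ?_⟩
    · refine (Polynomial.natDegree_add_le _ _).trans (max_le ?_ (by simp))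
      refine Polynomial.natDegree_mul_le.trans ?_
      rw [Polynomial.natDegree_X]; omega
    · rw [Polynomial.eval_add, Polynomial.eval_mul, Polynomial.eval_X, Polynomial.eval_C, ← hPe, hmul]
      ring

/-- A holomorphic function of polynomial growth off a finite set is a polynomial. -/
theorem exists_polynomial_of_growth_off (N : ℕ) (C : ℝ) (Z : Finset ℂ) : ∀ {g : ℂ → ℂ},
    (∀ z ∉ Z, DifferentiableAt ℂ g z) → (∀ z ∉ Z, ‖g z‖ ≤ C * (1 + ‖z‖) ^ N) →
      ∃ P : Polynomial ℂ, P.natDegree ≤ N ∧ ∀ z ∉ Z, g z = P.eval z := by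
  classical
  induction Z using Finset.induction with
  | empty =>
    intro g hg hb
    obtain ⟨P, hP, hPe⟩ := exists_polynomial_of_growth N (fun z => hg z (by simp)) (fun z => hb z (by simp))
    exact ⟨P, hP, fun z _ => hPe z⟩
  | insert c Z hc ih =>
    intro g hg hb
    let s : Set ℂ := Metric.ball c 1 \ (Z : Set ℂ)
    have hs : s ∈ 𝓝 c :=
      (Metric.isOpen_ball.sdiff Z.finite_toSet.isClosed).mem_nhds ⟨Metric.mem_ball_self one_pos, hc⟩
    have hsz : ∀ z ∈ s \ {c}, z ∉ insert c Z := fun z hz h => by
      rcases Finset.mem_insert.mp h with h | h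
      exacts [hz.2 h, hz.1.2 h]
    have hd : DifferentiableOn ℂ g (s \ {c}) := fun z hz => (hg z (hsz z hz)).differentiableWithinAt
    have hbd : BddAbove (norm ∘ g '' (s \ {c})) := ⟨|C| * (2 + ‖c‖) ^ N, by
      rintro _ ⟨z, hz, rfl⟩
      refine ((hb z (hsz z hz)).trans (mul_le_mul_of_nonneg_right (le_abs_self C) (by positivity))).trans ?_
      refine mul_le_mul_of_nonneg_left (pow_le_pow_left₀ (by positivity) ?_ _) (abs_nonneg C)
      have h1 : ‖z - c‖ < 1 := by simpa [dist_eq_norm] using hz.1.1
      have h2 := norm_sub_norm_le z c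
      linarith⟩
    let G := update g c (limUnder (𝓝[≠] c) g)
    have hG : DifferentiableAt ℂ G c :=
      (Complex.differentiableOn_update_limUnder_of_bddAbove hs hd hbd).differentiableAt hs
    have hGeq : ∀ z, z ≠ c → G =ᶠ[𝓝 z] g := fun z hz => by
      filter_upwards [isOpen_ne.mem_nhds hz] with w hw
      exact update_of_ne hw _ _
    obtain ⟨P, hP, hPe⟩ := ih (g := G) (fun z hz => by
        rcases eq_or_ne z c with rfl | hne
        · exact hG
        · exact (hg z (by simp [hne, hz])).congr_of_eventuallyEq (hGeq z hne))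
      (fun z hz => by
        rcases eq_or_ne z c with rfl | hne
        · refine le_of_tendsto_of_tendsto (hG.continuousAt.norm.tendsto.mono_left
            (nhdsWithin_le_nhds (s := {z}ᶜ)))
            (((by fun_prop : Continuous fun w : ℂ => C * (1 + ‖w‖) ^ N).tendsto z).mono_left nhdsWithin_le_nhds) ?_
          filter_upwards [self_mem_nhdsWithin, mem_nhdsWithin_of_mem_nhds
            (Z.finite_toSet.isClosed.isOpen_compl.mem_nhds hz)] with w hw hwZ
          show ‖G w‖ ≤ _
          rw [show G w = g w from update_of_ne hw _ _]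
          exact hb w (by
            intro h
            rcases Finset.mem_insert.mp h with h | h
            exacts [hw h, hwZ h])
        · rw [show G z = g z from update_of_ne hne _ _]
          exact hb z (by simp [hne, hz]))
    refine ⟨P, hP, fun z hz => ?_⟩
    rw [Finset.mem_insert, not_or] at hz
    rw [← hPe z hz.2]
    exact (update_of_ne hz.1 _ _).symm

open MvPolynomial in
/-- A polynomial in several variables has polynomial growth. -/
theorem exists_growth_bound {d : ℕ} (P : MvPolynomial (Fin d) ℂ) :
    ∃ (C : ℝ) (N : ℕ), 0 ≤ C ∧ ∀ a : Fin d → ℂ, ‖eval a P‖ ≤ C * (1 + ‖a‖) ^ N := by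
  induction P using MvPolynomial.induction_on with
  | C c => exact ⟨‖c‖, 0, norm_nonneg c, fun a => by simp⟩
  | add P Q hP hQ =>
    obtain ⟨C₁, N₁, h₁, hP⟩ := hP
    obtain ⟨C₂, N₂, h₂, hQ⟩ := hQ
    refine ⟨C₁ + C₂, max N₁ N₂, add_nonneg h₁ h₂, fun a => ?_⟩
    have h : (1 : ℝ) ≤ 1 + ‖a‖ := by linarith [norm_nonneg a]
    rw [map_add, add_mul]
    exact (norm_add_le _ _).trans (add_le_add
      ((hP a).trans (mul_le_mul_of_nonneg_left (pow_le_pow_right₀ h (le_max_left _ _)) h₁))
      ((hQ a).trans (mul_le_mul_of_nonneg_left (pow_le_pow_right₀ h (le_max_right _ _)) h₂)))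
  | mul_X P i hP =>
    obtain ⟨C, N, hC, hP⟩ := hP
    refine ⟨C, N + 1, hC, fun a => ?_⟩
    rw [map_mul, eval_X, norm_mul, pow_succ, ← mul_assoc]
    exact mul_le_mul (hP a) ((norm_le_pi_norm a i).trans (by linarith [norm_nonneg a])) (norm_nonneg _) (by positivity)

open MvPolynomial in
/-- A continuous function on the complement of a hypersurface, holomorphic in each variable and of
polynomial growth, is a polynomial there. -/
theorem exists_mvPolynomial_of_growth : ∀ (d : ℕ) {D : MvPolynomial (Fin d) ℂ}, D ≠ 0 → ∀ {g : (Fin d → ℂ) → ℂ},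
    ContinuousOn g {a | eval a D ≠ 0} →
    (∀ a, eval a D ≠ 0 → ∀ i, DifferentiableAt ℂ (fun z => g (update a i z)) (a i)) →
    ∀ {C : ℝ} {N : ℕ}, (∀ a, eval a D ≠ 0 → ‖g a‖ ≤ C * (1 + ‖a‖) ^ N) →
      ∃ P : MvPolynomial (Fin d) ℂ, ∀ a, eval a D ≠ 0 → g a = eval a P := by
  intro d
  induction d with
  | zero =>
    intro D _ g _ _ C N _
    exact ⟨MvPolynomial.C (g 0), fun a _ => by rw [eval_C, Subsingleton.elim a 0]⟩
  | succ d ih =>
    intro D hD g hcont hdiff C N hb
    let D' := finSuccEquiv ℂ d D
    have hD' : D' ≠ 0 := (map_ne_zero_iff _ (finSuccEquiv ℂ d).injective).mpr hD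
    have heval : ∀ z (a : Fin d → ℂ), eval (Fin.cons z a) D = (D'.map (eval a)).eval z :=
      fun z a => eval_eq_eval_mv_eval' a z D
    let bad : Set ℂ := (MvPolynomial.C : ℂ → MvPolynomial (Fin d) ℂ) ⁻¹' {r | D'.IsRoot r}
    have hbad : bad.Finite := (Polynomial.finite_setOf_isRoot hD').preimage (C_injective _ _).injOn
    let c : Fin (N + 1) → ℂ := fun i => hbad.infinite_compl.natEmbedding _ (i : ℕ)
    have hc : Function.Injective c := fun i j h =>
      Fin.ext ((hbad.infinite_compl.natEmbedding _).injective (Subtype.ext h))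
    let E : Fin (N + 1) → MvPolynomial (Fin d) ℂ := fun i => D'.eval (MvPolynomial.C (c i))
    have hE : ∀ i, E i ≠ 0 := fun i => (hbad.infinite_compl.natEmbedding _ (i : ℕ)).2
    have hEe : ∀ i (a : Fin d → ℂ), eval a (E i) = eval (Fin.cons (c i) a) D := fun i a => by
      rw [heval, Polynomial.eval_map, show (E i) = D'.eval₂ (RingHom.id _) (MvPolynomial.C (c i)) from rfl,
        Polynomial.hom_eval₂, RingHom.comp_id, eval_C]
    have hstep : ∀ i, ∃ P : MvPolynomial (Fin d) ℂ, ∀ a, eval a (E i) ≠ 0 → g (Fin.cons (c i) a) = eval a P :=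
      fun i => by
      refine ih (hE i) ?_ ?_ (C := |C| * (1 + ‖c i‖) ^ N) (N := N) ?_
      · exact hcont.comp (continuous_pi fun j => by
          refine Fin.cases ?_ (fun j => ?_) j
          · simp only [Fin.cons_zero]; exact continuous_const
          · simp only [Fin.cons_succ]; exact continuous_apply j).continuousOn
          fun a ha => by rw [Set.mem_ofPred_eq] at ha ⊢; rwa [← hEe]
      · intro a ha j
        have := hdiff (Fin.cons (c i) a) (by rwa [← hEe]) j.succ
        rw [Fin.cons_succ] at this
        simpa only [Fin.cons_update] using this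
      · intro a ha
        refine (hb _ (by rwa [← hEe])).trans ?_
        rw [mul_assoc, ← mul_pow]
        refine (mul_le_mul_of_nonneg_right (le_abs_self C) (by positivity)).trans ?_
        refine mul_le_mul_of_nonneg_left (pow_le_pow_left₀ (by positivity) ?_ _) (abs_nonneg C)
        have hn : ‖(Fin.cons (c i) a : Fin (d + 1) → ℂ)‖ ≤ ‖c i‖ + ‖a‖ :=
          (pi_norm_le_iff_of_nonneg (by positivity)).mpr fun j => by
            refine Fin.cases ?_ (fun j => ?_) j
            · simp
            · simp only [Fin.cons_succ]; linarith [norm_le_pi_norm a j, norm_nonneg (c i)]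
        nlinarith [norm_nonneg (c i), norm_nonneg a, mul_nonneg (norm_nonneg (c i)) (norm_nonneg a)]
    choose P hP using hstep
    let R : MvPolynomial (Fin (d + 1)) ℂ := ∑ i, rename Fin.succ (P i) *
      Polynomial.aeval (X (0 : Fin (d + 1))) (Lagrange.basis Finset.univ c i)
    let F : MvPolynomial (Fin (d + 1)) ℂ := ∏ i, rename Fin.succ (E i)
    have hF : F ≠ 0 := Finset.prod_ne_zero_iff.mpr fun i _ =>
      (map_ne_zero_iff _ (rename_injective _ (Fin.succ_injective _))).mpr (hE i)
    have key : ∀ x : Fin (d + 1) → ℂ, eval x D ≠ 0 → eval x F ≠ 0 → g x = eval x R := fun x hx hxF => by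
      obtain ⟨z, a, rfl⟩ : ∃ z a, x = Fin.cons z a := ⟨x 0, Fin.tail x, (Fin.cons_self_tail x).symm⟩
      have hsucc : ∀ Q : MvPolynomial (Fin d) ℂ, eval (Fin.cons z a) (rename Fin.succ Q) = eval a Q := fun Q => by
        rw [eval_rename]; congr 2
      have hEa : ∀ i, eval a (E i) ≠ 0 := fun i => by
        rw [← hsucc]
        simp only [F, map_prod, Finset.prod_ne_zero_iff] at hxF
        exact hxF i (Finset.mem_univ i)
      have hpa : D'.map (eval a) ≠ 0 := fun h => hEa 0 (by rw [hEe, heval, h, Polynomial.eval_zero])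
      have hZ : ∀ w, w ∉ (D'.map (eval a)).roots.toFinset → eval (Fin.cons w a) D ≠ 0 := fun w hw h => hw (by
        rw [Multiset.mem_toFinset, Polynomial.mem_roots hpa, Polynomial.IsRoot, ← heval]; exact h)
      have hnZ : ∀ w, eval (Fin.cons w a) D ≠ 0 → w ∉ (D'.map (eval a)).roots.toFinset := fun w h hw => h (by
        rw [Multiset.mem_toFinset, Polynomial.mem_roots hpa] at hw
        rw [heval]; exact hw)
      obtain ⟨p, hp, hpe⟩ := exists_polynomial_of_growth_off N (|C| * (1 + ‖a‖) ^ N)
        (D'.map (eval a)).roots.toFinset (g := fun w => g (Fin.cons w a))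
        (fun w hw => by
          have := hdiff (Fin.cons w a) (hZ w hw) 0
          simp only [Fin.update_cons_zero, Fin.cons_zero] at this
          exact this)
        (fun w hw => by
          refine (hb _ (hZ w hw)).trans ?_
          rw [mul_assoc, ← mul_pow]
          refine (mul_le_mul_of_nonneg_right (le_abs_self C) (by positivity)).trans ?_
          refine mul_le_mul_of_nonneg_left (pow_le_pow_left₀ (by positivity) ?_ _) (abs_nonneg C)
          have hn : ‖(Fin.cons w a : Fin (d + 1) → ℂ)‖ ≤ ‖w‖ + ‖a‖ :=
            (pi_norm_le_iff_of_nonneg (by positivity)).mpr fun j => by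
              refine Fin.cases ?_ (fun j => ?_) j
              · simp
              · simp only [Fin.cons_succ]; linarith [norm_le_pi_norm a j, norm_nonneg w]
          nlinarith [norm_nonneg w, norm_nonneg a, mul_nonneg (norm_nonneg w) (norm_nonneg a)])
      have hpi : p = Lagrange.interpolate Finset.univ c fun i => eval a (P i) := by
        refine Lagrange.eq_interpolate_of_eval_eq _ hc.injOn ?_ fun i _ => ?_
        · refine (Polynomial.degree_le_natDegree).trans_lt ?_
          rw [Finset.card_univ, Fintype.card_fin]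
          exact_mod_cast Nat.lt_succ_of_le hp
        · rw [← hP i a (hEa i)]
          exact (hpe (c i) (hnZ _ (by rw [← hEe]; exact hEa i))).symm
      have hR : eval (Fin.cons z a) R = p.eval z := by
        rw [hpi, Lagrange.interpolate_apply, Polynomial.eval_finsetSum, map_sum]
        refine Finset.sum_congr rfl fun i _ => ?_
        rw [map_mul, hsucc, Polynomial.eval_mul, Polynomial.eval_C]
        congr 1
        rw [← MvPolynomial.aeval_eq_eval, ← Polynomial.aeval_algHom_apply, MvPolynomial.aeval_X,
          Fin.cons_zero, Polynomial.coe_aeval_eq_eval]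
      rw [hR]
      exact hpe z (hnZ z hx)
    refine ⟨R, fun x hx => ?_⟩
    have hopen : IsOpen {b : Fin (d + 1) → ℂ | eval b D ≠ 0} := isOpen_ne_fun D.continuous_eval continuous_const
    obtain ⟨v, hv⟩ : ∃ v, eval v F ≠ 0 := by
      by_contra hall
      push Not at hall
      exact hF (MvPolynomial.funext fun v => by rw [hall, map_zero])
    -- approach `x` along the segment towards `v`
    let Q : Polynomial ℂ :=
      MvPolynomial.aeval (fun i => Polynomial.C (x i) + Polynomial.X * Polynomial.C (v i - x i)) F
    have hQ : ∀ w : ℂ, Q.eval w = eval (fun i => x i + w * (v i - x i)) F := fun w => by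
      have := DFunLike.congr_fun (MvPolynomial.comp_aeval
        (f := fun i => Polynomial.C (x i) + Polynomial.X * Polynomial.C (v i - x i))
        (Polynomial.aeval w : Polynomial ℂ →ₐ[ℂ] ℂ)) F
      simpa [Q, MvPolynomial.aeval_eq_eval] using this
    have hQ0 : Q ≠ 0 := fun e => hv (by simpa [e] using (hQ 1).symm)
    have hev : ∀ᶠ w in 𝓝[≠] (0 : ℂ), eval (fun i => x i + w * (v i - x i)) F ≠ 0 := by
      refine ((Polynomial.finite_setOf_isRoot hQ0).eventually_cofinite_notMem.filter_mono
        (nhdsNE_le_cofinite (a := (0 : ℂ)))).mono ?_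
      intro w hw h
      exact hw ((hQ w).trans h)
    have hlim : Tendsto (fun w : ℂ => fun i => x i + w * (v i - x i)) (𝓝[≠] 0) (𝓝 x) := by
      refine tendsto_nhdsWithin_of_tendsto_nhds ?_
      have h := (continuous_pi fun i => (continuous_const.add (continuous_id.mul continuous_const) :
        Continuous fun w : ℂ => x i + w * (v i - x i))).tendsto 0
      simpa using h
    have hevD : ∀ᶠ w in 𝓝[≠] (0 : ℂ), eval (fun i => x i + w * (v i - x i)) D ≠ 0 := hlim (hopen.mem_nhds hx)
    refine tendsto_nhds_unique ((hcont.continuousAt (hopen.mem_nhds hx)).tendsto.comp hlim)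
      (Tendsto.congr' ?_ ((R.continuous_eval.tendsto x).comp hlim))
    filter_upwards [hev, hevD] with w h1 h2
    exact (key _ h2 h1).symm

end Groth.Agent.AnPts
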