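import Groth.Agent.AnPts.Etale
import Groth.Agent.AnPts.Entire

/-!
# The root set of an irreducible polynomial over a complement of a hypersurface is connected
-/

set_option autoImplicit false

open Polynomial Filter Topology Function

namespace Groth.Agent.AnPts

/-- A continuous simple root of a differentiable family of polynomials is differentiable. -/
theorem differentiableAt_root {G : ℂ → ℂ[X]} {n : ℕ} {z₀ : ℂ} (hn : ∀ z, (G z).natDegree = n)
    (hc : ∀ k, DifferentiableAt ℂ (fun z => (G z).coeff k) z₀) {s : ℂ → ℂ} (hs : ContinuousAt s z₀)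
    (hroot : ∀ᶠ z in 𝓝 z₀, (G z).IsRoot (s z)) (hd : (G z₀).derivative.eval (s z₀) ≠ 0) :
    DifferentiableAt ℂ s z₀ := by
  have hev : DifferentiableAt ℂ (fun z => (G z).eval (s z₀)) z₀ := by
    simp only [eval_eq_sum_range, hn]
    exact DifferentiableAt.fun_sum fun k _ => (hc k).mul (differentiableAt_const _)
  have hdq : ContinuousAt (fun z => diffQuot (G z) (s z) (s z₀)) z₀ := by
    simp only [diffQuot, hn]
    exact tendsto_finset_sum _ fun k _ => (hc k).continuousAt.mul
      (tendsto_finset_sum _ fun i _ => (hs.pow i).mul continuousAt_const)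
  have hne : diffQuot (G z₀) (s z₀) (s z₀) ≠ 0 := by rwa [diffQuot_self]
  refine (hasDerivAt_iff_tendsto_slope.mpr (Tendsto.congr' ?_ ((hev.hasDerivAt.tendsto_slope.neg).div
    (hdq.tendsto.mono_left nhdsWithin_le_nhds) hne))).differentiableAt
  filter_upwards [nhdsWithin_le_nhds hroot, nhdsWithin_le_nhds (hdq.eventually_ne hne)] with z hz hz'
  have e := eval_sub_eval (G z) (s z) (s z₀)
  rw [hz.eq_zero, zero_sub] at e
  show -slope (fun z => (G z).eval (s z₀)) z₀ z / diffQuot (G z) (s z) (s z₀) = slope s z₀ z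
  rw [slope_def_field, slope_def_field, (hroot.self_of_nhds).eq_zero, sub_zero, div_eq_iff hz', ← neg_div, e,
    div_mul_eq_mul_div, mul_comm]

/-- Polynomials are differentiable in each variable. -/
theorem differentiable_eval_update {d : ℕ} (c : MvPolynomial (Fin d) ℂ) (a : Fin d → ℂ) (i : Fin d) :
    Differentiable ℂ fun z => MvPolynomial.eval (update a i z) c := by
  induction c using MvPolynomial.induction_on with
  | C c => simp only [MvPolynomial.eval_C]; exact differentiable_const c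
  | add P Q hP hQ => simp only [map_add]; exact hP.add hQ
  | mul_X P j hP =>
    simp only [map_mul, MvPolynomial.eval_X]
    refine hP.mul ?_
    rcases eq_or_ne j i with rfl | hne
    · simp only [update_self]; exact differentiable_id
    · simp only [update_of_ne hne]; exact differentiable_const (a j)

open Classical in
/-- The roots in `u` of a family of polynomials with simple roots, near a point. -/
theorem exists_local_roots {W₀ : Type*} [TopologicalSpace W₀] (F : W₀ → ℂ[X]) (n : ℕ) (hm : ∀ a, (F a).Monic)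
    (hn : ∀ a, (F a).natDegree = n) (hc : ∀ k, Continuous fun a => (F a).coeff k) {V : Set W₀} (hV : IsOpen V)
    (hsimple : ∀ a r, a ∈ V → (F a).IsRoot r → (F a).derivative.eval r ≠ 0)
    (hcard : ∀ a, a ∈ V → (F a).roots.toFinset.card = n)
    {u v : Set (W₀ × ℂ)} (hu : IsOpen u) (hv : IsOpen v)
    (hcov : {p : W₀ × ℂ | p.1 ∈ V ∧ (F p.1).IsRoot p.2} ⊆ u ∪ v)
    (hdisj : {p : W₀ × ℂ | p.1 ∈ V ∧ (F p.1).IsRoot p.2} ∩ (u ∩ v) = ∅) {a₀ : W₀} (ha₀ : a₀ ∈ V) :
    ∃ W ∈ 𝓝 a₀, ∃ σ : ℂ → W₀ → ℂ,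
      (∀ r ∈ (F a₀).roots.toFinset.filter (fun r => (a₀, r) ∈ u),
        ContinuousOn (σ r) W ∧ ∀ a ∈ W, a ∈ V ∧ (F a).IsRoot (σ r a)) ∧
      ∀ a ∈ W, Set.InjOn (fun r => σ r a) ((F a₀).roots.toFinset.filter fun r => (a₀, r) ∈ u) ∧
        (F a).roots.toFinset.filter (fun r => (a, r) ∈ u) =
          ((F a₀).roots.toFinset.filter fun r => (a₀, r) ∈ u).image (fun r => σ r a) := by
  have hmemR : ∀ {a : W₀} {r : ℂ}, r ∈ (F a).roots.toFinset ↔ (F a).IsRoot r := fun {a r} => by
    rw [Multiset.mem_toFinset, mem_roots (hm a).ne_zero]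
  let O : ℂ → Set (W₀ × ℂ) := fun r =>
    {p | p.1 ∈ V} ∩ if (a₀, r) ∈ u then u else v
  have hO : ∀ r, IsOpen (O r) := fun r =>
    (hV.preimage continuous_fst).inter (by split <;> assumption)
  have hsec : ∀ r : ((F a₀).roots.toFinset : Set ℂ), ∃ (U : Set W₀) (σ : W₀ → ℂ),
      IsOpen U ∧ a₀ ∈ U ∧ ContinuousOn σ U ∧ σ a₀ = (r : ℂ) ∧
        ∀ a ∈ U, (a, σ a) ∈ O r ∧ (F a).IsRoot (σ a) := fun r => by
    have hr : (F a₀).IsRoot r := hmemR.mp r.2
    have hmem : (a₀, (r : ℂ)) ∈ O r := ⟨ha₀, by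
      split
      · assumption
      · next h => exact (hcov ⟨ha₀, hr⟩).resolve_left h⟩
    obtain ⟨U, B, σ, hU, -, hyU, hrB, hUB, hσc, hσ⟩ := exists_root_section F n hm hn
      hc hr (hsimple a₀ r ha₀ hr) (hO r) hmem
    exact ⟨U, σ, hU, hyU, hσc, ((hσ a₀ hyU).2.2 r hrB hr).symm,
      fun a ha => ⟨hUB ⟨ha, (hσ a ha).1⟩, (hσ a ha).2.1⟩⟩
  choose U σ' hU haU hσc hσ₀ hσ using hsec
  let σ : ℂ → W₀ → ℂ := fun r a => if h : r ∈ (F a₀).roots.toFinset then σ' ⟨r, h⟩ a else 0
  have hσe : ∀ (r : ℂ) (h : r ∈ (F a₀).roots.toFinset), σ r = σ' ⟨r, h⟩ := fun r h => funext fun a => dif_pos h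
  have h1 : ∀ᶠ a in 𝓝 a₀, ∀ r : ((F a₀).roots.toFinset : Set ℂ), a ∈ U r :=
    eventually_all.mpr fun r => (hU r).mem_nhds (haU r)
  have h2 : ∀ᶠ a in 𝓝 a₀, ∀ r s : ((F a₀).roots.toFinset : Set ℂ), r ≠ s → σ' r a ≠ σ' s a :=
    eventually_all.mpr fun r => eventually_all.mpr fun s => by
      by_cases hrs : r = s
      · exact Eventually.of_forall fun a h => absurd hrs h
      · have hne : σ' r a₀ - σ' s a₀ ≠ 0 := by
          rw [hσ₀, hσ₀, sub_ne_zero]; exact fun h => hrs (Subtype.ext h)
        exact ((((hσc r).continuousAt ((hU r).mem_nhds (haU r))).sub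
          ((hσc s).continuousAt ((hU s).mem_nhds (haU s)))).eventually_ne hne).mono
            fun a ha _ => sub_ne_zero.mp ha
  obtain ⟨W, hW, hWo, haW⟩ := mem_nhds_iff.mp (((h1.and h2).and (hV.mem_nhds ha₀)))
  refine ⟨W, hWo.mem_nhds haW, σ, fun r hr => ?_, fun a ha => ?_⟩
  · have hr' := (Finset.mem_filter.mp hr).1
    rw [hσe r hr']
    exact ⟨(hσc _).mono fun a ha => (hW ha).1.1 _,
      fun a ha => ⟨(hW ha).2, (hσ _ a ((hW ha).1.1 _)).2⟩⟩
  have hinj : Set.InjOn (fun r => σ r a) ((F a₀).roots.toFinset : Set ℂ) := fun r hr s hs h => by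
    by_contra hne
    refine (hW ha).1.2 ⟨r, hr⟩ ⟨s, hs⟩ (fun e => hne (congrArg Subtype.val e)) ?_
    rw [← hσe r hr, ← hσe s hs]
    exact h
  refine ⟨hinj.mono (Finset.coe_subset.mpr (Finset.filter_subset _ _)), ?_⟩
  have hall : (F a₀).roots.toFinset.image (fun r => σ r a) = (F a).roots.toFinset := by
    refine Finset.eq_of_subset_of_card_le ?_ ?_
    · intro z hz
      obtain ⟨r, hr, rfl⟩ := Finset.mem_image.mp hz
      rw [hmemR, hσe r hr]
      exact (hσ _ a ((hW ha).1.1 _)).2
    · rw [Finset.card_image_of_injOn hinj, hcard a (hW ha).2, hcard a₀ ha₀]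
  show (F a).roots.toFinset.filter (fun z => (a, z) ∈ u) = _
  rw [← hall, Finset.filter_image]
  congr 1
  refine Finset.filter_congr fun r hr => ?_
  have h := hσ ⟨r, hr⟩ a ((hW ha).1.1 _)
  rw [← hσe r hr] at h
  have h3 := h.1.2
  constructor
  · intro hu'
    by_contra hr0
    rw [if_neg hr0] at h3
    have hmem : (a, σ r a) ∈ ({p : W₀ × ℂ | p.1 ∈ V ∧ (F p.1).IsRoot p.2} ∩ (u ∩ v)) := ⟨⟨(hW ha).2, h.2⟩, hu', h3⟩
    rw [hdisj] at hmem
    exact hmem
  · intro hr0
    rwa [if_pos hr0] at h3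

/-- Over the complement of a hypersurface on which it has only simple roots, the root set of an
irreducible monic polynomial is connected. -/
theorem isPreconnected_rootSet {d : ℕ} {F : (MvPolynomial (Fin d) ℂ)[X]} (hm : F.Monic) (hirr : Irreducible F)
    {D : MvPolynomial (Fin d) ℂ} (hD : D ≠ 0)
    (hsimple : ∀ a r, MvPolynomial.eval a D ≠ 0 → (F.map (MvPolynomial.eval a)).IsRoot r →
      (F.map (MvPolynomial.eval a)).derivative.eval r ≠ 0) :
    IsPreconnected {p : (Fin d → ℂ) × ℂ |
      MvPolynomial.eval p.1 D ≠ 0 ∧ (F.map (MvPolynomial.eval p.1)).IsRoot p.2} := by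
  classical
  refine isPreconnected_iff_subset_of_disjoint.mpr fun u v hu hv hcov hdisj => ?_
  set n := F.natDegree with hn
  let Fa : (Fin d → ℂ) → ℂ[X] := fun a => F.map (MvPolynomial.eval a)
  have hFm : ∀ a, (Fa a).Monic := fun a => hm.map _
  have hFn : ∀ a, (Fa a).natDegree = n := fun a => hm.natDegree_map _
  have hcoef : ∀ a k, (Fa a).coeff k = MvPolynomial.eval a (F.coeff k) := fun a k => coeff_map _ _
  let χ : (Fin d → ℂ) → Finset ℂ := fun a => (Fa a).roots.toFinset.filter fun r => (a, r) ∈ u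
  have hnd : ∀ a, MvPolynomial.eval a D ≠ 0 → (Fa a).roots.Nodup := fun a ha => by
    refine Multiset.nodup_iff_count_le_one.mpr fun r => ?_
    by_contra hcount
    rw [not_le, count_roots, one_lt_rootMultiplicity_iff_isRoot (hFm a).ne_zero] at hcount
    exact hsimple a r ha hcount.1 hcount.2
  have hcard : ∀ a, MvPolynomial.eval a D ≠ 0 → (Fa a).roots.toFinset.card = n := fun a ha => by
    rw [Multiset.toFinset_card_of_nodup (hnd a ha), ← (IsAlgClosed.splits (Fa a)).natDegree_eq_card_roots, hFn]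
  have hmemR : ∀ {a : Fin d → ℂ} {r : ℂ}, r ∈ (Fa a).roots.toFinset ↔ (Fa a).IsRoot r := fun {a r} => by
    rw [Multiset.mem_toFinset, mem_roots (hFm a).ne_zero]
  have hV : IsOpen {a : Fin d → ℂ | MvPolynomial.eval a D ≠ 0} := isOpen_ne_fun D.continuous_eval continuous_const
  -- local structure of the roots
  have hloc := fun a₀ (ha₀ : MvPolynomial.eval a₀ D ≠ 0) => exists_local_roots Fa n hFm hFn
    (fun k => by simp only [hcoef]; exact MvPolynomial.continuous_eval _) (V := {a | MvPolynomial.eval a D ≠ 0})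
    hV hsimple hcard hu hv hcov hdisj ha₀
  -- the elementary symmetric functions of the chosen roots are polynomials
  have hpoly : ∀ t : ℂ, ∃ P : MvPolynomial (Fin d) ℂ, ∀ a, MvPolynomial.eval a D ≠ 0 →
      ∏ r ∈ χ a, (t - r) = MvPolynomial.eval a P := by
    intro t
    have hg : ∀ a₀, MvPolynomial.eval a₀ D ≠ 0 → ContinuousAt (fun a => ∏ r ∈ χ a, (t - r)) a₀ ∧
        ∀ i, DifferentiableAt ℂ (fun z => ∏ r ∈ χ (update a₀ i z), (t - r)) (a₀ i) := by
      intro a₀ ha₀
      obtain ⟨W, hW, σ, hσ, hχ⟩ := hloc a₀ ha₀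
      have he : (fun a => ∏ r ∈ χ a, (t - r)) =ᶠ[𝓝 a₀] fun a => ∏ r ∈ χ a₀, (t - σ r a) := by
        filter_upwards [hW] with a ha
        rw [show χ a = _ from (hχ a ha).2, Finset.prod_image (hχ a ha).1]
      refine ⟨ContinuousAt.congr (tendsto_finset_prod _ fun r hr =>
        (continuousAt_const (y := t)).sub ((hσ r hr).1.continuousAt hW)) he.symm, fun i => ?_⟩
      have hupd : Tendsto (fun z => update a₀ i z) (𝓝 (a₀ i)) (𝓝 a₀) := by
        have h := ((continuous_const (y := a₀)).update i continuous_id).tendsto (a₀ i)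
        simpa using h
      refine DifferentiableAt.congr_of_eventuallyEq (f := fun z => ∏ r ∈ χ a₀, (t - σ r (update a₀ i z))) ?_
        (hupd.eventually he)
      refine DifferentiableAt.fun_finset_prod fun r hr => (differentiableAt_const t).sub ?_
      refine differentiableAt_root (G := fun z => Fa (update a₀ i z)) (fun z => hFn _)
        (fun k => by simp only [hcoef]; exact differentiable_eval_update _ _ _ _) ?_
        ((hupd.eventually hW).mono fun z hz => ((hσ r hr).2 _ hz).2) ?_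
      · refine ((hσ r hr).1.continuousAt hW).comp_of_eq ?_ (update_eq_self i a₀)
        exact ((continuous_const (y := a₀)).update i continuous_id).continuousAt
      · simp only [update_eq_self]
        exact hsimple a₀ _ ha₀ ((hσ r hr).2 a₀ (mem_of_mem_nhds hW)).2
    choose C N hC0 hCb using fun k => exists_growth_bound (F.coeff k)
    refine exists_mvPolynomial_of_growth d hD (g := fun a => ∏ r ∈ χ a, (t - r))
      (fun a ha => (hg a ha).1.continuousWithinAt) (fun a ha i => (hg a ha).2 i)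
      (C := (‖t‖ + 1 + ∑ k ∈ Finset.range n, C k) ^ n)
      (N := (∑ k ∈ Finset.range n, N k) * n) fun a ha => ?_
    set M := ∑ k ∈ Finset.range n, N k with hM
    have hpow : (1 : ℝ) ≤ (1 + ‖a‖) ^ M := one_le_pow₀ (by linarith [norm_nonneg a])
    have hS : 0 ≤ ∑ k ∈ Finset.range n, C k := Finset.sum_nonneg fun k _ => hC0 k
    rw [norm_prod, pow_mul, ← mul_pow]
    refine ((Finset.prod_le_prod (g := fun _ => (‖t‖ + 1 + ∑ k ∈ Finset.range n, C k) * (1 + ‖a‖) ^ M)
      (fun r _ => norm_nonneg _) fun r hr => ?_).trans_eq (Finset.prod_const _)).trans (pow_le_pow_right₀ ?_ ?_)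
    · refine (norm_sub_le _ _).trans ?_
      have hroot := norm_le_of_root (hFm a) (hmemR.mp (Finset.mem_filter.mp hr).1)
      rw [hFn] at hroot
      have hsum : ∑ k ∈ Finset.range n, ‖(Fa a).coeff k‖ ≤ (∑ k ∈ Finset.range n, C k) * (1 + ‖a‖) ^ M := by
        rw [Finset.sum_mul]
        refine Finset.sum_le_sum fun k hk => ?_
        rw [hcoef]
        exact (hCb k a).trans (mul_le_mul_of_nonneg_left (pow_le_pow_right₀ (by linarith [norm_nonneg a])
          (Finset.single_le_sum (fun j _ => Nat.zero_le (N j)) hk)) (hC0 k))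
      nlinarith [norm_nonneg t]
    · nlinarith [norm_nonneg t]
    · exact (Finset.card_le_card (Finset.filter_subset _ _)).trans (hcard a ha).le
  choose p hp using hpoly
  -- the corresponding factor of `F`
  let tt : Fin (n + 1) → ℂ := fun i => (i : ℕ)
  have htt : Function.Injective tt := fun i j h => Fin.ext (Nat.cast_injective h)
  let G : (MvPolynomial (Fin d) ℂ)[X] := ∑ i, Polynomial.C (p (tt i)) *
    (Lagrange.basis Finset.univ tt i).map MvPolynomial.C
  have hG : ∀ a, MvPolynomial.eval a D ≠ 0 →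
      G.map (MvPolynomial.eval a) = ∏ r ∈ χ a, (X - Polynomial.C r) := fun a ha => by
    rw [Lagrange.eq_interpolate_of_eval_eq (f := ∏ r ∈ χ a, (X - Polynomial.C r))
      (fun i => MvPolynomial.eval a (p (tt i))) (v := tt) (s := Finset.univ) htt.injOn ?_ ?_]
    · rw [Lagrange.interpolate_apply, Polynomial.map_sum]
      refine Finset.sum_congr rfl fun i _ => ?_
      rw [Polynomial.map_mul, Polynomial.map_C, Polynomial.map_map,
        show (MvPolynomial.eval a).comp MvPolynomial.C = RingHom.id ℂ from RingHom.ext fun c => MvPolynomial.eval_C c,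
        Polynomial.map_id]
    · refine Polynomial.degree_le_natDegree.trans_lt ?_
      rw [natDegree_finset_prod_X_sub_C_eq_card, Finset.card_univ, Fintype.card_fin]
      exact_mod_cast Nat.lt_succ_of_le ((Finset.card_le_card (Finset.filter_subset _ _)).trans (hcard a ha).le)
    · intro i _
      rw [eval_prod, ← hp _ a ha]
      simp
  obtain ⟨a₁, ha₁⟩ : ∃ a, MvPolynomial.eval a D ≠ 0 := by
    by_contra hall
    push Not at hall
    exact hD (MvPolynomial.funext fun a => by rw [hall, map_zero])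
  have hprodm : ∀ a, (∏ r ∈ χ a, (X - Polynomial.C r)).Monic := fun a => monic_prod_X_sub_C _ _
  have hvanish : ∀ c : MvPolynomial (Fin d) ℂ,
      (∀ a, MvPolynomial.eval a D ≠ 0 → MvPolynomial.eval a c = 0) → c = 0 := fun c hc => by
    refine (mul_eq_zero.mp (MvPolynomial.funext fun a => ?_ : D * c = 0)).resolve_left hD
    rw [map_mul, map_zero]
    by_cases ha : MvPolynomial.eval a D = 0
    · rw [ha, zero_mul]
    · rw [hc a ha, mul_zero]
  have hG0 : G ≠ 0 := fun h => (hprodm a₁).ne_zero (by rw [← hG a₁ ha₁, h, Polynomial.map_zero])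
  have hGm : G.Monic := by
    have hsq : G.leadingCoeff * (G.leadingCoeff - 1) = 0 := hvanish _ fun a ha => by
      rw [map_mul, map_sub, map_one]
      by_cases hc : MvPolynomial.eval a G.leadingCoeff = 0
      · rw [hc, zero_mul]
      · have hnat := natDegree_map_of_leadingCoeff_ne_zero (MvPolynomial.eval a) hc
        have h1 := (hprodm a).coeff_natDegree
        rw [← hG a ha, hnat, coeff_map] at h1
        rw [← leadingCoeff] at h1
        rw [h1, sub_self, mul_zero]
    exact sub_eq_zero.mp ((mul_eq_zero.mp hsq).resolve_left (leadingCoeff_ne_zero.mpr hG0))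
  have hdvd : G ∣ F := by
    rw [← modByMonic_eq_zero_iff_dvd hGm]
    refine Polynomial.ext fun k => ?_
    rw [coeff_zero]
    refine hvanish _ fun a ha => ?_
    rw [← coeff_map, map_modByMonic _ hGm, hG a ha, (modByMonic_eq_zero_iff_dvd (hprodm a)).mpr ?_, coeff_zero]
    show _ ∣ Fa a
    conv_rhs => rw [(IsAlgClosed.splits (Fa a)).eq_prod_roots_of_monic (hFm a)]
    rw [Finset.prod_eq_multiset_prod]
    refine Multiset.prod_dvd_prod_of_le (Multiset.map_le_map ?_)
    exact (Multiset.filter_le _ _).trans (Multiset.dedup_le _)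
  obtain ⟨H, hH⟩ := hdvd
  rcases hirr.isUnit_or_isUnit hH with hu' | hu'
  · right
    rintro ⟨a, r⟩ ⟨ha, hr⟩
    rcases hcov ⟨ha, hr⟩ with h | h
    · exfalso
      have e := hG a ha
      rw [hGm.eq_one_of_isUnit hu', Polynomial.map_one] at e
      have hc : (χ a).card = 0 := by rw [← natDegree_finset_prod_X_sub_C_eq_card (χ a) id]; simp only [id_eq]; rw [← e, natDegree_one]
      exact Finset.notMem_empty r (Finset.card_eq_zero.mp hc ▸ Finset.mem_filter.mpr ⟨hmemR.mpr hr, h⟩)
    · exact h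
  · left
    rintro ⟨a, r⟩ ⟨ha, hr⟩
    have hHm : H.Monic := hGm.of_mul_monic_left (hH ▸ hm)
    rw [hHm.eq_one_of_isUnit hu', mul_one] at hH
    have e := hG a ha
    rw [← hH] at e
    have hz : (Fa a).eval r = ∏ x ∈ χ a, (r - x) := by
      show (F.map (MvPolynomial.eval a)).eval r = _
      rw [e, eval_prod]
      simp
    rw [show (Fa a).eval r = 0 from hr, eq_comm, Finset.prod_eq_zero_iff] at hz
    obtain ⟨x, hx, hrx⟩ := hz
    rw [sub_eq_zero.mp hrx]
    exact (Finset.mem_filter.mp hx).2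

end Groth.Agent.AnPts
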