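import Groth.Agent.AnPts.Dense
import Groth.Agent.AnPts.RootSet
import Mathlib.FieldTheory.PrimitiveElement
import Mathlib.RingTheory.Localization.Integral
import Mathlib.RingTheory.IntegralClosure.IntegrallyClosed

/-!
# The complex points of an affine complex variety are connected
-/

set_option autoImplicit false

open Polynomial Filter Topology
open scoped nonZeroDivisors IntermediateField

namespace Groth.Agent.AnPts

/-- A finite extension of domains of characteristic zero is birational to a monogenic one. -/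
theorem exists_generic_generator (P A : Type*) [CommRing P] [IsDomain P] [CommRing A] [IsDomain A] [Algebra P A]
    [Module.Finite P A] [FaithfulSMul P A] [CharZero P] :
    ∃ α : A, ∀ b : A, ∃ s : P, s ≠ 0 ∧ ∃ Q : P[X], algebraMap P A s * b = aeval α Q := by
  let K := FractionRing P
  let L := FractionRing A
  letI : Algebra K L := FractionRing.liftAlgebra P L
  haveI : CharZero K := charZero_of_injective_algebraMap (IsFractionRing.injective P K)
  haveI : FiniteDimensional K L := inferInstance
  obtain ⟨β, hβ⟩ := Field.exists_primitive_element K L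
  haveI : IsLocalization (Algebra.algebraMapSubmonoid A P⁰) L := inferInstance
  obtain ⟨⟨a, ⟨_, s, hs, rfl⟩⟩, hsa⟩ := IsLocalization.surj (Algebra.algebraMapSubmonoid A P⁰) β
  refine ⟨a, fun b => ?_⟩
  have htop : K⟮algebraMap A L a⟯ = ⊤ := by
    rw [eq_top_iff, ← hβ, IntermediateField.adjoin_simple_le_iff]
    have hs0 : algebraMap P K s ≠ 0 := (map_ne_zero_iff _ (IsFractionRing.injective P K)).mpr (nonZeroDivisors.ne_zero hs)
    have : β = (algebraMap P K s)⁻¹ • algebraMap A L a := by
      rw [← hsa, eq_inv_smul_iff₀ hs0, Algebra.smul_def, ← IsScalarTower.algebraMap_apply P K L,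
        ← IsScalarTower.algebraMap_apply P A L, mul_comm]
    rw [this]
    exact IntermediateField.smul_mem _ (IntermediateField.mem_adjoin_simple_self K _)
  have hb : algebraMap A L b ∈ Algebra.adjoin K {algebraMap A L a} := by
    rw [← IntermediateField.adjoin_simple_toSubalgebra_of_isAlgebraic (Algebra.IsAlgebraic.isAlgebraic _)]
    show algebraMap A L b ∈ K⟮algebraMap A L a⟯
    rw [htop]; trivial
  rw [Algebra.adjoin_singleton_eq_range_aeval] at hb
  obtain ⟨R, hR⟩ := hb
  obtain ⟨⟨t, ht⟩, hR'⟩ := IsLocalization.integerNormalization_map_to_map P⁰ R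
  refine ⟨t, nonZeroDivisors.ne_zero ht, IsLocalization.integerNormalization P⁰ R, IsFractionRing.injective A L ?_⟩
  rw [map_mul, ← IsScalarTower.algebraMap_apply P A L, ← Polynomial.aeval_algebraMap_apply,
    ← Polynomial.aeval_map_algebraMap K, hR']
  show _ = (aeval (algebraMap A L a)) (t • R)
  rw [Algebra.smul_def, map_mul, IsScalarTower.algebraMap_apply P K K[X], Polynomial.algebraMap_eq, aeval_C,
    ← IsScalarTower.algebraMap_apply P K L]
  exact congrArg _ hR.symm

variable {A : Type*} [CommRing A] [Algebra ℂ A] [IsDomain A]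

/-- The set of tuples of coordinates of the points of a complex affine variety is connected. -/
theorem isPreconnected_coords {m : ℕ} (q : MvPolynomial (Fin m) ℂ →ₐ[ℂ] A) (hq : Function.Surjective q) :
    IsPreconnected (Set.range fun (y : A →ₐ[ℂ] ℂ) (i : Fin m) => y (q (MvPolynomial.X i))) := by
  haveI : Algebra.FiniteType ℂ A := Algebra.FiniteType.of_surjective q hq
  obtain ⟨d, g, hginj, hgfin⟩ := exists_finite_inj_algHom_of_fg ℂ A
  let P := MvPolynomial (Fin d) ℂ
  letI : Algebra P A := g.toRingHom.toAlgebra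
  haveI : IsScalarTower ℂ P A := IsScalarTower.of_algebraMap_eq fun r => (g.commutes r).symm
  haveI : Module.Finite P A := hgfin
  haveI : Algebra.IsIntegral P A := Algebra.IsIntegral.of_finite P A
  haveI : FaithfulSMul P A := (faithfulSMul_iff_algebraMap_injective P A).mpr hginj
  haveI : CharZero P := charZero_of_injective_algebraMap (MvPolynomial.C_injective (Fin d) ℂ)
  obtain ⟨α, hα⟩ := exists_generic_generator P A
  choose s hs Q hQ using fun j => hα (q (MvPolynomial.X j))
  have hint := Algebra.IsIntegral.isIntegral (R := P) α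
  let F := minpoly P α
  have hFm : F.Monic := minpoly.monic hint
  have hn : 0 < F.natDegree := minpoly.natDegree_pos hint
  have hF' : aeval α (derivative F) ≠ 0 := fun h0 => by
    have hd : (derivative F).natDegree < F.natDegree := natDegree_derivative_lt hn.ne'
    have hne : derivative F ≠ 0 := fun h => hn.ne' (natDegree_eq_zero_of_derivative_eq_zero h)
    exact absurd (natDegree_le_of_dvd (minpoly.isIntegrallyClosed_dvd hint h0) hne) (not_le.mpr hd)
  let δ := aeval α (derivative F)
  have hδ := Algebra.IsIntegral.isIntegral (R := P) δ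
  let c₀ := (minpoly P δ).coeff 0
  have hc₀ : c₀ ≠ 0 := coeff_zero_minpoly_ne_zero hδ hF'
  let D : P := (∏ j, s j) * c₀
  have hD : D ≠ 0 := mul_ne_zero (Finset.prod_ne_zero_iff.mpr fun j _ => hs j) hc₀
  have hDs : ∀ a j, MvPolynomial.eval a D ≠ 0 → MvPolynomial.eval a (s j) ≠ 0 := fun a j h => by
    rw [map_mul, map_prod] at h
    exact Finset.prod_ne_zero_iff.mp (left_ne_zero_of_mul h) j (Finset.mem_univ j)
  letI : Algebra P[X] A := (Polynomial.aeval α : P[X] →ₐ[P] A).toRingHom.toAlgebra
  haveI : IsScalarTower P P[X] A := IsScalarTower.of_algebraMap_eq fun c => (aeval_C α c).symm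
  haveI : IsScalarTower ℂ P[X] A := IsScalarTower.of_algebraMap_eq fun c => by
    rw [IsScalarTower.algebraMap_apply ℂ P A, IsScalarTower.algebraMap_apply P P[X] A,
      ← IsScalarTower.algebraMap_apply ℂ P P[X]]
  haveI : Algebra.IsIntegral P[X] A := Algebra.IsIntegral.tower_top P
  -- points over the base and a root of `F`
  have hlift : ∀ a r, (F.map (MvPolynomial.eval a)).IsRoot r → ∃ y : A →ₐ[ℂ] ℂ,
      ∀ G : P[X], y (aeval α G) = (G.map (MvPolynomial.eval a)).eval r := fun a r hr => by
    let ψ : P[X] →ₐ[ℂ] ℂ := Polynomial.aevalTower (MvPolynomial.aeval a) r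
    have hψ : ∀ G : P[X], ψ G = (G.map (MvPolynomial.eval a)).eval r := fun G => by
      rw [eval_map]
      show eval₂ (MvPolynomial.aeval a : P →ₐ[ℂ] ℂ).toRingHom r G = _
      congr 1
    obtain ⟨y, hy⟩ := exists_point_lift ψ (fun G hG => by
      obtain ⟨H, rfl⟩ := minpoly.isIntegrallyClosed_dvd hint (show aeval α G = 0 from hG)
      show ψ (F * H) = 0
      rw [map_mul, hψ F, hr.eq_zero, zero_mul])
    exact ⟨y, fun G => (hy G).trans (hψ G)⟩
  -- the coordinates of the points
  have hcoord : ∀ (y : A →ₐ[ℂ] ℂ) a r, (∀ G : P[X], y (aeval α G) = (G.map (MvPolynomial.eval a)).eval r) →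
      MvPolynomial.eval a D ≠ 0 →
      (fun j => y (q (MvPolynomial.X j))) =
        fun j => ((Q j).map (MvPolynomial.eval a)).eval r / MvPolynomial.eval a (s j) := fun y a r hy ha => by
    funext j
    rw [eq_div_iff (hDs a j ha)]
    have h1 := congrArg y (hQ j)
    rw [map_mul, hy, show algebraMap P A (s j) = aeval α (Polynomial.C (s j)) from (aeval_C α _).symm, hy,
      Polynomial.map_C, eval_C] at h1
    rw [mul_comm]; exact h1
  have hsimple : ∀ a r, MvPolynomial.eval a D ≠ 0 → (F.map (MvPolynomial.eval a)).IsRoot r →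
      (F.map (MvPolynomial.eval a)).derivative.eval r ≠ 0 := fun a r ha hr h0 => by
    obtain ⟨y, hy⟩ := hlift a r hr
    have hδ0 : y δ = 0 := by rw [hy, ← derivative_map]; exact h0
    have h2 : y (algebraMap P A c₀) = 0 := by
      have := congrArg y (minpoly.aeval P δ)
      rw [aeval_def, map_zero, show y (eval₂ (algebraMap P A) δ (minpoly P δ)) =
        eval₂ ((y : A →+* ℂ).comp (algebraMap P A)) (y δ) (minpoly P δ) from hom_eval₂ _ _ (y : A →+* ℂ) δ,
        hδ0, eval₂_at_zero] at this
      exact this
    rw [show algebraMap P A c₀ = aeval α (Polynomial.C c₀) from (aeval_C α _).symm, hy, Polynomial.map_C, eval_C] at h2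
    exact ha (by rw [map_mul, h2, mul_zero])
  have hR := isPreconnected_rootSet hFm (minpoly.irreducible hint) hD hsimple
  let φ : (Fin d → ℂ) × ℂ → Fin m → ℂ :=
    fun p j => ((Q j).map (MvPolynomial.eval p.1)).eval p.2 / MvPolynomial.eval p.1 (s j)
  have hφc : ContinuousOn φ {p | MvPolynomial.eval p.1 D ≠ 0 ∧ (F.map (MvPolynomial.eval p.1)).IsRoot p.2} := by
    refine continuousOn_pi.mpr fun j => ContinuousOn.div ?_
      ((MvPolynomial.continuous_eval (s j)).comp continuous_fst).continuousOn fun p hp => hDs _ j hp.1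
    simp only [eval_map, eval₂_eq_sum_range]
    exact (continuous_finset_sum _ fun k _ => ((MvPolynomial.continuous_eval _).comp continuous_fst).mul
      (continuous_snd.pow k)).continuousOn
  refine (hR.image φ hφc).subset_closure ?_ ?_
  · rintro _ ⟨⟨a, r⟩, ⟨ha, hr⟩, rfl⟩
    obtain ⟨y, hy⟩ := hlift a r hr
    exact ⟨y, hcoord y a r hy ha⟩
  · rintro _ ⟨x, rfl⟩
    refine closure_mono ?_ (mem_closure_coords q hq ((map_ne_zero_iff _ hginj).mpr hD) x)
    rintro _ ⟨y, hy, rfl⟩
    let a : Fin d → ℂ := fun i => y (g (MvPolynomial.X i))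
    have hya : ∀ c : P, y (g c) = MvPolynomial.eval a c := fun c => by
      rw [← MvPolynomial.aeval_eq_eval]
      exact DFunLike.congr_fun (MvPolynomial.aeval_unique (y.comp g)) c
    have hyG : ∀ G : P[X], y (aeval α G) = (G.map (MvPolynomial.eval a)).eval (y α) := fun G => by
      rw [aeval_def, eval_map]
      refine (hom_eval₂ _ _ (y : A →+* ℂ) α).trans ?_
      congr 1
      exact RingHom.ext hya
    have ha : MvPolynomial.eval a D ≠ 0 := by rw [← hya]; exact hy
    refine ⟨(a, y α), ⟨ha, ?_⟩, (hcoord y a (y α) hyG ha).symm⟩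
    rw [IsRoot, ← hyG, minpoly.aeval, map_zero]

end Groth.Agent.AnPts
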