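import Groth.Agent.AnPts.Separated
import Groth.Agent.AnPts.Irreducible
import Groth.Agent.IrredComp.Basic

/-!
# Connected components of the complex points

The complex points of an irreducible closed subset form a connected space; so `X(ℂ)` and `X` have
the same connected components.
-/

set_option autoImplicit false
set_option backward.isDefEq.respectTransparency.types false

open CategoryTheory AlgebraicGeometry Topology TopologicalSpace An

namespace Groth.Agent.AnPts

variable {X : Scheme.{0}} [X.Over SC] [LocallyOfFiniteType (X ↘ SC)]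

/-- The affine case. -/
theorem isPreconnected_preimage_of_isAffine [IsAffine X] {Z : Set X} (hZ : IsClosed Z) (hZi : IsIrreducible Z) :
    IsPreconnected (Pts.pt ⁻¹' Z : Set (Pts X)) := by
  haveI := finiteType_top (X := X)
  obtain ⟨n, q, hq⟩ := Algebra.FiniteType.iff_quotient_mvPolynomial''.mp ‹Algebra.FiniteType ℂ Γ(X, ⊤)›
  let e := X.isoSpec.hom.homeomorph
  let Z' : Set (PrimeSpectrum Γ(X, ⊤)) := e '' Z
  have hZ' : IsIrreducible Z' := hZi.image e e.continuous.continuousOn
  haveI hp : (PrimeSpectrum.vanishingIdeal Z').IsPrime :=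
    PrimeSpectrum.isIrreducible_iff_vanishingIdeal_isPrime.mp hZ'
  set p := PrimeSpectrum.vanishingIdeal Z' with hpdef
  have hZp : PrimeSpectrum.zeroLocus (p : Set Γ(X, ⊤)) = Z' := by
    rw [hpdef, PrimeSpectrum.zeroLocus_vanishingIdeal_eq_closure]
    exact (e.isClosedMap Z hZ).closure_eq
  have hmem : ∀ x : Pts X, x.pt ∈ Z ↔ ∀ a ∈ p, x.evTop a = 0 := fun x => by
    have h1 : x.pt ∈ Z ↔ e x.pt ∈ Z' := (e.injective.mem_set_image).symm
    rw [h1]
    constructor
    · intro hx a ha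
      exact (mem_asIdeal_iff x a).mp ((PrimeSpectrum.mem_vanishingIdeal _ _).mp ha _ hx)
    · intro h
      rw [← hZp]
      exact fun a ha => (mem_asIdeal_iff x a).mpr (h a ha)
  rw [← (isClosedEmbedding_coords q hq).isInducing.isPreconnected_image]
  convert isPreconnected_coords ((Ideal.Quotient.mkₐ ℂ p).comp q) ((Ideal.Quotient.mkₐ_surjective ℂ p).comp hq)
    using 1
  ext c
  constructor
  · rintro ⟨x, hx, rfl⟩
    exact ⟨Ideal.Quotient.liftₐ p (evAlg x) ((hmem x).mp hx), funext fun i => rfl⟩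
  · rintro ⟨y, rfl⟩
    obtain ⟨x, hx⟩ := exists_evTop_eq (X := X) (y.comp (Ideal.Quotient.mkₐ ℂ p))
    refine ⟨x, (hmem x).mpr fun a ha => ?_, funext fun i => hx _⟩
    rw [hx]
    show y (Ideal.Quotient.mk p a) = 0
    rw [Ideal.Quotient.eq_zero_iff_mem.mpr ha, map_zero]

/-- The complex points of an irreducible closed subset form a connected set. -/
theorem isPreconnected_preimage {Z : Set X} (hZ : IsClosed Z) (hZi : IsIrreducible Z) :
    IsPreconnected (Pts.pt ⁻¹' Z : Set (Pts X)) := by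
  let I := {W : X.Opens // IsAffineOpen W ∧ ((W : Set X) ∩ Z).Nonempty}
  have hpre : ∀ W : I, IsPreconnected (Pts.pt ⁻¹' ((W.1 : Set X) ∩ Z) : Set (Pts X)) := by
    rintro ⟨W, hW, hWZ⟩
    letI : (W : Scheme).Over SC := ⟨(Scheme.Opens.ι W) ≫ X ↘ SC⟩
    haveI : (Scheme.Opens.ι W).IsOver SC := ⟨rfl⟩
    haveI : IsAffine (W : Scheme) := hW
    haveI : LocallyOfFiniteType ((W : Scheme) ↘ SC) :=
      inferInstanceAs (LocallyOfFiniteType ((Scheme.Opens.ι W) ≫ X ↘ SC))
    have hirr : IsIrreducible ((Scheme.Opens.ι W) ⁻¹' Z) := by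
      refine ⟨?_, hZi.2.preimage (Scheme.Opens.ι W).isOpenEmbedding⟩
      obtain ⟨z, hzW, hzZ⟩ := hWZ
      exact ⟨⟨z, hzW⟩, hzZ⟩
    have h := (isPreconnected_preimage_of_isAffine (hZ.preimage (Scheme.Opens.ι W).continuous) hirr).image
      _ (Pts.continuous_map (Scheme.Opens.ι W)).continuousOn
    convert h using 1
    ext x
    constructor
    · rintro ⟨hxW, hxZ⟩
      obtain ⟨x', rfl⟩ : x ∈ Set.range (Pts.map (Scheme.Opens.ι W)) := by
        rw [range_map]; exact ⟨⟨_, hxW⟩, rfl⟩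
      refine ⟨x', ?_, rfl⟩
      rw [Pts.pt_map] at hxZ
      exact hxZ
    · rintro ⟨x', hx', rfl⟩
      show (Pts.map (Scheme.Opens.ι W) x').pt ∈ ((W : Set X) ∩ Z)
      rw [Pts.pt_map]
      exact ⟨x'.pt.2, hx'⟩
  have hU : (⋃ W : I, (Pts.pt ⁻¹' ((W.1 : Set X) ∩ Z) : Set (Pts X))) = Pts.pt ⁻¹' Z := by
    ext x
    constructor
    · intro h; obtain ⟨W, hW⟩ := Set.mem_iUnion.mp h; exact hW.2
    · intro hx
      obtain ⟨_, ⟨W, hW, rfl⟩, hxW, -⟩ :=
        X.isBasis_affineOpens.exists_subset_of_mem_open (Set.mem_univ x.pt) isOpen_univ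
      exact Set.mem_iUnion.mpr ⟨⟨W, hW, x.pt, hxW, hx⟩, hxW, hx⟩
  rw [← hU]
  refine IsPreconnected.iUnion_of_reflTransGen hpre fun W W' => Relation.ReflTransGen.single ?_
  obtain ⟨z, hzZ, hzW, hzW'⟩ := hZi.2 W.1 W'.1 W.1.2 W'.1.2
    (by obtain ⟨z, h1, h2⟩ := W.2.2; exact ⟨z, h2, h1⟩) (by obtain ⟨z, h1, h2⟩ := W'.2.2; exact ⟨z, h2, h1⟩)
  obtain ⟨x, hxW, hxW', hxZ⟩ := preimage_pt_nonempty (X := X) (Z := (W.1 : Set X) ∩ ((W'.1 : Set X) ∩ Z))
    ⟨z, hzW, hzW', hzZ⟩ (W.1.2.isLocallyClosed.inter (W'.1.2.isLocallyClosed.inter hZ.isLocallyClosed))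
  exact ⟨x, ⟨hxW, hxZ⟩, hxW', hxZ⟩

/-- `π₀(X(ℂ)) → π₀(X)` is bijective. -/
theorem bijective_connectedComponentsMap :
    Function.Bijective (An.Pts.continuous_pt (X := X)).connectedComponentsMap := by
  haveI : IsLocallyNoetherian X := LocallyOfFiniteType.isLocallyNoetherian (X ↘ SC)
  have hX : ∀ x : X, ∃ U ∈ nhds x, NoetherianSpace U := fun x => by
    obtain ⟨_, ⟨W, hW, rfl⟩, hxW, -⟩ :=
      X.isBasis_affineOpens.exists_subset_of_mem_open (Set.mem_univ x) isOpen_univ
    haveI : IsAffine (W : Scheme) := hW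
    haveI : IsLocallyNoetherian (W : Scheme) :=
      isLocallyNoetherian_of_isOpenImmersion (Scheme.Opens.ι W)
    haveI : IsNoetherian (W : Scheme) := { }
    exact ⟨W, W.2.mem_nhds hxW, inferInstanceAs (NoetherianSpace (W : Scheme))⟩
  constructor
  · intro a b hab
    obtain ⟨x, rfl⟩ := ConnectedComponents.surjective_coe a
    obtain ⟨y, rfl⟩ := ConnectedComponents.surjective_coe b
    replace hab : connectedComponent x.pt = connectedComponent y.pt := ConnectedComponents.coe_eq_coe.mp hab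
    rw [ConnectedComponents.coe_eq_coe']
    set C := connectedComponent y with hC
    let S : Set (Set X) := {Z ∈ irreducibleComponents X | (Pts.pt ⁻¹' Z : Set (Pts X)) ⊆ C}
    have hsub : ∀ Z ∈ irreducibleComponents X, ∀ w : Pts X, w.pt ∈ Z → w ∈ C →
        (Pts.pt ⁻¹' Z : Set (Pts X)) ⊆ C := fun Z hZ w hwZ hwC => by
      rw [hC, connectedComponent_eq hwC]
      exact (isPreconnected_preimage (isClosed_of_mem_irreducibleComponents Z hZ) hZ.1).subset_connectedComponent hwZ
    have h1 : IsClosed (⋃₀ S) := IrredComp.isClosed_sUnion hX fun Z hZ => hZ.1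
    have h2 : IsClosed (⋃₀ (irreducibleComponents X \ S)) := IrredComp.isClosed_sUnion hX fun Z hZ => hZ.1
    have hdisj : ∀ w : Pts X, w.pt ∈ ⋃₀ S → w.pt ∉ ⋃₀ (irreducibleComponents X \ S) := by
      rintro w ⟨Z, hZ, hwZ⟩ ⟨Z', hZ', hwZ'⟩
      exact hZ'.2 ⟨hZ'.1, hsub Z' hZ'.1 w hwZ' (hZ.2 hwZ)⟩
    have hcompl : (⋃₀ S)ᶜ = ⋃₀ (irreducibleComponents X \ S) := by
      ext z
      constructor
      · intro hz
        exact ⟨_, ⟨irreducibleComponent_mem_irreducibleComponents z,
          fun h => hz ⟨_, h, mem_irreducibleComponent⟩⟩, mem_irreducibleComponent⟩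
      · intro hz hz'
        obtain ⟨w, hw, hw'⟩ := preimage_pt_nonempty (X := X) (Z := ⋃₀ S ∩ ⋃₀ (irreducibleComponents X \ S))
          ⟨z, hz', hz⟩ (h1.inter h2).isLocallyClosed
        exact hdisj w hw hw'
    have hclopen : IsClopen (⋃₀ S) := ⟨h1, isClosed_compl_iff.mp (hcompl ▸ h2)⟩
    have hyS : y.pt ∈ ⋃₀ S := by
      have hmem : y.pt ∈ irreducibleComponent y.pt := mem_irreducibleComponent
      exact ⟨_, ⟨irreducibleComponent_mem_irreducibleComponents y.pt,
        hsub _ (irreducibleComponent_mem_irreducibleComponents y.pt) y hmem mem_connectedComponent⟩, hmem⟩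
    obtain ⟨Z, hZ, hxZ⟩ : x.pt ∈ ⋃₀ S :=
      hclopen.connectedComponent_subset hyS (hab ▸ mem_connectedComponent)
    exact hZ.2 hxZ
  · intro c
    obtain ⟨z, rfl⟩ := ConnectedComponents.surjective_coe c
    obtain ⟨x, hx⟩ := preimage_pt_nonempty (X := X) (Z := connectedComponent z) ⟨z, mem_connectedComponent⟩
      isClosed_connectedComponent.isLocallyClosed
    exact ⟨ConnectedComponents.mk x, ConnectedComponents.coe_eq_coe'.mpr hx⟩

/-- `X` is connected iff `X(ℂ)` is. -/
theorem connectedSpace_iff : ConnectedSpace X ↔ ConnectedSpace (Pts X) := by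
  have hb := bijective_connectedComponentsMap (X := X)
  constructor
  · intro h
    haveI : Nonempty (Pts X) := by
      obtain ⟨x, -⟩ := preimage_pt_nonempty (X := X) (Z := Set.univ) Set.univ_nonempty isClosed_univ.isLocallyClosed
      exact ⟨x⟩
    haveI : Subsingleton (ConnectedComponents (Pts X)) := hb.1.subsingleton
    haveI : PreconnectedSpace (Pts X) :=
      preconnectedSpace_iff_connectedComponent.mpr fun x => Set.eq_univ_of_forall fun y =>
        ConnectedComponents.coe_eq_coe'.mp (Subsingleton.elim (ConnectedComponents.mk y) (ConnectedComponents.mk x))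
    exact ⟨inferInstance⟩
  · intro h
    haveI : Nonempty X := ⟨(Classical.arbitrary (Pts X)).pt⟩
    haveI : Subsingleton (ConnectedComponents X) := hb.2.subsingleton
    haveI : PreconnectedSpace X :=
      preconnectedSpace_iff_connectedComponent.mpr fun x => Set.eq_univ_of_forall fun y =>
        ConnectedComponents.coe_eq_coe'.mp (Subsingleton.elim (ConnectedComponents.mk y) (ConnectedComponents.mk x))
    exact ⟨inferInstance⟩

end Groth.Agent.AnPts
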