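import Groth.Agent.AnPts.Etale
import Mathlib.AlgebraicGeometry.Sites.Etale
import Mathlib.CategoryTheory.Limits.MorphismProperty
import Mathlib.CategoryTheory.Sites.CoverPreserving
import Mathlib.CategoryTheory.Functor.Flat

/-!
# The comparison functor from the small etale site to the classical site is flat and continuous
-/

set_option autoImplicit false
set_option backward.isDefEq.respectTransparency.types false

open CategoryTheory CategoryTheory.Limits AlgebraicGeometry Topology TopologicalSpace An

namespace Groth.Agent.AnPts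

variable (X : Scheme.{0}) [X.Over SC] [LocallyOfFiniteType (X ↘ SC)]

instance locallyOfFiniteType_etale (U : X.Etale) : LocallyOfFiniteType (U.left ↘ SC) := by
  show LocallyOfFiniteType (U.hom ≫ X ↘ SC)
  haveI : Etale U.hom := U.prop
  infer_instance

/-- A point of `U` for an `X`-scheme `U` over a point of `X`, from a morphism. -/
def ptOfHom {U : X.Etale} (p : SC ⟶ U.left) {x : Pts X} (h : p ≫ U.hom = x.1) : Pts U.left :=
  ⟨p, by show p ≫ U.hom ≫ X ↘ SC = 𝟙 _; rw [← Category.assoc, h]; exact x.2⟩

variable [Fact EtaleLH]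

/-- The comparison functor sends the terminal object to a terminal object. -/
noncomputable def isTerminalEpsTop : IsTerminal ((eps X).obj (⊤_ X.Etale)) :=
  haveI hi : IsIso (⊤_ X.Etale).hom := by
    let t : X.Etale := MorphismProperty.Over.mk ⊤ (𝟙 X) (inferInstanceAs (Etale (𝟙 X)))
    let a : (⊤_ X.Etale) ⟶ t := MorphismProperty.Over.homMk (⊤_ X.Etale).hom (Category.comp_id _)
    let b : t ⟶ (⊤_ X.Etale) := terminal.from t
    have hab : (a ≫ b) = 𝟙 _ := terminalIsTerminal.hom_ext _ _
    refine ⟨⟨b.left, ?_, ?_⟩⟩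
    · exact congrArg (fun m => m.left) hab
    · exact Over.w b.hom
  IsTerminal.ofUniqueHom (fun A =>
    ⟨fun a => ptOfHom X ((A.p a).1 ≫ inv (⊤_ X.Etale).hom) (by rw [Category.assoc, IsIso.inv_hom_id, Category.comp_id]),
      by
        haveI : IsOpenImmersion ((⊤_ X.Etale).left ↘ X) := inferInstanceAs (IsOpenImmersion (⊤_ X.Etale).hom)
        refine (isInducing_map_of_isOpenImmersion ((⊤_ X.Etale).left ↘ X)).continuous_iff.mpr ?_
        exact A.lh.continuous.congr fun a => Subtype.ext (by
          show _ = ((A.p a).1 ≫ inv (⊤_ X.Etale).hom) ≫ (⊤_ X.Etale).hom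
          rw [Category.assoc, IsIso.inv_hom_id, Category.comp_id]),
      fun a => Subtype.ext (by
        show ((A.p a).1 ≫ inv (⊤_ X.Etale).hom) ≫ (⊤_ X.Etale).hom = _
        rw [Category.assoc, IsIso.inv_hom_id, Category.comp_id])⟩)
    fun A m => Cl.hom_ext (funext fun a => Subtype.ext (by
      rw [← cancel_mono (⊤_ X.Etale).hom]
      show (m.toFun a).1 ≫ _ = ((A.p a).1 ≫ inv (⊤_ X.Etale).hom) ≫ _
      rw [Category.assoc, IsIso.inv_hom_id, Category.comp_id]
      exact congrArg Subtype.val (m.over a)))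

/-- The comparison functor preserves fibre products. -/
theorem preservesPullback {U₁ U₂ U : X.Etale} (f : U₁ ⟶ U) (g : U₂ ⟶ U) :
    PreservesLimit (cospan f g) (eps X) := by
  refine preservesLimit_of_preserves_limit_cone (pullbackIsPullback f g)
    ((isLimitMapConePullbackConeEquiv (eps X) (pullback.condition)).symm ?_)
  let W := pullback f g
  let p₁ := pullback.fst f g
  let p₂ := pullback.snd f g
  have hsq : IsPullback p₁.left p₂.left f.left g.left :=
    ((IsPullback.of_hasPullback f g).map (MorphismProperty.Over.forget _ _ X)).map (Over.forget X)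
  let e := hsq.isoPullback
  haveI : e.hom.IsOver SC := ⟨by
    show e.hom ≫ pullback.fst f.left g.left ≫ U₁.hom ≫ X ↘ SC = W.hom ≫ X ↘ SC
    rw [hsq.isoPullback_hom_fst_assoc, ← Category.assoc]
    congr 1
    exact Over.w p₁.hom⟩
  have hind : IsInducing (pair (P := W.left) p₁.left p₂.left) := by
    have e0 : pair (P := W.left) p₁.left p₂.left =
        pair (pullback.fst f.left g.left) (pullback.snd f.left g.left) ∘ Pts.map e.hom := funext fun z => Prod.ext
      (Subtype.ext (show z.1 ≫ p₁.left = (z.1 ≫ e.hom) ≫ pullback.fst f.left g.left by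
        rw [Category.assoc, hsq.isoPullback_hom_fst]))
      (Subtype.ext (show z.1 ≫ p₂.left = (z.1 ≫ e.hom) ≫ pullback.snd f.left g.left by
        rw [Category.assoc, hsq.isoPullback_hom_snd]))
    rw [e0]
    exact (isInducing_pair f.left g.left).comp (isInducing_map_of_isOpenImmersion e.hom)
  refine PullbackCone.IsLimit.mk _
    (fun s => ⟨fun z => ptOfHom X
        (hsq.lift (s.fst.toFun z).1 (s.snd.toFun z).1
          (congrArg Subtype.val (congrFun (congrArg Cl.Hom.toFun s.condition) z)))
        (x := s.pt.p z) ?_, ?_, fun z => ?_⟩)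
    (fun s => Cl.hom_ext (funext fun z => Subtype.ext (hsq.lift_fst _ _ _)))
    (fun s => Cl.hom_ext (funext fun z => Subtype.ext (hsq.lift_snd _ _ _)))
    (fun s m h₁ h₂ => Cl.hom_ext (funext fun z => Subtype.ext (hsq.hom_ext
      ((congrArg Subtype.val (congrFun (congrArg Cl.Hom.toFun h₁) z)).trans (hsq.lift_fst _ _ _).symm)
      ((congrArg Subtype.val (congrFun (congrArg Cl.Hom.toFun h₂) z)).trans (hsq.lift_snd _ _ _).symm))))
  · have hw : p₁.left ≫ U₁.hom = W.hom := Over.w p₁.hom
    rw [← hw, ← Category.assoc, hsq.lift_fst]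
    exact congrArg Subtype.val (s.fst.over z)
  · refine hind.continuous_iff.mpr ((s.fst.continuous.prodMk s.snd.continuous).congr fun z => Prod.ext ?_ ?_)
    · exact Subtype.ext (hsq.lift_fst _ _ _).symm
    · exact Subtype.ext (hsq.lift_snd _ _ _).symm
  · refine Subtype.ext ?_
    show hsq.lift _ _ _ ≫ W.hom = _
    have hw : p₁.left ≫ U₁.hom = W.hom := Over.w p₁.hom
    rw [← hw, ← Category.assoc, hsq.lift_fst]
    exact congrArg Subtype.val (s.fst.over z)

theorem preservesFiniteLimits_eps : PreservesFiniteLimits (eps X) := by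
  haveI : PreservesLimitsOfShape WalkingCospan (eps X) := ⟨fun {K} =>
    @preservesLimit_of_iso_diagram _ _ _ _ _ _ _ _ (eps X) (diagramIsoCospan K).symm
      (preservesPullback X _ _)⟩
  haveI : PreservesLimit (Functor.empty.{0} X.Etale) (eps X) :=
    preservesLimit_of_preserves_limit_cone terminalIsTerminal
      ((isLimitMapConeEmptyConeEquiv (eps X) _).symm (isTerminalEpsTop X))
  haveI : PreservesLimitsOfShape (Discrete PEmpty.{1}) (eps X) :=
    preservesLimitsOfShape_pempty_of_preservesTerminal _
  exact preservesFiniteLimits_of_preservesTerminal_and_pullbacks (eps X)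

theorem representablyFlat_eps : RepresentablyFlat (eps X) :=
  haveI := preservesFiniteLimits_eps X
  flat_of_preservesFiniteLimits _

theorem coverPreserving_eps : CoverPreserving X.smallEtaleTopology (Cl.topology (Pts X)) (eps X) := by
  refine ⟨fun {U S} hS z => ?_⟩
  obtain ⟨𝒰, h𝒰, hj, hle⟩ := (Scheme.mem_smallGrothendieckTopology (P := @Etale) U S).mp hS
  obtain ⟨j, y, hy⟩ := Scheme.Cover.exists_eq 𝒰 z.pt
  let Z : X.Etale := (𝒰.X j).asOverProp X (hj j)
  let k : Z ⟶ U := (𝒰.f j).asOverProp X
  letI : Z.left.Over SC := An.etaleOverLeft X Z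
  haveI : k.left.IsOver SC := An.etaleOverMap X k
  haveI : LocallyOfFiniteType (Z.left ↘ SC) := locallyOfFiniteType_etale X Z
  obtain ⟨z', hz'⟩ : z ∈ Set.range (Pts.map k.left) := by
    rw [range_map]; exact ⟨y, hy⟩
  haveI : Etale (Z.left ↘ X) := Z.prop
  haveI : Etale k.left := MorphismProperty.of_postcomp (W := @Etale) (W' := @Etale) k.left U.hom U.prop (by
    rw [show k.left ≫ U.hom = Z.hom from Over.w k.hom]; exact Z.prop)
  obtain ⟨N, hN, hNe⟩ := isLocalHomeomorph_iff_isOpenEmbedding_restrict.mp
    ((Fact.out : EtaleLH) Z.left U.left k.left) z'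
  have hi : IsOpen (interior N) := isOpen_interior
  refine ⟨Cl.restrictOpen ((eps X).obj Z) (interior N) hi,
    Cl.restrictOpenι ((eps X).obj Z) (interior N) hi ≫ (eps X).map k,
    ⟨Z, k, Cl.restrictOpenι _ _ hi, hle _ _ (Presieve.ofArrows.mk j), rfl⟩, ?_,
    ⟨z', mem_interior_iff_mem_nhds.mpr hN⟩, hz'⟩
  exact hNe.comp (IsOpenEmbedding.inclusion interior_subset (hi.preimage continuous_subtype_val))

theorem epsCont : EpsCont X :=
  haveI := representablyFlat_eps X
  Functor.isContinuous_of_coverPreserving (compatiblePreservingOfFlat _ _) (coverPreserving_eps X)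

end Groth.Agent.AnPts
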