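import Groth.Agent.AnPts.Separated
import Groth.Prelude.Def_AnEps
import Mathlib.RingTheory.Unramified.LocalStructure
import Mathlib.AlgebraicGeometry.Morphisms.Etale

/-!
# Etale morphisms are local homeomorphisms on complex points

Simple roots of a monic polynomial depend continuously on the coefficients.
-/

set_option autoImplicit false
set_option backward.isDefEq.respectTransparency.types false

open CategoryTheory AlgebraicGeometry Topology An Polynomial
open scoped TensorProduct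

namespace Groth.Agent.AnPts

/-- The difference quotient of a family of polynomials. -/
noncomputable def diffQuot (F : ℂ[X]) (a b : ℂ) : ℂ :=
  ∑ k ∈ Finset.range (F.natDegree + 1), F.coeff k * ∑ i ∈ Finset.range k, a ^ i * b ^ (k - 1 - i)

lemma eval_sub_eval (F : ℂ[X]) (a b : ℂ) : F.eval a - F.eval b = diffQuot F a b * (a - b) := by
  rw [eval_eq_sum_range, eval_eq_sum_range, ← Finset.sum_sub_distrib, diffQuot, Finset.sum_mul]
  refine Finset.sum_congr rfl fun k _ => ?_
  rw [mul_assoc, geom_sum₂_mul, mul_sub]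

lemma diffQuot_self (F : ℂ[X]) (a : ℂ) : diffQuot F a a = F.derivative.eval a := by
  rw [diffQuot, derivative_eval, sum_over_range _ (by simp)]
  refine Finset.sum_congr rfl fun k _ => ?_
  rw [geom_sum₂_self, mul_assoc]

/-- A simple root of a monic polynomial extends to a continuous root of nearby polynomials. -/
theorem exists_root_section {W : Type*} [TopologicalSpace W] (F : W → ℂ[X]) (n : ℕ) (hm : ∀ y, (F y).Monic)
    (hn : ∀ y, (F y).natDegree = n) (hc : ∀ k, Continuous fun y => (F y).coeff k) {y₀ : W} {r₀ : ℂ}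
    (h0 : (F y₀).IsRoot r₀) (hd : (F y₀).derivative.eval r₀ ≠ 0) {O : Set (W × ℂ)} (hO : IsOpen O)
    (hmem : (y₀, r₀) ∈ O) :
    ∃ (U : Set W) (B : Set ℂ) (σ : W → ℂ), IsOpen U ∧ IsOpen B ∧ y₀ ∈ U ∧ r₀ ∈ B ∧ U ×ˢ B ⊆ O ∧
      ContinuousOn σ U ∧ ∀ y ∈ U, σ y ∈ B ∧ (F y).IsRoot (σ y) ∧ ∀ r ∈ B, (F y).IsRoot r → r = σ y := by
  have hpos : 0 < n := by
    rcases Nat.eq_zero_or_pos n with h | h
    · exact absurd (by rw [eq_one_of_monic_natDegree_zero (hm y₀) ((hn y₀).trans h)]; simp) hd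
    · exact h
  have hev : ∀ r, Continuous fun y => (F y).eval r := fun r => by
    simp only [eval_eq_sum_range, hn]
    exact continuous_finset_sum _ fun k _ => (hc k).mul continuous_const
  have hQ : Continuous fun p : W × ℂ × ℂ => diffQuot (F p.1) p.2.1 p.2.2 := by
    simp only [diffQuot, hn]
    exact continuous_finset_sum _ fun k _ => ((hc k).comp continuous_fst).mul
      (continuous_finset_sum _ fun i _ => ((continuous_fst.comp continuous_snd).pow i).mul
        ((continuous_snd.comp continuous_snd).pow _))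
  have small : ∀ y r, ∃ s, (F y).IsRoot s ∧ ‖s - r‖ ^ n ≤ ‖(F y).eval r‖ := fun y r => by
    obtain ⟨s, hs, hsb⟩ := exists_small_root ((hm y).comp_X_add_C r) (by rw [natDegree_comp, natDegree_X_add_C, hn]; simpa using hpos)
    refine ⟨s + r, by simpa [IsRoot, eval_comp] using hs, ?_⟩
    rw [natDegree_comp, natDegree_X_add_C, hn, mul_one, coeff_zero_eq_eval_zero, eval_comp] at hsb
    simpa using hsb
  have h1 : {p : W × ℂ × ℂ | diffQuot (F p.1) p.2.1 p.2.2 ≠ 0 ∧ (p.1, p.2.1) ∈ O} ∈ 𝓝 (y₀, r₀, r₀) :=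
    ((isOpen_ne_fun hQ continuous_const).inter (hO.preimage (continuous_fst.prodMk (continuous_fst.comp continuous_snd)))).mem_nhds
      ⟨by show diffQuot _ _ _ ≠ 0; rw [diffQuot_self]; exact hd, hmem⟩
  rw [nhds_prod_eq, nhds_prod_eq] at h1
  obtain ⟨U₁, hU₁, T, hT, hsub⟩ := Filter.mem_prod_iff.mp h1
  obtain ⟨B₁, hB₁, B₂, hB₂, hB⟩ := Filter.mem_prod_iff.mp hT
  obtain ⟨δ, hδ, hδB⟩ := Metric.mem_nhds_iff.mp (Filter.inter_mem hB₁ hB₂)
  obtain ⟨U, hU, hUo, hyU⟩ := mem_nhds_iff.mp (Filter.inter_mem hU₁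
    ((isOpen_lt ((hev r₀).norm) continuous_const).mem_nhds (show ‖(F y₀).eval r₀‖ < δ ^ n by
      rw [h0.eq_zero, norm_zero]; positivity)))
  have hex : ∀ y, ∃ s : ℂ, y ∈ U → s ∈ Metric.ball r₀ δ ∧ (F y).IsRoot s := fun y => by
    by_cases hy : y ∈ U
    · obtain ⟨s, hs, hsb⟩ := small y r₀
      refine ⟨s, fun _ => ⟨?_, hs⟩⟩
      rw [Metric.mem_ball, dist_eq_norm]
      exact lt_of_pow_lt_pow_left₀ n hδ.le (hsb.trans_lt (hU hy).2)
    · exact ⟨0, fun h => absurd h hy⟩
  choose σ hσ using hex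
  have huniq : ∀ y ∈ U, ∀ r ∈ Metric.ball r₀ δ, (F y).IsRoot r → r = σ y := fun y hy r hr hroot => by
    have hne := (hsub (show (y, r, σ y) ∈ U₁ ×ˢ T from
      ⟨(hU hy).1, hB ⟨(hδB hr).1, (hδB (hσ y hy).1).2⟩⟩)).1
    have := eval_sub_eval (F y) r (σ y)
    rw [hroot.eq_zero, (hσ y hy).2.eq_zero, sub_zero] at this
    exact sub_eq_zero.mp ((mul_eq_zero.mp this.symm).resolve_left hne)
  refine ⟨U, Metric.ball r₀ δ, σ, hUo, Metric.isOpen_ball, hyU, Metric.mem_ball_self hδ, ?_, ?_,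
    fun y hy => ⟨(hσ y hy).1, (hσ y hy).2, huniq y hy⟩⟩
  · rintro ⟨y, r⟩ ⟨hy, hr⟩
    exact (hsub (show (y, r, r) ∈ U₁ ×ˢ T from ⟨(hU hy).1, hB ⟨(hδB hr).1, (hδB hr).2⟩⟩)).2
  · intro y₁ hy₁
    refine (Metric.continuousWithinAt_iff' ).mpr fun ε hε => ?_
    obtain ⟨η, hη, hηB⟩ := Metric.isOpen_iff.mp Metric.isOpen_ball _ (hσ y₁ hy₁).1
    have hmin : 0 < min ε η := lt_min hε hη
    have h2 : {y | ‖(F y).eval (σ y₁)‖ < min ε η ^ n} ∈ 𝓝 y₁ :=
      (isOpen_lt ((hev _).norm) continuous_const).mem_nhds (show ‖(F y₁).eval (σ y₁)‖ < _ by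
        rw [(hσ y₁ hy₁).2.eq_zero, norm_zero]; positivity)
    filter_upwards [self_mem_nhdsWithin, mem_nhdsWithin_of_mem_nhds h2] with y hy hy'
    obtain ⟨s, hs, hsb⟩ := small y (σ y₁)
    have hlt : ‖s - σ y₁‖ < min ε η := lt_of_pow_lt_pow_left₀ n hmin.le (hsb.trans_lt hy')
    have hsB : s ∈ Metric.ball r₀ δ := hηB (by
      rw [Metric.mem_ball, dist_eq_norm]; exact hlt.trans_le (min_le_right _ _))
    rw [← huniq y hy s hsB hs, dist_eq_norm]
    exact hlt.trans_le (min_le_left _ _)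

/-- A standard etale algebra stays standard etale over an isomorphic base. -/
theorem isStandardEtale_of_bijective (R R' S : Type*) [CommRing R] [CommRing R'] [CommRing S] [Algebra R R']
    [Algebra R S] [Algebra R' S] [IsScalarTower R R' S] [h : Algebra.IsStandardEtale R S]
    (hb : Function.Bijective (algebraMap R R')) : Algebra.IsStandardEtale R' S := by
  obtain ⟨⟨P⟩⟩ := h
  let P' := P.P.map (algebraMap R R')
  have hx : P'.HasMap P.x := P.hasMap.map_algebraMap
  letI : Algebra R P'.Ring := ((algebraMap R' P'.Ring).comp (algebraMap R R')).toAlgebra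
  haveI : IsScalarTower R R' P'.Ring := IsScalarTower.of_algebraMap_eq fun _ => rfl
  have hm : P.P.HasMap P'.X := ⟨by
      have := P'.hasMap_X.1
      rwa [show P'.f = P.f.map (algebraMap R R') from rfl, aeval_map_algebraMap] at this, by
      have := P'.hasMap_X.2
      rwa [show P'.g = P.g.map (algebraMap R R') from rfl, aeval_map_algebraMap] at this⟩
  let φ₀ : S →ₐ[R] P'.Ring := (P.P.lift P'.X hm).comp P.equivRing.toAlgHom
  let φ : S →ₐ[R'] P'.Ring := { φ₀.toRingHom with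
    commutes' := fun r' => by
      obtain ⟨r, rfl⟩ := hb.2 r'
      show φ₀ (algebraMap R' S (algebraMap R R' r)) = algebraMap R' P'.Ring (algebraMap R R' r)
      rw [← IsScalarTower.algebraMap_apply, AlgHom.commutes]
      rfl }
  have h1 : φ.comp (P'.lift P.x hx) = AlgHom.id R' P'.Ring := StandardEtalePair.hom_ext (by
    show φ₀ (P'.lift P.x hx P'.X) = P'.X
    rw [StandardEtalePair.lift_X]
    show P.P.lift P'.X hm (P.equivRing P.x) = P'.X
    rw [StandardEtalePresentation.equivRing_x, StandardEtalePair.lift_X])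
  have h2 : ((P'.lift P.x hx).restrictScalars R).comp φ₀ = AlgHom.id R S := by
    have : (((P'.lift P.x hx).restrictScalars R).comp (P.P.lift P'.X hm)) = P.P.lift P.x P.hasMap :=
      StandardEtalePair.hom_ext (by
        show P'.lift P.x hx (P.P.lift P'.X hm P.X) = _
        rw [StandardEtalePair.lift_X, StandardEtalePair.lift_X, StandardEtalePair.lift_X])
    ext s
    show (((P'.lift P.x hx).restrictScalars R).comp (P.P.lift P'.X hm)) (P.equivRing s) = s
    rw [this]
    exact P.equivRing.symm_apply_apply s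
  have inj : Function.Injective (P'.lift P.x hx) :=
    Function.HasLeftInverse.injective ⟨φ, fun a => DFunLike.congr_fun h1 a⟩
  exact ⟨⟨⟨P', P.x, hx, inj, fun s => ⟨φ₀ s, DFunLike.congr_fun h2 s⟩⟩⟩⟩

section StandardEtale

variable {X Y : Scheme.{0}} [X.Over SC] [Y.Over SC] [IsAffine X] [IsAffine Y]

lemma appTop_strHom (g : X ⟶ Y) [g.IsOver SC] (c : ℂ) : g.appTop (strHom Y c) = strHom X c := by
  have h := congrArg (fun m : X ⟶ SC => m.appTop) (comp_over g (S := SC))
  rw [Scheme.Hom.comp_appTop] at h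
  exact congrArg (fun m => m.hom ((Scheme.ΓSpecIso (CommRingCat.of ℂ)).inv c)) h

/-- A standard etale morphism of affine schemes gives a local homeomorphism. -/
theorem isLocalHomeomorph_of_isStandardEtale [LocallyOfFiniteType (Y ↘ SC)] (g : X ⟶ Y) [g.IsOver SC]
    (h : letI := g.appTop.hom.toAlgebra; Algebra.IsStandardEtale Γ(Y, ⊤) Γ(X, ⊤)) :
    IsLocalHomeomorph (Pts.map g) := by
  letI := g.appTop.hom.toAlgebra
  obtain ⟨⟨P⟩⟩ := h
  let Fy : Pts Y → ℂ[X] := fun y => P.f.map (evHom y ⊤ trivial)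
  let Gy : Pts Y → ℂ[X] := fun y => P.g.map (evHom y ⊤ trivial)
  let inv : Γ(X, ⊤) := ↑P.hasMap.2.unit⁻¹
  have hev : ∀ (z : Pts X) (p : Γ(Y, ⊤)[X]),
      z.evTop (aeval P.x p) = (p.map (evHom (Pts.map g z) ⊤ trivial)).eval (z.evTop P.x) := fun z p => by
    rw [eval_map]
    refine (hom_eval₂ p (algebraMap Γ(Y, ⊤) Γ(X, ⊤)) (evHom z ⊤ trivial) P.x).trans ?_
    congr 1
  have hinv : ∀ z : Pts X, z.evTop inv * (Gy (Pts.map g z)).eval (z.evTop P.x) = 1 := fun z => by
    rw [← hev, ← evAlg_apply, ← evAlg_apply, ← map_mul, IsUnit.val_inv_mul, map_one]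
  -- the map to `Y(ℂ) × ℂ`
  let Φ : Pts X → Pts Y × ℂ := fun z => (Pts.map g z, z.evTop P.x)
  have hΦc : Continuous Φ := (Pts.continuous_map g).prodMk (continuous_evTop _)
  have hsurjS : ∀ s : Γ(X, ⊤), ∃ p : Γ(Y, ⊤)[X][X], aevalAeval P.x inv p = s := fun s => by
    obtain ⟨q, hq⟩ := P.lift_bijective.surjective s
    obtain ⟨p, rfl⟩ := Ideal.Quotient.mk_surjective q
    exact ⟨p, hq⟩
  have hformula : ∀ (z : Pts X) (p : Γ(Y, ⊤)[X][X]), z.evTop (aevalAeval P.x inv p) =
      ∑ k ∈ p.support, ((p.coeff k).map (evHom (Pts.map g z) ⊤ trivial)).eval (z.evTop P.x) *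
        z.evTop inv ^ k := fun z p => by
    conv_lhs => rw [← p.sum_monomial_eq, Polynomial.sum, map_sum, ← evAlg_apply, map_sum]
    refine Finset.sum_congr rfl fun k _ => ?_
    rw [show aevalAeval P.x inv (monomial k (p.coeff k)) = aeval P.x (p.coeff k) * inv ^ k by
      rw [← C_mul_X_pow_eq_monomial, map_mul, map_pow, aevalAeval_C, aevalAeval_Y], map_mul, map_pow, evAlg_apply,
      evAlg_apply, hev]
  have hΦinj : Function.Injective Φ := fun z z' e => ext_of_evTop fun s => by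
    obtain ⟨p, rfl⟩ := hsurjS s
    have e1 : Pts.map g z = Pts.map g z' := congrArg Prod.fst e
    have e2 : z.evTop P.x = z'.evTop P.x := congrArg Prod.snd e
    have e3 : z.evTop inv = z'.evTop inv := by
      have h1 := hinv z; have h2 := hinv z'
      rw [e1, e2] at h1
      exact mul_right_cancel₀ (right_ne_zero_of_mul_eq_one h2) (h1.trans h2.symm)
    rw [hformula, hformula, e1, e2, e3]
  have hmapc : ∀ q : Γ(Y, ⊤)[X], Continuous fun w : Pts Y × ℂ => (q.map (evHom w.1 ⊤ trivial)).eval w.2 := fun q => by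
    simp only [eval_map, eval₂_eq_sum_range]
    exact continuous_finset_sum _ fun k _ =>
      ((continuous_evTop (X := Y) (q.coeff k)).comp continuous_fst).mul (continuous_snd.pow k)
  have hΦi : IsInducing Φ := by
    haveI := finiteType_top (X := Y)
    obtain ⟨n, q, hq⟩ := Algebra.FiniteType.iff_quotient_mvPolynomial''.mp ‹Algebra.FiniteType ℂ Γ(Y, ⊤)›
    haveI : LocallyOfFiniteType g := by
      rw [HasRingHomProperty.iff_of_isAffine (P := @LocallyOfFiniteType)]
      exact Algebra.FiniteType.of_surjective (aevalAeval P.x inv) hsurjS |> fun h => h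
    haveI : LocallyOfFiniteType (X ↘ SC) := by
      rw [← comp_over g (S := SC)]; infer_instance
    haveI := finiteType_top (X := X)
    obtain ⟨m, q', hq'⟩ := Algebra.FiniteType.iff_quotient_mvPolynomial''.mp ‹Algebra.FiniteType ℂ Γ(X, ⊤)›
    refine ⟨le_antisymm hΦc.le_induced ?_⟩
    rw [(isClosedEmbedding_coords q' hq').isInducing.eq_induced]
    refine continuous_iff_le_induced.mp ?_
    letI : TopologicalSpace (Pts X) := TopologicalSpace.induced Φ inferInstance
    have hΦc' : Continuous Φ := continuous_induced_dom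
    refine continuous_pi fun i => ?_
    obtain ⟨p, hp⟩ := hsurjS (q' (MvPolynomial.X i))
    show Continuous fun z : Pts X => z.evTop (q' (MvPolynomial.X i))
    simp only [← hp, hformula]
    refine continuous_finset_sum _ fun k _ => ((hmapc _).comp hΦc').mul (Continuous.pow ?_ k)
    have : (fun z : Pts X => z.evTop inv) = fun z => ((P.g.map (evHom (Φ z).1 ⊤ trivial)).eval (Φ z).2)⁻¹ :=
      funext fun z => eq_inv_of_mul_eq_one_left (hinv z)
    rw [this]
    exact ((hmapc P.g).comp hΦc').inv₀ fun z => right_ne_zero_of_mul_eq_one (hinv z)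
  have hsurj : ∀ (y : Pts Y) (r : ℂ), (Fy y).IsRoot r → (Gy y).eval r ≠ 0 → ∃ z, Φ z = (y, r) := fun y r hr hG => by
    letI : Algebra Γ(Y, ⊤) ℂ := (evHom y ⊤ trivial).toAlgebra
    have hm : P.HasMap r := ⟨(eval_map _ _).symm.trans hr.eq_zero, by
      rw [isUnit_iff_ne_zero, show aeval r P.g = (Gy y).eval r from (eval_map _ _).symm]; exact hG⟩
    let ψ : Γ(X, ⊤) →ₐ[Γ(Y, ⊤)] ℂ := (P.lift r hm).comp P.equivRing.toAlgHom
    let ψ' : Γ(X, ⊤) →ₐ[ℂ] ℂ := { ψ.toRingHom with
      commutes' := fun c => by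
        show ψ (strHom X c) = c
        rw [← appTop_strHom g c, show g.appTop (strHom Y c) = algebraMap Γ(Y, ⊤) Γ(X, ⊤) (strHom Y c) from rfl,
          AlgHom.commutes]
        exact evTop_strHom y c }
    obtain ⟨z, hz⟩ := exists_evTop_eq ψ'
    refine ⟨z, Prod.ext (ext_of_evTop fun c => ?_) ((hz _).trans ?_)⟩
    · rw [evTop_map, hz]
      exact ψ.commutes c
    · show P.lift r hm (P.equivRing P.x) = r
      rw [StandardEtalePresentation.equivRing_x, StandardEtalePair.lift_X]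
  rw [isLocalHomeomorph_iff_isOpenEmbedding_restrict]
  intro z₀
  have hroot : ∀ z : Pts X, (Fy (Pts.map g z)).IsRoot (z.evTop P.x) := fun z => by
    show eval _ _ = 0
    rw [← hev, P.hasMap.1, ← evAlg_apply, map_zero]
  have hd : (Fy (Pts.map g z₀)).derivative.eval (z₀.evTop P.x) ≠ 0 := by
    rw [derivative_map, ← hev]
    exact ((P.hasMap.isUnit_derivative_f).map (evAlg z₀)).ne_zero
  have hG₀ : (Gy (Pts.map g z₀)).eval (z₀.evTop P.x) ≠ 0 := right_ne_zero_of_mul_eq_one (hinv z₀)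
  obtain ⟨U, B, σ, hUo, hBo, hyU, hrB, hUB, hσc, hσ⟩ := exists_root_section Fy P.f.natDegree
    (fun y => P.monic_f.map _) (fun y => P.monic_f.natDegree_map _)
    (fun k => by simp only [Fy, coeff_map]; exact continuous_evTop (X := Y) _)
    (hroot z₀) hd (isOpen_ne_fun (hmapc P.g) continuous_const) hG₀
  refine ⟨Φ ⁻¹' (U ×ˢ B), ((hUo.prod hBo).preimage hΦc).mem_nhds ⟨hyU, hrB⟩, ?_⟩
  let f' : Φ ⁻¹' (U ×ˢ B) → U := fun z => ⟨Pts.map g z.1, z.2.1⟩
  have hf'c : Continuous f' := ((Pts.continuous_map g).comp continuous_subtype_val).subtype_mk _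
  let s : U → Pts Y × ℂ := fun y => (y.1, σ y.1)
  have hsc : Continuous s := continuous_subtype_val.prodMk (continuousOn_iff_continuous_restrict.mp hσc)
  have hfac : s ∘ f' = Φ ∘ Subtype.val := funext fun z => Prod.ext rfl
    ((hσ _ z.2.1).2.2 _ z.2.2 (hroot z.1)).symm
  have hemb : IsEmbedding f' := by
    refine IsEmbedding.of_comp hf'c hsc ?_
    rw [hfac]
    exact (IsEmbedding.mk hΦi hΦinj).comp IsEmbedding.subtypeVal
  have hrange : Function.Surjective f' := fun y => by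
    obtain ⟨z, hz⟩ := hsurj y.1 (σ y.1) (hσ _ y.2).2.1 (hUB (show (y.1, σ y.1) ∈ U ×ˢ B from ⟨y.2, (hσ _ y.2).1⟩))
    exact ⟨⟨z, show Φ z ∈ U ×ˢ B by rw [hz]; exact ⟨y.2, (hσ _ y.2).1⟩⟩, Subtype.ext (congrArg Prod.fst hz)⟩
  exact hUo.isOpenEmbedding_subtypeVal.comp ⟨hemb, by rw [hrange.range_eq]; exact isOpen_univ⟩

end StandardEtale

set_option maxHeartbeats 400000 in
/-- Etale morphisms give local homeomorphisms. -/
theorem etaleLH : EtaleLH := by
  intro X Y _ _ _ g _ _
  haveI : LocallyOfFiniteType (X ↘ SC) := by rw [← comp_over g (S := SC)]; infer_instance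
  rw [isLocalHomeomorph_iff_isOpenEmbedding_restrict]
  intro x
  obtain ⟨_, ⟨V, hV, rfl⟩, hgxV, -⟩ :=
    Y.isBasis_affineOpens.exists_subset_of_mem_open (Set.mem_univ (g x.pt)) isOpen_univ
  obtain ⟨_, ⟨U, hU, rfl⟩, hxU, hUV⟩ :=
    X.isBasis_affineOpens.exists_subset_of_mem_open (a := x.pt) (u := g ⁻¹' V) hgxV (V.2.preimage g.continuous)
  let R := Γ(Y, V)
  letI : Algebra R Γ(X, U) := (g.appLE V U hUV).hom.toAlgebra
  have hE : Algebra.Etale R Γ(X, U) := g.etale_appLE hV hU hUV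
  haveI : Algebra.FinitePresentation R Γ(X, U) := hE.finitePresentation
  let q : Ideal Γ(X, U) := (hU.primeIdealOf ⟨x.pt, hxU⟩).asIdeal
  haveI : Algebra.IsEtaleAt R q := inferInstance
  obtain ⟨f, hfq, hstd⟩ := Algebra.IsEtaleAt.exists_isStandardEtale (R := R) q
  let W : X.Opens := X.basicOpen f
  have hW : IsAffineOpen W := hU.basicOpen f
  have hxW : x.pt ∈ W := by
    have := hU.fromSpec_preimage_basicOpen f
    have h0 : hU.fromSpec (hU.primeIdealOf ⟨x.pt, hxU⟩) = x.pt := hU.fromSpec_primeIdealOf ⟨x.pt, hxU⟩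
    rw [← h0]
    exact this.ge hfq
  have hWV : W ≤ g ⁻¹ᵁ V := (X.basicOpen_le f).trans hUV
  letI : (W : Scheme).Over SC := ⟨Scheme.Opens.ι W ≫ X ↘ SC⟩
  letI : (V : Scheme).Over SC := ⟨Scheme.Opens.ι V ≫ Y ↘ SC⟩
  haveI : (Scheme.Opens.ι W).IsOver SC := ⟨rfl⟩
  haveI : (Scheme.Opens.ι V).IsOver SC := ⟨rfl⟩
  haveI : IsAffine (W : Scheme) := hW
  haveI : IsAffine (V : Scheme) := hV
  haveI : LocallyOfFiniteType ((W : Scheme) ↘ SC) := inferInstanceAs (LocallyOfFiniteType (Scheme.Opens.ι W ≫ X ↘ SC))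
  haveI : LocallyOfFiniteType ((V : Scheme) ↘ SC) := inferInstanceAs (LocallyOfFiniteType (Scheme.Opens.ι V ≫ Y ↘ SC))
  let g₀ := g.resLE V W hWV
  haveI : g₀.IsOver SC := ⟨by
    show g₀ ≫ Scheme.Opens.ι V ≫ Y ↘ SC = Scheme.Opens.ι W ≫ X ↘ SC
    rw [← Category.assoc, Scheme.Hom.resLE_comp_ι, Category.assoc, comp_over g]⟩
  -- transport the standard etale presentation to global sections of the pieces
  have hstd0 : @Algebra.IsStandardEtale Γ((V : Scheme), ⊤) Γ((W : Scheme), ⊤) _ _ g₀.appTop.hom.toAlgebra := by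
    letI : Algebra Γ(X, U) Γ(X, W) := (X.presheaf.map (homOfLE (X.basicOpen_le f)).op).hom.toAlgebra
    haveI : IsLocalization.Away f Γ(X, W) := hU.isLocalization_basicOpen f
    letI : Algebra R Γ(X, W) := (g.appLE V W hWV).hom.toAlgebra
    haveI : IsScalarTower R Γ(X, U) Γ(X, W) := IsScalarTower.of_algebraMap_eq fun r => by
      show (g.appLE V W hWV).hom r = (g.appLE V U hUV ≫ X.presheaf.map (homOfLE (X.basicOpen_le f)).op).hom r
      rw [Scheme.Hom.appLE_map]
    haveI : Algebra.IsStandardEtale R Γ(X, W) :=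
      .of_equiv ((IsLocalization.algEquiv (Submonoid.powers f) (Localization.Away f) Γ(X, W)).restrictScalars R)
    letI := g₀.appTop.hom.toAlgebra
    letI : Algebra R Γ((W : Scheme), ⊤) := (g.appLE V W hWV ≫ (Scheme.Opens.topIso W).inv).hom.toAlgebra
    letI : Algebra R Γ((V : Scheme), ⊤) := (Scheme.Opens.topIso V).inv.hom.toAlgebra
    haveI : IsScalarTower R Γ((V : Scheme), ⊤) Γ((W : Scheme), ⊤) := IsScalarTower.of_algebraMap_eq fun r => by
      show (g.appLE V W hWV ≫ (Scheme.Opens.topIso W).inv).hom r = ((Scheme.Opens.topIso V).inv ≫ g₀.appTop).hom r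
      refine congrArg (fun m : R ⟶ Γ((W : Scheme), ⊤) => m.hom r) ?_
      show _ = _ ≫ g₀.app ⊤
      rw [Scheme.Hom.resLE_app_top]
      exact (Iso.inv_hom_id_assoc _ _).symm
    haveI : Algebra.IsStandardEtale R Γ((W : Scheme), ⊤) :=
      .of_equiv { (Scheme.Opens.topIso W).symm.commRingCatIsoToRingEquiv with commutes' := fun r => rfl }
    exact isStandardEtale_of_bijective R Γ((V : Scheme), ⊤) Γ((W : Scheme), ⊤)
      (ConcreteCategory.bijective_of_isIso (Scheme.Opens.topIso V).inv)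
  obtain ⟨N, hN, hNe⟩ := isLocalHomeomorph_iff_isOpenEmbedding_restrict.mp
    (isLocalHomeomorph_of_isStandardEtale g₀ hstd0) ⟨IsOpenImmersion.lift (Scheme.Opens.ι W) x.1 (by
      rintro _ ⟨a, rfl⟩
      rw [Scheme.Opens.range_ι, An.eq_cpt a]
      exact hxW), by
        show _ ≫ Scheme.Opens.ι W ≫ X ↘ SC = _
        rw [← Category.assoc, IsOpenImmersion.lift_fac]; exact x.2⟩
  have hi := isOpenEmbedding_map (Scheme.Opens.ι W)
  refine ⟨Pts.map (Scheme.Opens.ι W) '' interior N, ?_, ?_⟩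
  · refine (hi.isOpenMap _ isOpen_interior).mem_nhds ⟨_, mem_interior_iff_mem_nhds.mpr hN, ?_⟩
    exact Subtype.ext (IsOpenImmersion.lift_fac _ _ _)
  · let e := (hi.isEmbedding.comp IsEmbedding.subtypeVal : IsEmbedding fun a : interior N => Pts.map (Scheme.Opens.ι W) a.1).toHomeomorph
    have hr : Set.range (fun a : interior N => Pts.map (Scheme.Opens.ι W) a.1) = Pts.map (Scheme.Opens.ι W) '' interior N :=
      (Set.image_eq_range _ _).symm
    let e' := e.trans (Homeomorph.setCongr hr)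
    have : (Pts.map (Scheme.Opens.ι W) '' interior N).domRestrict (Pts.map g) =
        (Pts.map (Scheme.Opens.ι V) ∘ N.domRestrict (Pts.map g₀) ∘ Set.inclusion interior_subset) ∘ e'.symm := by
      funext a
      obtain ⟨b, rfl⟩ := e'.surjective a
      simp only [Function.comp_apply, Homeomorph.symm_apply_apply]
      refine Subtype.ext ?_
      show (b.1.1 ≫ Scheme.Opens.ι W) ≫ g = (b.1.1 ≫ g₀) ≫ Scheme.Opens.ι V
      rw [Category.assoc, Category.assoc, Scheme.Hom.resLE_comp_ι]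
    rw [this]
    exact ((isOpenEmbedding_map _).comp (hNe.comp (IsOpenEmbedding.inclusion interior_subset
      (isOpen_interior.preimage continuous_subtype_val)))).comp e'.symm.isOpenEmbedding

end Groth.Agent.AnPts
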