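import Groth.Agent.AnPts.Connected
import Groth.Agent.AnPts.EpsFlat
import Mathlib.AlgebraicGeometry.Morphisms.FlatMono
import Mathlib.AlgebraicGeometry.Morphisms.Etale

/-!
# The functor `U ↦ U(ℂ)` on etale schemes is faithful, and full towards separated targets
-/

set_option autoImplicit false
set_option backward.isDefEq.respectTransparency.types false

open CategoryTheory CategoryTheory.Limits AlgebraicGeometry Topology TopologicalSpace An

namespace Groth.Agent.AnPts

variable {X U V : Scheme.{0}} [U.Over SC] [LocallyOfFiniteType (U ↘ SC)]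

/-- An open subscheme with all complex points is everything. -/
theorem isIso_of_forall_pts {E : Scheme.{0}} (j : E ⟶ U) [IsOpenImmersion j]
    (h : ∀ z : Pts U, z.pt ∈ Set.range j) : IsIso j := by
  haveI : Surjective j := ⟨fun u => by
    by_contra hu
    obtain ⟨z, hz⟩ := preimage_pt_nonempty (X := U) (Z := (Set.range j)ᶜ) ⟨u, fun ⟨e, he⟩ => hu ⟨e, he⟩⟩
      j.isOpenEmbedding.isOpen_range.isClosed_compl.isLocallyClosed
    exact hz (h z)⟩
  haveI : Epi j.base := (TopCat.epi_iff_surjective _).mpr j.surjective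
  exact IsOpenImmersion.isIso j

/-- Two morphisms to an unramified scheme over `X` agreeing on complex points are equal. -/
theorem hom_ext_of_pts {g g' : U ⟶ V} (p : V ⟶ X) [FormallyUnramified p] [LocallyOfFiniteType p]
    (w : g ≫ p = g' ≫ p) (h : ∀ z : Pts U, z.1 ≫ g = z.1 ≫ g') : g = g' := by
  let k := pullback.lift g g' w
  let j := pullback.fst k (pullback.diagonal p)
  haveI : IsIso j := isIso_of_forall_pts j fun z => by
    have hz : z.1 ≫ k = (z.1 ≫ g) ≫ pullback.diagonal p := pullback.hom_ext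
      (by simp [k, Category.assoc]; erw [pullback.lift_fst]) (by simp [k, Category.assoc, h z]; erw [pullback.lift_snd])
    refine ⟨pullback.lift z.1 (z.1 ≫ g) hz cpt, ?_⟩
    rw [← Scheme.Hom.comp_apply, pullback.lift_fst]
    rfl
  have h1 : j ≫ g = pullback.snd k (pullback.diagonal p) := by
    have := congrArg (fun m => m ≫ pullback.fst p p) (pullback.condition (f := k) (g := pullback.diagonal p))
    simp [k, j] at this ⊢
    erw [pullback.lift_fst] at this
    exact this
  have h2 : j ≫ g' = pullback.snd k (pullback.diagonal p) := by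
    have := congrArg (fun m => m ≫ pullback.snd p p) (pullback.condition (f := k) (g := pullback.diagonal p))
    simp [k, j] at this ⊢
    erw [pullback.lift_snd] at this
    exact this
  exact (cancel_epi j).mp (h1.trans h2.symm)

/-- An etale morphism bijective on complex points is an isomorphism. -/
theorem isIso_of_etale_of_bijective {W : Scheme.{0}} [W.Over SC] [LocallyOfFiniteType (W ↘ SC)]
    (f : W ⟶ U) [f.IsOver SC] [Etale f] (h : Function.Bijective (Pts.map f)) : IsIso f := by
  haveI : Mono f := by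
    rw [← pullback.isIso_diagonal_iff]
    refine isIso_of_forall_pts (U := pullback f f) (pullback.diagonal f) fun z => ?_
    refine ⟨(Pts.map (pullback.fst f f) z).pt, ?_⟩
    have e : z.1 ≫ pullback.fst f f = z.1 ≫ pullback.snd f f :=
      congrArg Subtype.val (h.1 (Pts.map_pullback_condition f f z))
    have e2 : (z.1 ≫ pullback.fst f f) ≫ pullback.diagonal f = z.1 := pullback.hom_ext
      (by simp [Category.assoc]) (by simp [Category.assoc, e])
    show pullback.diagonal f ((z.1 ≫ pullback.fst f f) cpt) = z.1 cpt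
    rw [← Scheme.Hom.comp_apply, e2]
  haveI : IsOpenImmersion f := IsOpenImmersion.of_flat_of_mono f
  refine isIso_of_forall_pts f fun z => ?_
  obtain ⟨w, rfl⟩ := h.2 z
  exact ⟨w.pt, (Pts.pt_map f w).symm⟩

/-- Clopen sets of complex points come from clopen sets of the scheme. -/
theorem exists_clopen_preimage {C : Set (Pts U)} (hC : IsClopen C) :
    ∃ S : Set U, IsClopen S ∧ Pts.pt ⁻¹' S = C := by
  haveI : IsLocallyNoetherian U := LocallyOfFiniteType.isLocallyNoetherian (U ↘ SC)
  have hU : ∀ z : U, ∃ O ∈ nhds z, NoetherianSpace O := fun z => by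
    obtain ⟨_, ⟨W, hW, rfl⟩, hzW, -⟩ :=
      U.isBasis_affineOpens.exists_subset_of_mem_open (Set.mem_univ z) isOpen_univ
    haveI : IsAffine (W : Scheme) := hW
    haveI : IsLocallyNoetherian (W : Scheme) := isLocallyNoetherian_of_isOpenImmersion (Scheme.Opens.ι W)
    haveI : IsNoetherian (W : Scheme) := { }
    exact ⟨W, W.2.mem_nhds hzW, inferInstanceAs (NoetherianSpace (W : Scheme))⟩
  have hb := bijective_connectedComponentsMap (X := U)
  have hsub : ∀ x ∈ C, ∀ y : Pts U, connectedComponent x.pt = connectedComponent y.pt → y ∈ C := fun x hx y hxy => by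
    have h1 : (ConnectedComponents.mk x) = ConnectedComponents.mk y :=
      hb.1 (ConnectedComponents.coe_eq_coe.mpr hxy)
    exact hC.connectedComponent_subset hx (by rw [ConnectedComponents.coe_eq_coe.mp h1]; exact mem_connectedComponent)
  refine ⟨⋃ x ∈ C, connectedComponent (Pts.pt x), ⟨?_, ?_⟩, ?_⟩
  · rw [← isOpen_compl_iff, isOpen_iff_forall_mem_open]
    intro z hz
    refine ⟨connectedComponent z, fun w hw hw' => hz ?_, IrredComp.isOpen_connectedComponent hU z,
      mem_connectedComponent⟩
    obtain ⟨x, hx, hwx⟩ := Set.mem_iUnion₂.mp hw'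
    refine Set.mem_iUnion₂.mpr ⟨x, hx, ?_⟩
    rw [connectedComponent_eq hwx, ← connectedComponent_eq hw]
    exact mem_connectedComponent
  · exact isOpen_biUnion fun x _ => IrredComp.isOpen_connectedComponent hU x.pt
  · ext y
    simp only [Set.mem_preimage, Set.mem_iUnion]
    exact ⟨fun ⟨x, hx, hyx⟩ => hsub x hx y (connectedComponent_eq hyx), fun hy => ⟨y, hy, mem_connectedComponent⟩⟩

/-- A continuous map over `X(ℂ)` towards an etale separated `X`-scheme is algebraic. -/
theorem exists_hom_of_continuous [X.Over SC] [LocallyOfFiniteType (X ↘ SC)] [V.Over SC]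
    [LocallyOfFiniteType (V ↘ SC)] (p : U ⟶ X) (q : V ⟶ X) [p.IsOver SC] [q.IsOver SC] [Etale q] [IsSeparated q]
    {φ : Pts U → Pts V} (hφ : Continuous φ) (hover : ∀ a, Pts.map q (φ a) = Pts.map p a) :
    ∃ g : U ⟶ V, g ≫ q = p ∧ ∀ a : Pts U, a.1 ≫ g = (φ a).1 := by
  let W := pullback p q
  have hh := isHomeomorph_pullback p q
  let e := hh.homeomorph
  let s : Pts U → Pts W := fun a => e.symm ⟨(a, φ a), (hover a).symm⟩
  have hs1 : ∀ a, Pts.map (pullback.fst p q) (s a) = a := fun a =>
    congrArg (fun z => z.1.1) (e.apply_symm_apply ⟨(a, φ a), (hover a).symm⟩)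
  have hs2 : ∀ a, Pts.map (pullback.snd p q) (s a) = φ a := fun a =>
    congrArg (fun z => z.1.2) (e.apply_symm_apply ⟨(a, φ a), (hover a).symm⟩)
  have hsc : Continuous s := e.symm.continuous.comp ((continuous_id.prodMk hφ).subtype_mk _)
  haveI : Etale (pullback.fst p q) := inferInstance
  haveI : IsSeparated (pullback.fst p q) := inferInstance
  have hlh : IsLocalHomeomorph (Pts.map (pullback.fst p q)) := etaleLH W U (pullback.fst p q)
  have hsep := (isSeparated_iff_isSeparatedMap (pullback.fst p q)).mp inferInstance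
  have hid : IsLocalHomeomorph (Pts.map (pullback.fst p q) ∘ s) := by
    rw [show Pts.map (pullback.fst p q) ∘ s = id from funext hs1]
    exact (Homeomorph.refl _).isLocalHomeomorph
  have hlhs : IsLocalHomeomorph s := hid.of_comp hlh hsc
  have hclosed : IsClosed (Set.range s) := by
    have : Set.range s = {z | s (Pts.map (pullback.fst p q) z) = z} := by
      ext z
      exact ⟨by rintro ⟨a, rfl⟩; exact congrArg s (hs1 a), fun h => ⟨_, h⟩⟩
    rw [this]
    exact hsep.isClosed_eqLocus (hsc.comp (Pts.continuous_map _)) continuous_id (funext fun z => hs1 _)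
  obtain ⟨S, hS, hSC⟩ := exists_clopen_preimage (U := W) ⟨hclosed, hlhs.isOpenMap.isOpen_range⟩
  let S' : W.Opens := ⟨S, hS.2⟩
  letI : (S' : Scheme).Over SC := ⟨Scheme.Opens.ι S' ≫ W ↘ SC⟩
  haveI : (Scheme.Opens.ι S').IsOver SC := ⟨rfl⟩
  haveI : LocallyOfFiniteType ((S' : Scheme) ↘ SC) :=
    inferInstanceAs (LocallyOfFiniteType (Scheme.Opens.ι S' ≫ W ↘ SC))
  let f : (S' : Scheme) ⟶ U := Scheme.Opens.ι S' ≫ pullback.fst p q
  haveI : f.IsOver SC := ⟨by
    show (Scheme.Opens.ι S' ≫ pullback.fst p q) ≫ U ↘ SC = Scheme.Opens.ι S' ≫ W ↘ SC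
    rw [Category.assoc]; rfl⟩
  have hlift : ∀ a, ∃ w : Pts (S' : Scheme), Pts.map (Scheme.Opens.ι S') w = s a := fun a => by
    have : s a ∈ Set.range (Pts.map (Scheme.Opens.ι S')) := by
      rw [range_map, Scheme.Opens.range_ι]; exact hSC.ge ⟨a, rfl⟩
    exact this
  have hinS : ∀ w : Pts (S' : Scheme), ∃ a, s a = Pts.map (Scheme.Opens.ι S') w := fun w => hSC.le (by
    show (Pts.map (Scheme.Opens.ι S') w).pt ∈ S
    rw [Pts.pt_map]; exact w.pt.2)
  have hmap : ∀ w : Pts (S' : Scheme), Pts.map f w = Pts.map (pullback.fst p q) (Pts.map (Scheme.Opens.ι S') w) :=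
    fun w => Subtype.ext (Category.assoc _ _ _).symm
  haveI : IsIso f := isIso_of_etale_of_bijective f ⟨fun w w' hww => by
      refine map_injective_of_mono (Scheme.Opens.ι S') ?_
      obtain ⟨a, ha⟩ := hinS w
      obtain ⟨a', ha'⟩ := hinS w'
      rw [hmap, hmap, ← ha, ← ha', hs1, hs1] at hww
      rw [← ha, ← ha', hww],
    fun a => by
      obtain ⟨w, hw⟩ := hlift a
      exact ⟨w, by rw [hmap, hw, hs1]⟩⟩
  refine ⟨inv f ≫ Scheme.Opens.ι S' ≫ pullback.snd p q, ?_, fun a => ?_⟩
  · rw [Category.assoc, IsIso.inv_comp_eq, Category.assoc, ← pullback.condition]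
    show _ = (Scheme.Opens.ι S' ≫ pullback.fst p q) ≫ p
    rw [Category.assoc]
  · obtain ⟨w, hw⟩ := hlift a
    have hwf : w.1 ≫ f = a.1 := congrArg Subtype.val (show Pts.map f w = a by rw [hmap, hw, hs1])
    rw [← hwf, Category.assoc, IsIso.hom_inv_id_assoc, ← Category.assoc]
    exact congrArg Subtype.val (show Pts.map (pullback.snd p q) (Pts.map (Scheme.Opens.ι S') w) = φ a by rw [hw, hs2])

end Groth.Agent.AnPts
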