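import Groth.Agent.AnPts.Basic
import Groth.Agent.AnPts.Entire
import Groth.Prelude.Def_AnHol
import Mathlib.AlgebraicGeometry.AffineSpace
import Mathlib.Analysis.Calculus.FDeriv.Mul
import Mathlib.Analysis.Calculus.FDeriv.Pi

/-!
# Holomorphic functions in coordinates
-/

set_option autoImplicit false
set_option backward.isDefEq.respectTransparency.types false

open AlgebraicGeometry Topology An
open TopologicalSpace (Opens)

namespace Groth.Agent.AnPts

/-- Polynomials are complex differentiable. -/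
theorem differentiable_eval {n : ℕ} (P : MvPolynomial (Fin n) ℂ) :
    Differentiable ℂ fun z : Fin n → ℂ => MvPolynomial.eval z P := by
  induction P using MvPolynomial.induction_on with
  | C c => simp only [MvPolynomial.eval_C]; exact differentiable_const c
  | add P Q hP hQ => simp only [map_add]; exact hP.add hQ
  | mul_X P j hP => simp only [map_mul, MvPolynomial.eval_X]; exact hP.mul (differentiable_apply j)

variable {X : Scheme.{0}} [X.Over SC] [IsAffine X] {m : ℕ}

/-- Sections are fractions of polynomials in the coordinates, near a given point. -/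
theorem exists_ev_eq_div (q : MvPolynomial (Fin m) ℂ →ₐ[ℂ] Γ(X, ⊤)) (hq : Function.Surjective q) {U : X.Opens}
    (s : Γ(X, U)) (x : Pts X) (hxU : x.pt ∈ U) :
    ∃ (P Q : MvPolynomial (Fin m) ℂ) (k : ℕ), MvPolynomial.eval (coords q x) Q ≠ 0 ∧
      ∀ y : Pts X, MvPolynomial.eval (coords q y) Q ≠ 0 → ∃ hU : y.pt ∈ U,
        y.ev U hU s = MvPolynomial.eval (coords q y) P / MvPolynomial.eval (coords q y) Q ^ k := by
  obtain ⟨g, hgU, hxg⟩ := (isAffineOpen_top X).exists_basicOpen_le (V := U) ⟨x.pt, hxU⟩ trivial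
  haveI := (isAffineOpen_top X).isLocalization_basicOpen g
  obtain ⟨⟨a, ⟨_, k, rfl⟩⟩, hak⟩ := IsLocalization.surj (Submonoid.powers g)
    (X.presheaf.map (CategoryTheory.homOfLE hgU).op s)
  obtain ⟨Pg, rfl⟩ := hq g
  obtain ⟨Pa, rfl⟩ := hq a
  refine ⟨Pa, Pg, k, ?_, fun y h => ?_⟩
  · rw [← evTop_eq_eval]; exact (mem_basicOpen_iff x (Opens.mem_top _) _).mp hxg
  have hy : y.pt ∈ X.basicOpen (q Pg) := (mem_basicOpen_iff y (Opens.mem_top _) _).mpr (by
    show y.evTop _ ≠ 0
    rw [evTop_eq_eval]; exact h)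
  refine ⟨hgU hy, (eq_div_iff (pow_ne_zero k h)).mpr ?_⟩
  have := congrArg (evHom y _ hy) hak
  rw [map_mul] at this
  simp only [evHom_apply] at this
  rw [ev_res y hgU hy] at this
  have hres : ∀ c : Γ(X, ⊤), y.ev _ hy (algebraMap Γ(X, ⊤) Γ(X, X.basicOpen (q Pg)) c) = y.evTop c :=
    fun c => ev_res y (U := ⊤) le_top hy c
  rw [hres, hres] at this
  rw [← evTop_eq_eval, ← evTop_eq_eval,
    show y.evTop (q Pg) ^ k = y.evTop (q Pg ^ k) from (map_pow (evAlg y) _ _).symm]
  exact this

/-- The global functions of affine space are the polynomials in the coordinates. -/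
theorem surjective_aeval_coord (n : ℕ) :
    Function.Surjective (MvPolynomial.aeval (AffineSpace.coord SC) :
      MvPolynomial (Fin n) ℂ →ₐ[ℂ] Γ(𝔸(Fin n; SC), ⊤)) := by
  let A := 𝔸(Fin n; SC)
  let φ := CommRingCat.ofHom (MvPolynomial.eval₂Hom ((A ↘ SC).appTop).hom (AffineSpace.coord SC))
  haveI : CategoryTheory.IsIso (Spec.map φ) := by
    have : CategoryTheory.IsIso (CategoryTheory.CategoryStruct.comp A.toSpecΓ (Spec.map φ)) :=
      inferInstanceAs (CategoryTheory.IsIso (AffineSpace.isoOfIsAffine (Fin n) SC).hom)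
    exact CategoryTheory.IsIso.of_isIso_comp_left A.toSpecΓ (Spec.map φ)
  haveI : CategoryTheory.IsIso (Scheme.Spec.map φ.op) := inferInstanceAs (CategoryTheory.IsIso (Spec.map φ))
  haveI : CategoryTheory.IsIso φ := (CategoryTheory.isIso_op_iff φ).mp
    (CategoryTheory.isIso_of_fully_faithful (Scheme.Spec) φ.op)
  intro c
  obtain ⟨P, hP⟩ := (CategoryTheory.ConcreteCategory.bijective_of_isIso φ).2 c
  let e := (Scheme.ΓSpecIso (CommRingCat.of ℂ)).commRingCatIsoToRingEquiv
  refine ⟨MvPolynomial.map e.toRingHom P, ?_⟩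
  rw [← hP]
  show MvPolynomial.eval₂Hom (algebraMap ℂ Γ(A, ⊤)) _ (MvPolynomial.map e.toRingHom P) = MvPolynomial.eval₂Hom _ _ P
  rw [MvPolynomial.eval₂Hom_map_hom]
  congr 2
  ext t
  show (A ↘ SC).appTop (e.symm (e t)) = _
  rw [RingEquiv.symm_apply_apply]

end Groth.Agent.AnPts
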