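import Groth.Agent.AnPts.RootSet

/-!
# Interpolation of holomorphic functions on a root set
-/

set_option autoImplicit false

open Polynomial Filter Topology Function

namespace Groth.Agent.AnPts

/-- A continuous `N`-th root, on the root set of `F`, of a polynomial function without zero there, is
the quotient of a polynomial function by the derivative of `F`. -/
theorem exists_interpolation {d : ℕ} {F : (MvPolynomial (Fin d) ℂ)[X]} (hm : F.Monic)
    {D : MvPolynomial (Fin d) ℂ} (hD : D ≠ 0)
    (hsimple : ∀ a r, MvPolynomial.eval a D ≠ 0 → (F.map (MvPolynomial.eval a)).IsRoot r →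
      (F.map (MvPolynomial.eval a)).derivative.eval r ≠ 0)
    {w : (Fin d → ℂ) × ℂ → ℂ}
    (hw : ContinuousOn w {p | MvPolynomial.eval p.1 D ≠ 0 ∧ (F.map (MvPolynomial.eval p.1)).IsRoot p.2})
    {N : ℕ} (hN : 0 < N) {U : (MvPolynomial (Fin d) ℂ)[X]} {s : MvPolynomial (Fin d) ℂ}
    (hs : ∀ a, MvPolynomial.eval a D ≠ 0 → MvPolynomial.eval a s ≠ 0)
    (hwU : ∀ a r, MvPolynomial.eval a D ≠ 0 → (F.map (MvPolynomial.eval a)).IsRoot r →
      w (a, r) ^ N * MvPolynomial.eval a s = (U.map (MvPolynomial.eval a)).eval r)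
    (hU0 : ∀ a r, MvPolynomial.eval a D ≠ 0 → (F.map (MvPolynomial.eval a)).IsRoot r → w (a, r) ≠ 0)
    {C : ℝ} {M : ℕ} (hbd : ∀ a r, MvPolynomial.eval a D ≠ 0 → (F.map (MvPolynomial.eval a)).IsRoot r →
      ‖w (a, r)‖ ≤ C * (1 + ‖a‖) ^ M) :
    ∃ H : (MvPolynomial (Fin d) ℂ)[X], ∀ a r, MvPolynomial.eval a D ≠ 0 →
      (F.map (MvPolynomial.eval a)).IsRoot r →
      (H.map (MvPolynomial.eval a)).eval r = w (a, r) * (F.map (MvPolynomial.eval a)).derivative.eval r := by
  classical
  set n := F.natDegree with hn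
  let Fa : (Fin d → ℂ) → ℂ[X] := fun a => F.map (MvPolynomial.eval a)
  have hFm : ∀ a, (Fa a).Monic := fun a => hm.map _
  have hFn : ∀ a, (Fa a).natDegree = n := fun a => hm.natDegree_map _
  have hcoef : ∀ a k, (Fa a).coeff k = MvPolynomial.eval a (F.coeff k) := fun a k => coeff_map _ _
  have hnd : ∀ a, MvPolynomial.eval a D ≠ 0 → (Fa a).roots.Nodup := fun a ha => by
    refine Multiset.nodup_iff_count_le_one.mpr fun r => ?_
    by_contra hcount
    rw [not_le, count_roots, one_lt_rootMultiplicity_iff_isRoot (hFm a).ne_zero] at hcount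
    exact hsimple a r ha hcount.1 hcount.2
  have hcard : ∀ a, MvPolynomial.eval a D ≠ 0 → (Fa a).roots.toFinset.card = n := fun a ha => by
    rw [Multiset.toFinset_card_of_nodup (hnd a ha), ← (IsAlgClosed.splits (Fa a)).natDegree_eq_card_roots, hFn]
  have hmemR : ∀ {a : Fin d → ℂ} {r : ℂ}, r ∈ (Fa a).roots.toFinset ↔ (Fa a).IsRoot r := fun {a r} => by
    rw [Multiset.mem_toFinset, mem_roots (hFm a).ne_zero]
  have hV : IsOpen {a : Fin d → ℂ | MvPolynomial.eval a D ≠ 0} := isOpen_ne_fun D.continuous_eval continuous_const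
  let R : (Fin d → ℂ) → Finset ℂ := fun a => (Fa a).roots.toFinset
  -- the interpolation values are polynomials
  have hpoly : ∀ t : ℂ, ∃ P : MvPolynomial (Fin d) ℂ, ∀ a, MvPolynomial.eval a D ≠ 0 →
      ∑ r ∈ R a, w (a, r) * ∏ x ∈ (R a).erase r, (t - x) = MvPolynomial.eval a P := by
    intro t
    have hg : ∀ a₀, MvPolynomial.eval a₀ D ≠ 0 →
        ContinuousAt (fun a => ∑ r ∈ R a, w (a, r) * ∏ x ∈ (R a).erase r, (t - x)) a₀ ∧
        ∀ i, DifferentiableAt ℂ
          (fun z => ∑ r ∈ R (update a₀ i z), w (update a₀ i z, r) * ∏ x ∈ (R (update a₀ i z)).erase r, (t - x))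
          (a₀ i) := by
      intro a₀ ha₀
      obtain ⟨W, hW, σ, hσ, hχ⟩ := exists_local_roots Fa n hFm hFn
        (fun k => by simp only [hcoef]; exact MvPolynomial.continuous_eval _)
        (V := {a | MvPolynomial.eval a D ≠ 0}) hV hsimple hcard (u := Set.univ) (v := ∅) isOpen_univ isOpen_empty
        (by simp) (by simp) ha₀
      simp only [Set.mem_univ, Finset.filter_true] at hσ hχ
      have he : (fun a => ∑ r ∈ R a, w (a, r) * ∏ x ∈ (R a).erase r, (t - x)) =ᶠ[𝓝 a₀]
          fun a => ∑ r ∈ R a₀, w (a, σ r a) * ∏ x ∈ (R a₀).erase r, (t - σ x a) := by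
        filter_upwards [hW] with a ha
        rw [show R a = (R a₀).image (fun r => σ r a) from (hχ a ha).2, Finset.sum_image (hχ a ha).1]
        refine Finset.sum_congr rfl fun r hr => ?_
        congr 1
        have hi : ((R a₀).image fun r => σ r a).erase (σ r a) = ((R a₀).erase r).image fun r => σ r a := by
          ext z
          simp only [Finset.mem_erase, Finset.mem_image]
          constructor
          · rintro ⟨hne, x, hx, rfl⟩
            exact ⟨x, ⟨fun h => hne (h ▸ rfl), hx⟩, rfl⟩
          · rintro ⟨x, ⟨hne, hx⟩, rfl⟩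
            exact ⟨fun h => hne ((hχ a ha).1 hx hr h), x, hx, rfl⟩
        rw [hi, Finset.prod_image ((hχ a ha).1.mono (Finset.coe_subset.mpr (Finset.erase_subset _ _)))]
      have hmem : ∀ r ∈ R a₀, ∀ a ∈ W, (a, σ r a) ∈ {p : (Fin d → ℂ) × ℂ |
          MvPolynomial.eval p.1 D ≠ 0 ∧ (F.map (MvPolynomial.eval p.1)).IsRoot p.2} :=
        fun r hr a ha => (hσ r hr).2 a ha
      have hwc : ∀ r ∈ R a₀, ContinuousAt (fun a => w (a, σ r a)) a₀ := fun r hr =>
        (hw.comp (continuousOn_id.prodMk (hσ r hr).1) (hmem r hr)).continuousAt hW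
      refine ⟨ContinuousAt.congr (tendsto_finsetSum _ fun r hr => (hwc r hr).mul (tendsto_finsetProd _ fun x hx =>
        (continuousAt_const (y := t)).sub ((hσ x (Finset.mem_of_mem_erase hx)).1.continuousAt hW))) he.symm,
        fun i => ?_⟩
      have hupdc : Continuous fun z => update a₀ i z := (continuous_const (y := a₀)).update i continuous_id
      have hupd : Tendsto (fun z => update a₀ i z) (𝓝 (a₀ i)) (𝓝 a₀) := by
        have h := hupdc.tendsto (a₀ i); simpa using h
      refine DifferentiableAt.congr_of_eventuallyEq (f := fun z => ∑ r ∈ R a₀,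
        w (update a₀ i z, σ r (update a₀ i z)) * ∏ x ∈ (R a₀).erase r, (t - σ x (update a₀ i z))) ?_
        (hupd.eventually he)
      have hσd : ∀ x ∈ R a₀, DifferentiableAt ℂ (fun z => σ x (update a₀ i z)) (a₀ i) := fun x hx => by
        refine differentiableAt_root (G := fun z => Fa (update a₀ i z)) (fun z => hFn _)
          (fun k => by simp only [hcoef]; exact differentiable_eval_update _ _ _ _) ?_
          ((hupd.eventually hW).mono fun z hz => ((hσ x hx).2 _ hz).2) ?_
        · exact ((hσ x hx).1.continuousAt hW).comp_of_eq hupdc.continuousAt (update_eq_self i a₀)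
        · simp only [update_eq_self]
          exact hsimple a₀ _ ha₀ ((hσ x hx).2 a₀ (mem_of_mem_nhds hW)).2
      refine DifferentiableAt.fun_sum fun r hr => ((?_ : DifferentiableAt ℂ _ _)).mul
        (DifferentiableAt.fun_finsetProd fun x hx =>
          (differentiableAt_const t).sub (hσd x (Finset.mem_of_mem_erase hx)))
      have hq : ∀ z, Polynomial.eval (σ r (update a₀ i z)) (U.map (MvPolynomial.eval (update a₀ i z))) =
          ∑ k ∈ Finset.range (U.natDegree + 1),
            MvPolynomial.eval (update a₀ i z) (U.coeff k) * σ r (update a₀ i z) ^ k := fun z => by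
        rw [eval_map, eval₂_eq_sum_range]
      have hnum : DifferentiableAt ℂ (fun z => Polynomial.eval (σ r (update a₀ i z))
          (U.map (MvPolynomial.eval (update a₀ i z))) / MvPolynomial.eval (update a₀ i z) s) (a₀ i) := by
        simp only [hq]
        exact (DifferentiableAt.fun_sum fun k _ => (differentiable_eval_update _ _ _ _).mul ((hσd r hr).pow k)).div
          (differentiable_eval_update _ _ _ _) (by rw [update_eq_self]; exact hs a₀ ha₀)
      refine differentiableAt_root (G := fun z => X ^ N - Polynomial.C (Polynomial.eval (σ r (update a₀ i z))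
          (U.map (MvPolynomial.eval (update a₀ i z))) / MvPolynomial.eval (update a₀ i z) s))
        (n := N) (fun z => natDegree_X_pow_sub_C) (fun k => ?_) ?_ ((hupd.eventually hW).mono fun z hz => ?_) ?_
      · simp only [coeff_sub, coeff_C]
        split
        · exact (differentiableAt_const _).sub hnum
        · exact (differentiableAt_const _).sub (differentiableAt_const _)
      · exact (hwc r hr).comp_of_eq hupdc.continuousAt (update_eq_self i a₀)
      · have h1 := hmem r hr _ hz
        rw [IsRoot, eval_sub, eval_pow, eval_X, eval_C, sub_eq_zero, eq_div_iff (hs _ h1.1)]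
        exact hwU _ _ h1.1 h1.2
      · have h1 := hmem r hr a₀ (mem_of_mem_nhds hW)
        simp only [update_eq_self, derivative_sub, derivative_X_pow, derivative_C, sub_zero, eval_mul, eval_C,
          eval_pow, eval_X]
        exact mul_ne_zero (Nat.cast_ne_zero.mpr hN.ne') (pow_ne_zero _ (hU0 _ _ h1.1 h1.2))
    choose C' N' hC0 hCb using fun k => exists_growth_bound (F.coeff k)
    set B := ‖t‖ + 1 + ∑ k ∈ Finset.range n, C' k with hBdef
    set L := ∑ k ∈ Finset.range n, N' k with hL
    refine exists_mvPolynomial_of_growth d hD (g := fun a => ∑ r ∈ R a, w (a, r) * ∏ x ∈ (R a).erase r, (t - x))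
      (fun a ha => (hg a ha).1.continuousWithinAt) (fun a ha i => (hg a ha).2 i)
      (C := n * (|C| * B ^ n)) (N := M + L * n) fun a ha => ?_
    have hB : 1 ≤ B := by
      have : 0 ≤ ∑ k ∈ Finset.range n, C' k := Finset.sum_nonneg fun k _ => hC0 k
      linarith [norm_nonneg t]
    have hpow : (1 : ℝ) ≤ (1 + ‖a‖) ^ L := one_le_pow₀ (by linarith [norm_nonneg a])
    have hroot : ∀ x ∈ R a, ‖t - x‖ ≤ B * (1 + ‖a‖) ^ L := fun x hx => by
      refine (norm_sub_le _ _).trans ?_
      have h1 := norm_le_of_root (hFm a) (hmemR.mp hx)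
      rw [hFn] at h1
      have hsum : ∑ k ∈ Finset.range n, ‖(Fa a).coeff k‖ ≤ (∑ k ∈ Finset.range n, C' k) * (1 + ‖a‖) ^ L := by
        rw [Finset.sum_mul]
        refine Finset.sum_le_sum fun k hk => ?_
        rw [hcoef]
        exact (hCb k a).trans (mul_le_mul_of_nonneg_left (pow_le_pow_right₀ (by linarith [norm_nonneg a])
          (Finset.single_le_sum (fun j _ => Nat.zero_le (N' j)) hk)) (hC0 k))
      rw [hBdef]
      nlinarith [norm_nonneg t]
    refine (norm_sum_le _ _).trans ((Finset.sum_le_card_nsmul (R a) _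
      (|C| * (1 + ‖a‖) ^ M * (B * (1 + ‖a‖) ^ L) ^ n) fun r hr => ?_).trans ?_)
    · rw [norm_mul, norm_prod]
      refine mul_le_mul ((hbd a r ha (hmemR.mp hr)).trans
        (mul_le_mul_of_nonneg_right (le_abs_self C) (by positivity))) ?_
        (Finset.prod_nonneg fun _ _ => norm_nonneg _) (by positivity)
      refine ((Finset.prod_le_prod (g := fun _ => B * (1 + ‖a‖) ^ L) (fun x _ => norm_nonneg _)
        fun x hx => hroot x (Finset.mem_of_mem_erase hx)).trans_eq (Finset.prod_const _)).trans
        (pow_le_pow_right₀ (one_le_mul_of_one_le_of_one_le hB hpow) ?_)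
      exact ((Finset.card_erase_le).trans (hcard a ha).le)
    · rw [show (R a).card = n from hcard a ha, nsmul_eq_mul, mul_pow, ← pow_mul, pow_add]
      ring_nf
      rfl
  choose p hp using hpoly
  let tt : Fin (n + 1) → ℂ := fun i => (i : ℕ)
  have htt : Function.Injective tt := fun i j h => Fin.ext (Nat.cast_injective h)
  refine ⟨∑ i, Polynomial.C (p (tt i)) * (Lagrange.basis Finset.univ tt i).map MvPolynomial.C,
    fun a r ha hr => ?_⟩
  let H : ℂ[X] := ∑ r ∈ R a, Polynomial.C (w (a, r)) * ∏ x ∈ (R a).erase r, (X - Polynomial.C x)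
  have hH : (∑ i, Polynomial.C (p (tt i)) * (Lagrange.basis Finset.univ tt i).map MvPolynomial.C).map
      (MvPolynomial.eval a) = H := by
    rw [Lagrange.eq_interpolate_of_eval_eq (f := H) (fun i => MvPolynomial.eval a (p (tt i))) (v := tt)
      (s := Finset.univ) htt.injOn ?_ ?_]
    · rw [Lagrange.interpolate_apply, Polynomial.map_sum]
      refine Finset.sum_congr rfl fun i _ => ?_
      rw [Polynomial.map_mul, Polynomial.map_C, Polynomial.map_map,
        show (MvPolynomial.eval a).comp MvPolynomial.C = RingHom.id ℂ from RingHom.ext fun c => MvPolynomial.eval_C c,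
        Polynomial.map_id]
    · refine Polynomial.degree_le_natDegree.trans_lt ?_
      rw [Finset.card_univ, Fintype.card_fin]
      refine Nat.cast_lt.mpr (Nat.lt_succ_of_le ?_)
      refine (natDegree_sum_le_of_forall_le _ _ fun x hx => ?_)
      refine natDegree_C_mul_le _ _ |>.trans ?_
      rw [natDegree_finsetProd_X_sub_C_eq_card]
      exact (Finset.card_erase_le).trans (hcard a ha).le
    · intro i _
      rw [← hp _ a ha, eval_finsetSum]
      simp [eval_prod]
  rw [hH]
  have hrR : r ∈ R a := hmemR.mpr hr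
  have hder : (Fa a).derivative.eval r = ∏ x ∈ (R a).erase r, (r - x) := by
    have hF : Fa a = ∏ x ∈ R a, (X - Polynomial.C x) := by
      conv_lhs => rw [(IsAlgClosed.splits (Fa a)).eq_prod_roots_of_monic (hFm a)]
      rw [Finset.prod_eq_multiset_prod, Multiset.toFinset_val, Multiset.dedup_eq_self.mpr (hnd a ha)]
    rw [hF, ← Finset.mul_prod_erase _ _ hrR, derivative_mul, derivative_X_sub_C]
    simp [eval_prod]
  rw [hder, eval_finsetSum, Finset.sum_eq_single r (fun x hx hxr => ?_) (fun h => absurd hrR h)]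
  · simp [eval_prod]
  · rw [eval_mul, eval_prod]
    exact mul_eq_zero_of_right _ (Finset.prod_eq_zero (Finset.mem_erase.mpr ⟨hxr.symm, hrR⟩) (by simp))

end Groth.Agent.AnPts
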