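import Mathlib.CategoryTheory.Functor.Flat
import Mathlib.CategoryTheory.Category.ULift
import Mathlib.CategoryTheory.Adjunction.Unique
import Mathlib.CategoryTheory.Adjunction.Limits

/-!
# Left Kan extension along a flat functor is left exact, beyond small categories of one universe
-/

set_option autoImplicit false

universe w u₁ v₁ u₂ v₂ u₃

open CategoryTheory Limits

namespace Groth.Agent.AnPts

theorem lan_preservesFiniteLimits_of_flat_asSmall
    {C : Type u₁} [Category.{v₁} C] {D : Type u₂} [Category.{v₂} D]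
    {E : Type u₃} [Category.{max w u₁ v₁ u₂ v₂} E] [HasLimits E] [HasColimits E]
    {FE : E → E → Type*} {CE : E → Type (max w u₁ v₁ u₂ v₂)}
    [∀ X Y, FunLike (FE X Y) (CE X) (CE Y)] [ConcreteCategory.{max w u₁ v₁ u₂ v₂} E FE]
    [ReflectsLimits (forget E)] [PreservesFilteredColimits (forget E)] [PreservesLimits (forget E)]
    (F : C ⥤ D) [RepresentablyFlat F] [∀ P : Cᵒᵖ ⥤ E, F.op.HasLeftKanExtension P] :
    PreservesFiniteLimits (F.op.lan : (Cᵒᵖ ⥤ E) ⥤ Dᵒᵖ ⥤ E) := by
  let eC : C ≌ AsSmall.{max w u₂ v₂} C := AsSmall.equiv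
  let eD : D ≌ AsSmall.{max w u₁ v₁} D := AsSmall.equiv
  let F' : AsSmall.{max w u₂ v₂} C ⥤ AsSmall.{max w u₁ v₁} D := eC.inverse ⋙ F ⋙ eD.functor
  haveI : RepresentablyFlat eC.inverse := RepresentablyFlat.of_isRightAdjoint _
  haveI : RepresentablyFlat eD.functor := RepresentablyFlat.of_isRightAdjoint _
  haveI : RepresentablyFlat F' := inferInstanceAs (RepresentablyFlat (eC.inverse ⋙ F ⋙ eD.functor))
  haveI : PreservesFiniteLimits (F'.op.lan : _ ⥤ _ ⥤ E) := lan_preservesFiniteLimits_of_flat E F'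
  let aC := (eC.op.congrLeft (E := E)).toAdjunction
  let aD := (eD.op.congrLeft (E := E)).symm.toAdjunction
  let adj := (aC.comp (F'.op.lanAdjunction E)).comp aD
  let i : (eD.op.congrLeft (E := E)).symm.inverse ⋙ (Functor.whiskeringLeft _ _ E).obj F'.op ⋙
      (eC.op.congrLeft (E := E)).inverse ≅ (Functor.whiskeringLeft Cᵒᵖ Dᵒᵖ E).obj F.op := Iso.refl _
  have h : PreservesFiniteLimits
      (((eC.op.congrLeft (E := E)).functor ⋙ F'.op.lan) ⋙ (eD.op.congrLeft (E := E)).symm.functor) := by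
    haveI : PreservesFiniteLimits ((eC.op.congrLeft (E := E)).functor ⋙ F'.op.lan) :=
      comp_preservesFiniteLimits _ _
    exact comp_preservesFiniteLimits _ _
  exact @preservesFiniteLimits_of_natIso _ _ _ _ _ _
    (Adjunction.leftAdjointUniq (adj.ofNatIsoRight i) (F.op.lanAdjunction E)) h

end Groth.Agent.AnPts
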