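import Groth.Agent.AnPts.RootsConst
import Mathlib.Analysis.Complex.CoveringMap
import Mathlib.Topology.Homotopy.Lifting

/-!
# Regular functions with a continuous logarithm on the complex points are constant
-/

set_option autoImplicit false
set_option backward.isDefEq.respectTransparency.types false

open CategoryTheory AlgebraicGeometry Topology TopologicalSpace An

namespace Groth.Agent.AnPts

variable {X : Scheme.{0}} [X.Over SC] [LocallyOfFiniteType (X ↘ SC)]

/-- The affine case. -/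
theorem evTop_eq_of_log_of_isAffine [IsAffine X] {Z : Set X} (hZ : IsClosed Z) (hZi : IsIrreducible Z) (u : Γ(X, ⊤))
    {v : Pts X → ℂ} (hv : Continuous v) (hexp : ∀ x, Complex.exp (v x) = x.evTop u) :
    ∀ x ∈ (Pts.pt ⁻¹' Z : Set (Pts X)), ∀ y ∈ (Pts.pt ⁻¹' Z : Set (Pts X)), x.evTop u = y.evTop u := by
  haveI := finiteType_top (X := X)
  obtain ⟨n, q, hq⟩ := Algebra.FiniteType.iff_quotient_mvPolynomial''.mp ‹Algebra.FiniteType ℂ Γ(X, ⊤)›
  let e := X.isoSpec.hom.homeomorph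
  let Z' : Set (PrimeSpectrum Γ(X, ⊤)) := e '' Z
  have hZ' : IsIrreducible Z' := hZi.image e e.continuous.continuousOn
  haveI hp : (PrimeSpectrum.vanishingIdeal Z').IsPrime :=
    PrimeSpectrum.isIrreducible_iff_vanishingIdeal_isPrime.mp hZ'
  set p := PrimeSpectrum.vanishingIdeal Z' with hpdef
  have hmem : ∀ x : Pts X, x.pt ∈ Z → ∀ a ∈ p, x.evTop a = 0 := fun x hx a ha =>
    (mem_asIdeal_iff x a).mp ((PrimeSpectrum.mem_vanishingIdeal _ _).mp ha _ ⟨x.pt, hx, rfl⟩)
  have he := isClosedEmbedding_coords q hq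
  have hy : ∀ y : (Γ(X, ⊤) ⧸ p) →ₐ[ℂ] ℂ, ∃ x : Pts X,
      (fun i => y ((Ideal.Quotient.mkₐ ℂ p).comp q (MvPolynomial.X i))) = coords q x ∧
        y (Ideal.Quotient.mk p u) = x.evTop u := fun y => by
    obtain ⟨x, hx⟩ := exists_evTop_eq (X := X) (y.comp (Ideal.Quotient.mkₐ ℂ p))
    exact ⟨x, funext fun i => (hx _).symm, (hx u).symm⟩
  obtain ⟨c, hc⟩ := eq_const_of_continuous_roots ((Ideal.Quotient.mkₐ ℂ p).comp q)
    ((Ideal.Quotient.mkₐ_surjective ℂ p).comp hq) (Ideal.Quotient.mk p u)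
    (fun y => by
      obtain ⟨x, -, hx⟩ := hy y
      rw [hx, ← hexp]
      exact Complex.exp_ne_zero _)
    (fun N hN => by
      refine ⟨Function.extend (coords q) (fun x => Complex.exp (v x / N)) 0, ?_, fun y => ?_⟩
      · refine ContinuousOn.mono ?_ (s := Set.range (coords q)) ?_
        · rw [continuousOn_iff_continuous_domRestrict]
          refine (Complex.continuous_exp.comp ((hv.comp he.isEmbedding.toHomeomorph.symm.continuous).div_const (N : ℂ))).congr ?_
          rintro ⟨_, x, rfl⟩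
          show Complex.exp (v (he.isEmbedding.toHomeomorph.symm ⟨coords q x, _⟩) / N) =
            Function.extend (coords q) (fun x => Complex.exp (v x / N)) 0 (coords q x)
          rw [he.injective.extend_apply]
          congr
          exact he.isEmbedding.toHomeomorph.symm_apply_apply x
        · rintro _ ⟨y, rfl⟩
          obtain ⟨x, hx, -⟩ := hy y
          exact ⟨x, hx.symm⟩
      · obtain ⟨x, hx, hxu⟩ := hy y
        rw [hx, he.injective.extend_apply, hxu, ← hexp, ← Complex.exp_nat_mul]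
        congr 1
        rw [mul_div_cancel₀ _ (Nat.cast_ne_zero.mpr hN.ne')])
  intro x hx y hy'
  exact (hc (Ideal.Quotient.liftₐ p (evAlg x) (hmem x hx))).trans
    (hc (Ideal.Quotient.liftₐ p (evAlg y) (hmem y hy'))).symm

/-- A regular function with a continuous logarithm on the complex points of a connected scheme is
constant. -/
theorem evTop_eq_of_log [PreconnectedSpace X] (u : Γ(X, ⊤)) {v : Pts X → ℂ} (hv : Continuous v)
    (hexp : ∀ x, Complex.exp (v x) = x.evTop u) (x y : Pts X) : x.evTop u = y.evTop u := by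
  haveI : IsLocallyNoetherian X := LocallyOfFiniteType.isLocallyNoetherian (X ↘ SC)
  have hirr : ∀ Z : Set X, IsClosed Z → IsIrreducible Z →
      ∀ a ∈ (Pts.pt ⁻¹' Z : Set (Pts X)), ∀ b ∈ (Pts.pt ⁻¹' Z : Set (Pts X)), a.evTop u = b.evTop u := by
    intro Z hZ hZi a ha b hb
    have key : ∀ W : X.Opens, IsAffineOpen W → ((W : Set X) ∩ Z).Nonempty →
        ∀ a : Pts X, a.pt ∈ (W : Set X) ∩ Z → ∀ b : Pts X, b.pt ∈ (W : Set X) ∩ Z → a.evTop u = b.evTop u := by
      intro W hW hWZ a ha b hb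
      letI : (W : Scheme).Over SC := ⟨(Scheme.Opens.ι W) ≫ X ↘ SC⟩
      haveI : (Scheme.Opens.ι W).IsOver SC := ⟨rfl⟩
      haveI : IsAffine (W : Scheme) := hW
      haveI : LocallyOfFiniteType ((W : Scheme) ↘ SC) :=
        inferInstanceAs (LocallyOfFiniteType ((Scheme.Opens.ι W) ≫ X ↘ SC))
      have hirr : IsIrreducible ((Scheme.Opens.ι W) ⁻¹' Z) := by
        refine ⟨?_, hZi.2.preimage (Scheme.Opens.ι W).isOpenEmbedding⟩
        obtain ⟨z, hzW, hzZ⟩ := hWZ
        exact ⟨⟨z, hzW⟩, hzZ⟩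
      obtain ⟨a', rfl⟩ : a ∈ Set.range (Pts.map (Scheme.Opens.ι W)) := by
        rw [range_map]; exact ⟨⟨_, ha.1⟩, rfl⟩
      obtain ⟨b', rfl⟩ : b ∈ Set.range (Pts.map (Scheme.Opens.ι W)) := by
        rw [range_map]; exact ⟨⟨_, hb.1⟩, rfl⟩
      rw [evTop_map, evTop_map]
      refine evTop_eq_of_log_of_isAffine (hZ.preimage (Scheme.Opens.ι W).continuous) hirr _
        (hv.comp (Pts.continuous_map (Scheme.Opens.ι W))) (fun z => (hexp _).trans (evTop_map _ _ _)) a' ?_ b' ?_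
      · have h := ha.2; rw [Pts.pt_map] at h; exact h
      · have h := hb.2; rw [Pts.pt_map] at h; exact h
    obtain ⟨_, ⟨Wa, hWa, rfl⟩, haW, -⟩ :=
      X.isBasis_affineOpens.exists_subset_of_mem_open (Set.mem_univ a.pt) isOpen_univ
    obtain ⟨_, ⟨Wb, hWb, rfl⟩, hbW, -⟩ :=
      X.isBasis_affineOpens.exists_subset_of_mem_open (Set.mem_univ b.pt) isOpen_univ
    obtain ⟨z, hzZ, hzW, hzW'⟩ := hZi.2 (Wa : Set X) Wb Wa.2 Wb.2 ⟨a.pt, ha, haW⟩ ⟨b.pt, hb, hbW⟩
    obtain ⟨m, hmW, hmW', hmZ⟩ := preimage_pt_nonempty (X := X) (Z := (Wa : Set X) ∩ ((Wb : Set X) ∩ Z))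
      ⟨z, hzW, hzW', hzZ⟩ (Wa.2.isLocallyClosed.inter (Wb.2.isLocallyClosed.inter hZ.isLocallyClosed))
    exact (key Wa hWa ⟨_, haW, ha⟩ a ⟨haW, ha⟩ m ⟨hmW, hmZ⟩).trans
      (key Wb hWb ⟨_, hbW, hb⟩ b ⟨hbW, hb⟩ m ⟨hmW', hmZ⟩).symm
  have hX : ∀ x : X, ∃ U ∈ nhds x, NoetherianSpace U := fun z => by
    obtain ⟨_, ⟨W, hW, rfl⟩, hzW, -⟩ :=
      X.isBasis_affineOpens.exists_subset_of_mem_open (Set.mem_univ z) isOpen_univ
    haveI : IsAffine (W : Scheme) := hW
    haveI : IsLocallyNoetherian (W : Scheme) := isLocallyNoetherian_of_isOpenImmersion (Scheme.Opens.ι W)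
    haveI : IsNoetherian (W : Scheme) := { }
    exact ⟨W, W.2.mem_nhds hzW, inferInstanceAs (NoetherianSpace (W : Scheme))⟩
  have hlc : IsLocallyConstant fun x : Pts X => x.evTop u := by
    refine (IsLocallyConstant.iff_exists_open _).mpr fun a => ?_
    refine ⟨Pts.pt ⁻¹' (⋃₀ {Z ∈ irreducibleComponents X | a.pt ∉ Z})ᶜ,
      (IrredComp.isOpen_compl_sUnion_not_mem hX a.pt).preimage Pts.continuous_pt,
      fun ⟨Z, hZ, haZ⟩ => hZ.2 haZ, fun b hb => ?_⟩
    by_cases hab : a.pt ∈ irreducibleComponent b.pt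
    · exact hirr _ isClosed_irreducibleComponent isIrreducible_irreducibleComponent b
        (mem_irreducibleComponent (x := b.pt)) a hab
    · exact absurd ⟨_, ⟨irreducibleComponent_mem_irreducibleComponents b.pt, hab⟩,
        mem_irreducibleComponent (x := b.pt)⟩ hb
  haveI : ConnectedSpace X := { toPreconnectedSpace := inferInstance, toNonempty := ⟨x.pt⟩ }
  haveI := (connectedSpace_iff (X := X)).mp inferInstance
  exact hlc.apply_eq_of_isPreconnected isPreconnected_univ (Set.mem_univ x) (Set.mem_univ y)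

end Groth.Agent.AnPts
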