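import Groth.Prelude.Def_AnCl
import Mathlib.CategoryTheory.Sites.DenseSubsite.SheafEquiv

/-!
# The opens of a space form a dense subsite of the site of local homeomorphisms
-/

set_option autoImplicit false
set_option backward.isDefEq.respectTransparency.types false

universe u

open CategoryTheory TopologicalSpace Topology Opposite An

namespace Groth.Agent.AnPts

variable (T : Type u) [TopologicalSpace T]

instance : (opensToCl T).Faithful where map_injective := fun _ => Subsingleton.elim _ _

instance : (opensToCl T).Full where
  map_surjective {U V} g := by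
    have hle : U ≤ V := fun x hx => by
      have := g.over ⟨x, hx⟩
      exact (show (g.toFun ⟨x, hx⟩).1 = x from this) ▸ (g.toFun ⟨x, hx⟩).2
    exact ⟨homOfLE hle, Cl.hom_ext (funext fun a => Subtype.ext (g.over a).symm)⟩

instance : (opensToCl T).IsCoverDense (Cl.topology T) where
  is_cover A a := by
    obtain ⟨e, ha, he⟩ := A.lh a
    let U : Opens T := ⟨e.target, e.open_target⟩
    let g : (opensToCl T).obj U ⟶ A :=
      ⟨fun t => e.symm t.1, e.continuousOn_symm.comp_continuous continuous_subtype_val fun t => t.2,
        fun t => show A.p (e.symm t.1) = t.1 by rw [he]; exact e.right_inv t.2⟩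
    refine ⟨_, g, Presieve.in_coverByImage _ g, ?_, ⟨⟨e a, e.map_source ha⟩, e.left_inv ha⟩⟩
    exact e.symm.isOpenEmbedding_restrict

theorem functorPushforward_mem_iff {U : Opens T} {S : Sieve U} :
    S.functorPushforward (opensToCl T) ∈ Cl.topology T _ ↔ S ∈ Opens.grothendieckTopology T _ := by
  constructor
  · intro h x hx
    obtain ⟨B, g, ⟨V, k, l, hk, rfl⟩, -, b, hb⟩ := h ⟨x, hx⟩
    refine ⟨V, k, hk, ?_⟩
    have := congrArg Subtype.val hb
    exact (show (l.toFun b).1 = x from this) ▸ (l.toFun b).2
  · intro h a
    obtain ⟨V, k, hk, hx⟩ := h a.1 a.2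
    exact ⟨_, _, Sieve.image_mem_functorPushforward (opensToCl T) (R := S) hk,
      IsOpenEmbedding.inclusion k.le (V.2.preimage continuous_subtype_val), ⟨a.1, hx⟩, rfl⟩

instance isDenseSubsite_opensToCl :
    (opensToCl T).IsDenseSubsite (Opens.grothendieckTopology T) (Cl.topology T) where
  functorPushforward_mem_iff := functorPushforward_mem_iff T

theorem opCont : OpCont T := inferInstance

end Groth.Agent.AnPts
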