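import Groth.Agent.AnPts.Basic
import Groth.Agent.AnPts.Etale
import Mathlib.AlgebraicGeometry.ValuativeCriterion
import Mathlib.Order.Filter.FilterProduct
import Mathlib.RingTheory.Valuation.ValuationSubring

/-!
# Universally closed morphisms are proper maps on complex points

An ultrafilter on `X(ℂ)` is a point of `X` with values in the field of germs, whose bounded germs
form a valuation ring with the standard part as residue map; so the valuative criterion gives the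
limit of the ultrafilter.
-/

set_option autoImplicit false
set_option backward.isDefEq.respectTransparency.types false

open CategoryTheory AlgebraicGeometry Topology TopologicalSpace An Filter

namespace Groth.Agent.AnPts

section SpecHom

variable {X Y : Scheme.{0}} {R S : Type} [CommRing R] [CommRing S]

/-- Evaluation of sections at a morphism from an affine scheme. -/
noncomputable def rev (p : Spec (.of R) ⟶ X) (U : X.Opens) (h : ⊤ ≤ p ⁻¹ᵁ U) : Γ(X, U) →+* R :=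
  (p.appLE U ⊤ h ≫ (Scheme.ΓSpecIso (CommRingCat.of R)).hom).hom

lemma rev_res (p : Spec (.of R) ⟶ X) {U V : X.Opens} (e : V ≤ U) (h : ⊤ ≤ p ⁻¹ᵁ V) (g : Γ(X, U)) :
    rev p V h (X.presheaf.map (homOfLE e).op g) = rev p U (h.trans (p.preimage_mono e)) g := by
  unfold rev
  rw [← Scheme.Hom.map_appLE p h (homOfLE e).op]
  rfl

/-- The morphism from an affine scheme into an affine open with prescribed values. -/
noncomputable def specHom {U : X.Opens} (hU : IsAffineOpen U) (φ : Γ(X, U) →+* R) : Spec (.of R) ⟶ X :=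
  Spec.map (CommRingCat.ofHom φ) ≫ hU.fromSpec

lemma top_le_specHom {U : X.Opens} (hU : IsAffineOpen U) (φ : Γ(X, U) →+* R) : ⊤ ≤ specHom hU φ ⁻¹ᵁ U := by
  rw [specHom, Scheme.Hom.comp_preimage, hU.fromSpec_preimage_self]
  exact le_of_eq rfl

lemma specHom_rev {U : X.Opens} (hU : IsAffineOpen U) (p : Spec (.of R) ⟶ X) (h : ⊤ ≤ p ⁻¹ᵁ U) :
    specHom hU (rev p U h) = p := by
  have := hU.SpecMap_appLE_fromSpec p (isAffineOpen_top (Spec (.of R))) h
  rw [IsAffineOpen.fromSpec_top, Scheme.isoSpec_Spec_inv] at this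
  rw [specHom, rev, CommRingCat.ofHom_hom, Spec.map_comp, Category.assoc, this, ← Spec.map_comp_assoc,
    Iso.inv_hom_id, Spec.map_id, Category.id_comp]

lemma specHom_injective {U : X.Opens} (hU : IsAffineOpen U) :
    Function.Injective (specHom (R := R) hU) := fun φ ψ h => by
  unfold specHom at h
  rw [cancel_mono, Spec.map_inj] at h
  exact congrArg CommRingCat.Hom.hom h

lemma rev_specHom {U : X.Opens} (hU : IsAffineOpen U) (φ : Γ(X, U) →+* R) (h : ⊤ ≤ specHom hU φ ⁻¹ᵁ U) :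
    rev (specHom hU φ) U h = φ :=
  specHom_injective hU (specHom_rev hU _ h)

lemma specHom_comp {U : X.Opens} (hU : IsAffineOpen U) (φ : Γ(X, U) →+* R) {V : Y.Opens} (hV : IsAffineOpen V)
    (f : X ⟶ Y) (e : U ≤ f ⁻¹ᵁ V) :
    specHom hU φ ≫ f = specHom hV (φ.comp (f.appLE V U e).hom) := by
  unfold specHom
  rw [CommRingCat.ofHom_comp, CommRingCat.ofHom_hom, Spec.map_comp, Category.assoc, Category.assoc,
    hV.SpecMap_appLE_fromSpec f hU e]

lemma specMap_specHom {U : X.Opens} (hU : IsAffineOpen U) (φ : Γ(X, U) →+* R) (σ : R →+* S) :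
    Spec.map (CommRingCat.ofHom σ) ≫ specHom hU φ = specHom hU (σ.comp φ) := by
  unfold specHom
  rw [CommRingCat.ofHom_comp, Spec.map_comp, Category.assoc]

/-- Sections on a basic open as fractions. -/
lemma exists_frac {U : X.Opens} (hU : IsAffineOpen U) (h : Γ(X, U)) {W : X.Opens} (e : X.basicOpen h ≤ W)
    (g : Γ(X, W)) : ∃ (k : ℕ) (a : Γ(X, U)),
      X.presheaf.map (homOfLE e).op g * (X.presheaf.map (homOfLE (X.basicOpen_le h)).op h) ^ k =
        X.presheaf.map (homOfLE (X.basicOpen_le h)).op a := by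
  haveI := hU.isLocalization_basicOpen h
  obtain ⟨⟨a, ⟨_, k, rfl⟩⟩, ha⟩ := IsLocalization.surj (Submonoid.powers h) (X.presheaf.map (homOfLE e).op g)
  refine ⟨k, a, ?_⟩
  rw [← map_pow]
  exact ha

end SpecHom

section Ultra

variable {α : Type} (𝒰 : Ultrafilter α)

/-- The bounded germs. -/
noncomputable def boundedGerms : ValuationSubring (Germ (𝒰 : Filter α) ℂ) where
  carrier := {z | ∃ M : ℝ, z.LiftPred fun c => ‖c‖ ≤ M}
  one_mem' := ⟨1, Germ.liftPred_coe.mpr (Eventually.of_forall fun _ => by simp)⟩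
  mul_mem' := by
    rintro z w
    induction z, w using Germ.inductionOn₂ with | h f g => ?_
    rintro ⟨M, hM⟩ ⟨N, hN⟩
    refine ⟨|M| * |N|, Germ.liftPred_coe.mpr ?_⟩
    filter_upwards [Germ.liftPred_coe.mp hM, Germ.liftPred_coe.mp hN] with a ha hb
    simp only [Pi.mul_apply, norm_mul]
    exact mul_le_mul (ha.trans (le_abs_self M)) (hb.trans (le_abs_self N)) (norm_nonneg _) (abs_nonneg _)
  zero_mem' := ⟨0, Germ.liftPred_coe.mpr (Eventually.of_forall fun _ => by simp)⟩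
  add_mem' := by
    rintro z w
    induction z, w using Germ.inductionOn₂ with | h f g => ?_
    rintro ⟨M, hM⟩ ⟨N, hN⟩
    refine ⟨M + N, Germ.liftPred_coe.mpr ?_⟩
    filter_upwards [Germ.liftPred_coe.mp hM, Germ.liftPred_coe.mp hN] with a ha hb
    exact (norm_add_le _ _).trans (add_le_add ha hb)
  neg_mem' := by
    rintro z
    induction z using Germ.inductionOn with | h f => ?_
    rintro ⟨M, hM⟩
    refine ⟨M, Germ.liftPred_coe.mpr ?_⟩
    filter_upwards [Germ.liftPred_coe.mp hM] with a ha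
    simpa using ha
  mem_or_inv_mem' z := by
    induction z using Germ.inductionOn with | h f => ?_
    rcases 𝒰.em fun a => ‖f a‖ ≤ 1 with h | h
    · exact Or.inl ⟨1, Germ.liftPred_coe.mpr h⟩
    · refine Or.inr ⟨1, ?_⟩
      rw [← Germ.coe_inv]
      refine Germ.liftPred_coe.mpr ?_
      filter_upwards [h] with a ha
      rw [Pi.inv_apply, norm_inv]
      exact inv_le_one_of_one_le₀ (le_of_not_ge ha)

lemma mem_boundedGerms {f : α → ℂ} {c : ℂ} (h : Tendsto f 𝒰 (𝓝 c)) :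
    (f : Germ (𝒰 : Filter α) ℂ) ∈ boundedGerms 𝒰 := by
  refine ⟨‖c‖ + 1, Germ.liftPred_coe.mpr ?_⟩
  filter_upwards [h.norm (Iio_mem_nhds (show ‖c‖ < ‖c‖ + 1 by linarith))] with a ha
  exact le_of_lt ha

lemma exists_standardPart : ∃ st : boundedGerms 𝒰 →+* ℂ, ∀ (z : boundedGerms 𝒰) (f : α → ℂ),
    (z : Germ (𝒰 : Filter α) ℂ) = f → Tendsto f 𝒰 (𝓝 (st z)) := by
  have hex : ∀ z : boundedGerms 𝒰, ∃ c : ℂ, ∀ f : α → ℂ,
      (z : Germ (𝒰 : Filter α) ℂ) = f → Tendsto f 𝒰 (𝓝 c) := by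
    rintro ⟨z, hz⟩
    induction z using Germ.inductionOn with | h g => ?_
    obtain ⟨M, hM⟩ := hz
    have hM' : ∀ᶠ a in (𝒰 : Filter α), ‖g a‖ ≤ M := Germ.liftPred_coe.mp hM
    obtain ⟨c, -, hc⟩ := (isCompact_closedBall (0 : ℂ) M).ultrafilter_le_nhds (𝒰.map g) (le_principal_iff.mpr (by
      exact mem_map.mpr (hM'.mono fun a ha => mem_closedBall_zero_iff.mpr ha)))
    exact ⟨c, fun f hf => Tendsto.congr' (Germ.coe_eq.mp hf) hc⟩
  choose st hst using hex
  have huniq : ∀ (z : boundedGerms 𝒰) (f : α → ℂ) (c : ℂ),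
      (z : Germ (𝒰 : Filter α) ℂ) = f → Tendsto f 𝒰 (𝓝 c) → st z = c :=
    fun z f c hz hf => tendsto_nhds_unique (hst z f hz) hf
  have hrep : ∀ z : boundedGerms 𝒰, ∃ f : α → ℂ, (z : Germ (𝒰 : Filter α) ℂ) = f := fun z => by
    induction (z : Germ (𝒰 : Filter α) ℂ) using Germ.inductionOn with | h f => exact ⟨f, rfl⟩
  refine ⟨{ toFun := st, map_one' := ?_, map_mul' := ?_, map_zero' := ?_, map_add' := ?_ }, hst⟩
  · exact huniq 1 1 1 rfl tendsto_const_nhds
  · intro z w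
    obtain ⟨f, hf⟩ := hrep z
    obtain ⟨g, hg⟩ := hrep w
    refine huniq _ (f * g) _ ?_ ((hst z f hf).mul (hst w g hg))
    push_cast; rw [hf, hg]
  · exact huniq 0 0 0 rfl tendsto_const_nhds
  · intro z w
    obtain ⟨f, hf⟩ := hrep z
    obtain ⟨g, hg⟩ := hrep w
    refine huniq _ (f + g) _ ?_ ((hst z f hf).add (hst w g hg))
    push_cast; rw [hf, hg]

end Ultra

variable {X Y : Scheme.{0}} [X.Over SC] [Y.Over SC]

lemma ev_eq_rev (x : Pts X) (U : X.Opens) (h : x.pt ∈ U) (g : Γ(X, U)) :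
    x.ev U h g = rev x.1 U (x.top_le_preimage h) g := rfl

lemma ev_appLE (f : X ⟶ Y) [f.IsOver SC] {U : X.Opens} {V : Y.Opens} (e : U ≤ f ⁻¹ᵁ V) (x : Pts X)
    (h : x.pt ∈ U) (b : Γ(Y, V)) :
    x.ev U h (f.appLE V U e b) = (Pts.map f x).ev V (by rw [Pts.pt_map]; exact e h) b := by
  rw [Pts.ev_map f x V (by rw [Pts.pt_map]; exact e h) b]
  exact ev_res x e h (f.app V b)

lemma tendsto_ev (y : Pts Y) {V : Y.Opens} (hy : y.pt ∈ V) (b : Γ(Y, V)) {α : Type} {l : Filter α}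
    {g : α → Pts Y} (hg : Tendsto g l (𝓝 y)) (hV : ∀ a, (g a).pt ∈ V) :
    Tendsto (fun a => (g a).ev V (hV a) b) l (𝓝 (y.ev V hy b)) := by
  refine tendsto_nhds.mpr fun O hO hbO => ?_
  filter_upwards [hg ((Pts.isOpen_basicSet V b hO).mem_nhds ⟨hy, hbO⟩)] with a ha
  exact ha.2

/-- Universally closed morphisms induce proper maps on complex points. -/
theorem isProperMap_map (f : X ⟶ Y) [f.IsOver SC] [UniversallyClosed f] : IsProperMap (Pts.map f) := by
  refine isProperMap_iff_ultrafilter.mpr ⟨Pts.continuous_map f, fun 𝒰 y hy => ?_⟩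
  obtain ⟨hEx, hqc⟩ : ValuativeCriterion.Existence f ∧ QuasiCompact f := by
    have := ‹UniversallyClosed f›
    rw [UniversallyClosed.eq_valuativeCriterion] at this
    exact this
  obtain ⟨_, ⟨V, hV, rfl⟩, hyV, -⟩ :=
    Y.isBasis_affineOpens.exists_subset_of_mem_open (Set.mem_univ y.pt) isOpen_univ
  have hpre : IsCompact (f ⁻¹' (V : Set Y)) := QuasiCompact.isCompact_preimage _ V.2 hV.isCompact
  have hcov : ∀ z ∈ f ⁻¹' (V : Set Y), ∃ U : X.Opens, IsAffineOpen U ∧ z ∈ U ∧ U ≤ f ⁻¹ᵁ V := fun z hz => by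
    obtain ⟨_, ⟨U, hU, rfl⟩, hzU, hUV⟩ :=
      X.isBasis_affineOpens.exists_subset_of_mem_open (show z ∈ (f ⁻¹ᵁ V : Set X) from hz) (f ⁻¹ᵁ V).2
    exact ⟨U, hU, hzU, hUV⟩
  choose! Uz hUz hmem hUle using hcov
  obtain ⟨t, htV, htfin, htcov⟩ := hpre.elim_finite_subcover_image (b := f ⁻¹' (V : Set Y))
    (c := fun z => (Uz z : Set X)) (fun z _ => (Uz z).2) fun z hz => Set.mem_biUnion hz (hmem z hz)
  have hev : (⋃ z ∈ t, (Pts.pt ⁻¹' (Uz z : Set X) : Set (Pts X))) ∈ 𝒰 := by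
    refine mem_of_superset (hy ((Pts.isOpen_preimage_pt V).mem_nhds hyV)) fun x hx => ?_
    have h1 : x.pt ∈ f ⁻¹' (V : Set Y) := by
      show f x.pt ∈ V
      rw [← Pts.pt_map]; exact hx
    simpa using htcov h1
  obtain ⟨z₀, hz₀t, hz₀⟩ := (Ultrafilter.finite_biUnion_mem_iff htfin).mp hev
  set U := Uz z₀ with hUdef
  have hU : IsAffineOpen U := hUz z₀ (htV hz₀t)
  have hUV : U ≤ f ⁻¹ᵁ V := hUle z₀ (htV hz₀t)
  let α := {x : Pts X // x.pt ∈ U}
  have hrange : Set.range (Subtype.val : α → Pts X) ∈ 𝒰 := by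
    rw [Subtype.range_coe_subtype]; exact hz₀
  let 𝒱 : Ultrafilter α := 𝒰.comap Subtype.val_injective hrange
  have h𝒱 : Tendsto (Subtype.val : α → Pts X) 𝒱 𝒰 := tendsto_comap
  let φ : Γ(X, U) →+* Germ (𝒱 : Filter α) ℂ :=
    (Germ.coeRingHom (𝒱 : Filter α)).comp (Pi.ringHom fun a : α => evHom a.1 U a.2)
  have hψmem : ∀ b : Γ(Y, V), φ ((f.appLE V U hUV).hom b) ∈ boundedGerms 𝒱 ∧
      Tendsto (fun a : α => a.1.ev U a.2 (f.appLE V U hUV b)) 𝒱 (𝓝 (y.ev V hyV b)) := fun b => by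
    have ht : Tendsto (fun a : α => a.1.ev U a.2 (f.appLE V U hUV b)) 𝒱 (𝓝 (y.ev V hyV b)) := by
      simp only [ev_appLE f hUV]
      exact tendsto_ev y hyV b (Tendsto.comp hy h𝒱) _
    exact ⟨mem_boundedGerms 𝒱 ht, ht⟩
  let ψ : Γ(Y, V) →+* boundedGerms 𝒱 :=
    (φ.comp (f.appLE V U hUV).hom).codRestrict (boundedGerms 𝒱).toSubring fun b => (hψmem b).1
  let incl : boundedGerms 𝒱 →+* Germ (𝒱 : Filter α) ℂ := algebraMap _ _
  have hsq : CommSq (specHom hU φ) (Spec.map (CommRingCat.ofHom incl)) f (specHom hV ψ) := ⟨by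
    rw [specHom_comp hU φ hV f hUV, specMap_specHom]
    rfl⟩
  obtain ⟨⟨L, hL₁, hL₂⟩⟩ := (hEx (@ValuativeCommSq.mk _ _ f (boundedGerms 𝒱) _ _ _ (Germ (𝒱 : Filter α) ℂ) _ _ _
    (specHom hU φ) (specHom hV ψ) hsq)).exists_lift
  obtain ⟨_, ⟨U', hU', rfl⟩, hcl, -⟩ := X.isBasis_affineOpens.exists_subset_of_mem_open
    (Set.mem_univ (L (IsLocalRing.closedPoint (boundedGerms 𝒱)))) isOpen_univ
  have hLU : ⊤ ≤ L ⁻¹ᵁ U' := fun p _ =>
    ((IsLocalRing.specializes_closedPoint p).map L.continuous).mem_open U'.2 hcl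
  let χ : Γ(X, U') →+* boundedGerms 𝒱 := rev L U' hLU
  have hL : L = specHom hU' χ := (specHom_rev hU' L hLU).symm
  obtain ⟨st, hst⟩ := exists_standardPart 𝒱
  have hLf : Spec.map (CommRingCat.ofHom st) ≫ L ≫ f = y.1 := by
    rw [show L ≫ f = specHom hV ψ from hL₂, specMap_specHom, ← specHom_rev hV y.1 (y.top_le_preimage hyV)]
    congr 1
    refine RingHom.ext fun b => tendsto_nhds_unique (hst (ψ b) _ rfl) ?_
    exact (hψmem b).2
  let xm : SC ⟶ X := Spec.map (CommRingCat.ofHom st) ≫ L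
  have hxsec : xm ≫ (X ↘ SC) = 𝟙 SC := by
    rw [← comp_over f (S := SC), ← Category.assoc, show xm ≫ f = y.1 from (Category.assoc _ _ _).trans hLf]
    exact y.2
  let x : Pts X := ⟨xm, hxsec⟩
  have hxU : x.pt ∈ U' := by
    show L ((Spec.map (CommRingCat.ofHom st)) cpt) ∈ U'
    exact hLU trivial
  have hxev : ∀ g : Γ(X, U'), x.ev U' hxU g = st (χ g) := fun g => by
    have h1 : rev xm U' (x.top_le_preimage hxU) = st.comp χ := by
      refine specHom_injective hU' ?_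
      rw [specHom_rev, ← specMap_specHom, ← hL]
    exact congrArg (fun F => F g) h1
  refine ⟨x, Subtype.ext ((Category.assoc _ _ _).trans hLf), ?_⟩
  -- the generic point lies in `U ∩ U'`
  have hgen : specHom hU φ = specHom hU' (incl.comp χ) := by
    rw [← specMap_specHom hU' χ incl, ← hL]; exact hL₁.symm
  have hη : ∀ p : Spec (CommRingCat.of (Germ (𝒱 : Filter α) ℂ)), specHom hU φ p ∈ U' := fun p => by
    rw [hgen]; exact top_le_specHom hU' _ trivial
  let η := specHom hU φ (IsLocalRing.closedPoint (Germ (𝒱 : Filter α) ℂ))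
  have hηU : η ∈ U := top_le_specHom hU φ trivial
  obtain ⟨h, hhle, hηh⟩ := hU.exists_basicOpen_le (V := U') ⟨η, hη _⟩ hηU
  have hhtop : ⊤ ≤ specHom hU φ ⁻¹ᵁ X.basicOpen h := fun p _ => by
    show specHom hU φ p ∈ X.basicOpen h
    rw [show p = IsLocalRing.closedPoint (Germ (𝒱 : Filter α) ℂ) from Subsingleton.elim (α := PrimeSpectrum _) _ _]
    exact hηh
  have hh0 : φ h ≠ 0 := by
    haveI := hU.isLocalization_basicOpen h
    have hu : IsUnit (algebraMap Γ(X, U) Γ(X, X.basicOpen h) h) :=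
      IsLocalization.map_units _ (⟨h, 1, pow_one h⟩ : Submonoid.powers h)
    have h2 := (hu.map (rev (specHom hU φ) _ hhtop)).ne_zero
    rw [show (algebraMap Γ(X, U) Γ(X, X.basicOpen h) h) = X.presheaf.map (homOfLE (X.basicOpen_le h)).op h from rfl,
      rev_res, rev_specHom] at h2
    exact h2
  have hevh : ∀ᶠ a : α in (𝒱 : Filter α), a.1.pt ∈ X.basicOpen h := by
    rcases 𝒱.em fun a : α => a.1.ev U a.2 h = 0 with h0 | h0
    · exact absurd (Germ.coe_eq.mpr h0) hh0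
    · filter_upwards [h0] with a ha
      exact (mem_basicOpen_iff a.1 a.2 h).mpr ha
  classical
  let G : Γ(X, U') → α → ℂ := fun g a => if hmem' : a.1.pt ∈ U' then a.1.ev U' hmem' g else 0
  have hG : ∀ g, Tendsto (G g) 𝒱 (𝓝 (x.ev U' hxU g)) := fun g => by
    rw [hxev]
    refine hst (χ g) (G g) ?_
    obtain ⟨k, a, hka⟩ := exists_frac hU h hhle g
    have h1 := congrArg (rev (specHom hU φ) _ hhtop) hka
    rw [map_mul, map_pow, rev_res, rev_res, rev_res, rev_specHom] at h1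
    have h2 : rev (specHom hU φ) U' (hhtop.trans ((specHom hU φ).preimage_mono hhle)) g = incl (χ g) := by
      have h3 : rev (specHom hU φ) U' (hhtop.trans ((specHom hU φ).preimage_mono hhle)) = incl.comp χ :=
        specHom_injective hU' ((specHom_rev hU' _ _).trans hgen)
      exact congrArg (fun F => F g) h3
    rw [h2] at h1
    refine mul_right_cancel₀ (pow_ne_zero k hh0) (h1.trans ?_)
    show ((fun b : α => b.1.ev U b.2 a : α → ℂ) : Germ (𝒱 : Filter α) ℂ) =
      (G g : Germ (𝒱 : Filter α) ℂ) * ((fun b : α => b.1.ev U b.2 h : α → ℂ) : Germ (𝒱 : Filter α) ℂ) ^ k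
    rw [← Germ.coe_pow, ← Germ.coe_mul, Germ.coe_eq]
    filter_upwards [hevh] with b hb
    have h3 := congrArg (evHom b.1 _ hb) hka
    rw [map_mul, map_pow] at h3
    simp only [evHom_apply, ev_res] at h3
    simp only [Pi.mul_apply, Pi.pow_apply, G, dif_pos (hhle hb)]
    exact h3.symm
  -- convergence
  have hconv : Tendsto (Subtype.val : α → Pts X) 𝒱 (𝓝 x) := by
    refine tendsto_nhds_generateFrom_iff.mpr ?_
    rintro _ ⟨W, g, O, hO, rfl⟩ ⟨hxW, hxO⟩
    obtain ⟨h', h'le, hxh'⟩ := hU'.exists_basicOpen_le (V := W) ⟨x.pt, hxW⟩ hxU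
    have hxh0 : x.ev U' hxU h' ≠ 0 := (mem_basicOpen_iff x hxU h').mp hxh'
    obtain ⟨k, a, hka⟩ := exists_frac hU' h' h'le g
    have hx1 := congrArg (evHom x _ hxh') hka
    rw [map_mul, map_pow] at hx1
    simp only [evHom_apply, ev_res] at hx1
    have hlim : Tendsto (fun b => G a b / G h' b ^ k) 𝒱 (𝓝 (x.ev W hxW g)) := by
      have := (hG a).div ((hG h').pow k) (pow_ne_zero k hxh0)
      rwa [← hx1, mul_div_cancel_right₀ _ (pow_ne_zero k hxh0)] at this
    have hU'ev : ∀ᶠ b : α in (𝒱 : Filter α), b.1.pt ∈ U' := hevh.mono fun b hb => hhle hb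
    have hne : ∀ᶠ b : α in (𝒱 : Filter α), G h' b ≠ 0 := (hG h').eventually_ne hxh0
    show ∀ᶠ b : α in (𝒱 : Filter α), b.1 ∈ Pts.basicSet W g O
    filter_upwards [hU'ev, hne, hlim (hO.mem_nhds hxO)] with b hbU' hbh' hbO
    have hbD : b.1.pt ∈ X.basicOpen h' := (mem_basicOpen_iff b.1 hbU' h').mpr (by
      simpa [G, dif_pos hbU'] using hbh')
    refine ⟨h'le hbD, ?_⟩
    have hb1 := congrArg (evHom b.1 _ hbD) hka
    rw [map_mul, map_pow] at hb1
    simp only [evHom_apply, ev_res] at hb1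
    have hbh0 : b.1.ev U' hbU' h' ≠ 0 := (mem_basicOpen_iff b.1 hbU' h').mp hbD
    simp only [Set.mem_preimage, G, dif_pos hbU', ← hb1, mul_div_cancel_right₀ _ (pow_ne_zero k hbh0)] at hbO
    exact hbO
  have hmap : (𝒰 : Filter (Pts X)) = Filter.map Subtype.val (𝒱 : Filter α) :=
    (map_comap_of_mem hrange).symm
  rw [hmap]
  exact hconv

end Groth.Agent.AnPts
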