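import Groth.Agent.AnPts.Pullback
import Mathlib.AlgebraicGeometry.Morphisms.Separated
import Mathlib.AlgebraicGeometry.Morphisms.UniversallyInjective
import Mathlib.AlgebraicGeometry.AffineSpace
import Mathlib.Topology.SeparatedMap

/-!
# Separatedness, injectivity, discreteness, local compactness on complex points
-/

set_option autoImplicit false
set_option backward.isDefEq.respectTransparency.types false

open CategoryTheory CategoryTheory.Limits AlgebraicGeometry Topology TopologicalSpace An

namespace Groth.Agent.AnPts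

variable {X Y : Scheme.{0}} [X.Over SC] [Y.Over SC] [LocallyOfFiniteType (X ↘ SC)] [LocallyOfFiniteType (Y ↘ SC)]

instance (f : X ⟶ Y) [f.IsOver SC] : (pullback.diagonal f).IsOver SC := ⟨by
  show pullback.diagonal f ≫ pullback.fst f f ≫ X ↘ SC = X ↘ SC
  rw [← Category.assoc, pullback.diagonal_fst, Category.id_comp]⟩

omit [LocallyOfFiniteType (Y ↘ SC)] in
omit [Y.Over SC] in
lemma isLocallyConstructible_of_isLocallyClosed {T : Set X} (hT : IsLocallyClosed T) :
    IsLocallyConstructible (T : Set X) := by
  haveI : IsLocallyNoetherian X := LocallyOfFiniteType.isLocallyNoetherian (X ↘ SC)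
  obtain ⟨U, Z, hU, hZ, rfl⟩ := hT
  refine (compl_compl U ▸ isLocallyConstructible_compl ?_).inter (isLocallyConstructible_of_isClosed hZ)
  exact isLocallyConstructible_of_isClosed hU.isClosed_compl

lemma isClosed_range_diagonal_iff (f : X ⟶ Y) [f.IsOver SC] :
    IsClosed (Set.range (pullback.diagonal f)) ↔ IsSeparatedMap (Pts.map f) := by
  haveI : IsImmersion (pullback.diagonal f) := inferInstance
  rw [isClosed_iff (isLocallyConstructible_of_isLocallyClosed (X := pullback f f)
    (pullback.diagonal f).isLocallyClosed_range), ← range_map, isSeparatedMap_iff_isClosed_diagonal]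
  let h := fun z : Pts (pullback f f) => (⟨(Pts.map (pullback.fst f f) z, Pts.map (pullback.snd f f) z),
    Pts.map_pullback_condition f f z⟩ : Function.Pullback (Pts.map f) (Pts.map f))
  have hh : IsHomeomorph h := isHomeomorph_pullback f f
  have hd : h ⁻¹' Function.pullbackDiagonal (Pts.map f) = Set.range (Pts.map (pullback.diagonal f)) := by
    ext z
    constructor
    · intro hz
      have hz' : (z.1 ≫ pullback.fst f f) = z.1 ≫ pullback.snd f f := congrArg Subtype.val hz
      refine ⟨Pts.map (pullback.fst f f) z, Subtype.ext (pullback.hom_ext ?_ ?_)⟩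
      · simp [Category.assoc, pullback.diagonal_fst]
      · simp [Category.assoc, pullback.diagonal_snd, hz']
    · rintro ⟨x, rfl⟩
      refine Subtype.ext ?_
      show ((x.1 ≫ pullback.diagonal f) ≫ pullback.fst f f) = (x.1 ≫ pullback.diagonal f) ≫ pullback.snd f f
      simp [Category.assoc, pullback.diagonal_fst, pullback.diagonal_snd]
  rw [← hd]
  exact hh.homeomorph.isClosed_preimage

theorem isSeparated_iff_isSeparatedMap (f : X ⟶ Y) [f.IsOver SC] : IsSeparated f ↔ IsSeparatedMap (Pts.map f) := by
  rw [isSeparated_iff, ← isClosed_range_diagonal_iff]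
  exact ⟨fun h => (pullback.diagonal f).isClosedEmbedding.isClosed_range,
    fun h => IsClosedImmersion.of_isPreimmersion _ h⟩

theorem injective_of_map_injective (f : X ⟶ Y) [f.IsOver SC] (h : Function.Injective (Pts.map f)) :
    Function.Injective f := by
  haveI : UniversallyInjective f := by
    rw [UniversallyInjective.iff_diagonal]
    haveI : IsImmersion (pullback.diagonal f) := inferInstance
    refine ⟨fun z => subset_of_preimage_pt_subset' (X := pullback f f) .univ
      (isLocallyConstructible_of_isLocallyClosed (pullback.diagonal f).isLocallyClosed_range) (fun w _ => ?_)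
      (Set.mem_univ z)⟩
    rw [← range_map]
    refine ⟨Pts.map (pullback.fst f f) w, Subtype.ext (pullback.hom_ext ?_ ?_)⟩
    · simp [Category.assoc, pullback.diagonal_fst]
    · have e : w.1 ≫ pullback.fst f f = w.1 ≫ pullback.snd f f :=
        congrArg Subtype.val (h (Pts.map_pullback_condition f f w))
      simp [Category.assoc, pullback.diagonal_snd, e]
  exact f.injective

omit [Y.Over SC] [LocallyOfFiniteType (Y ↘ SC)] in
theorem discreteTopology_iff : DiscreteTopology X ↔ DiscreteTopology (Pts X) := by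
  refine ⟨fun _ => DiscreteTopology.of_continuous_injective Pts.continuous_pt pt_injective, fun _ => ?_⟩
  haveI : IsLocallyNoetherian X := LocallyOfFiniteType.isLocallyNoetherian (X ↘ SC)
  have hop : ∀ z : X, IsClosed {z} → IsOpen {z} := fun z hz =>
    (isOpen_iff (isLocallyConstructible_of_isClosed hz)).mpr (isOpen_discrete _)
  refine discreteTopology_iff_isOpen_singleton.mpr fun z => hop z ?_
  obtain ⟨x, hx⟩ := preimage_pt_nonempty (X := X) (Z := closure {z}) ⟨z, subset_closure rfl⟩
    isClosed_closure.isLocallyClosed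
  obtain ⟨w, hw, hwz⟩ := mem_closure_iff.mp hx _ (hop _ (isClosed_pt x)) rfl
  rw [Set.mem_singleton_iff] at hw hwz
  exact hwz ▸ hw ▸ isClosed_pt x

omit [Y.Over SC] [LocallyOfFiniteType (Y ↘ SC)] in
theorem locallyCompactSpace : LocallyCompactSpace (Pts X) := by
  refine ⟨fun x n hn => ?_⟩
  obtain ⟨_, ⟨W, hW, rfl⟩, hxW, -⟩ :=
    X.isBasis_affineOpens.exists_subset_of_mem_open (Set.mem_univ x.pt) isOpen_univ
  letI : (W : Scheme).Over SC := ⟨Scheme.Opens.ι W ≫ X ↘ SC⟩
  haveI : (Scheme.Opens.ι W).IsOver SC := ⟨rfl⟩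
  haveI : IsAffine (W : Scheme) := hW
  haveI : LocallyOfFiniteType ((W : Scheme) ↘ SC) := inferInstanceAs (LocallyOfFiniteType (Scheme.Opens.ι W ≫ X ↘ SC))
  haveI := finiteType_top (X := (W : Scheme))
  obtain ⟨m, q, hq⟩ := Algebra.FiniteType.iff_quotient_mvPolynomial''.mp
    ‹Algebra.FiniteType ℂ Γ((W : Scheme), ⊤)›
  haveI := (isClosedEmbedding_coords q hq).locallyCompactSpace
  have he := isOpenEmbedding_map (Scheme.Opens.ι W)
  obtain ⟨w, rfl⟩ : x ∈ Set.range (Pts.map (Scheme.Opens.ι W)) := by
    rw [range_map]; exact ⟨⟨_, hxW⟩, rfl⟩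
  obtain ⟨K, hK, hKn, hKc⟩ := local_compact_nhds ((Pts.continuous_map (Scheme.Opens.ι W)).continuousAt hn)
  refine ⟨Pts.map (Scheme.Opens.ι W) '' K, he.isOpenMap.image_mem_nhds hK, ?_, hKc.image (Pts.continuous_map _)⟩
  rintro _ ⟨v, hv, rfl⟩
  exact hKn hv

end Groth.Agent.AnPts
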