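import Groth.Agent.AnPts.Proper
import Groth.Agent.AnPts.Separated
import Groth.Agent.DVRDom.AffineTest
import Mathlib.AlgebraicGeometry.Morphisms.FinitePresentation
import Mathlib.AlgebraicGeometry.ZariskisMainTheorem

/-!
# Properness and finiteness read off from the complex points
-/

set_option autoImplicit false
set_option backward.isDefEq.respectTransparency.types false

open CategoryTheory CategoryTheory.Limits AlgebraicGeometry Topology TopologicalSpace An Filter

namespace Groth.Agent.AnPts

/-- Over a locally noetherian base locally of finite type is locally of finite presentation. -/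
theorem locallyOfFinitePresentation_of_isLocallyNoetherian {X Y : Scheme.{0}} (f : X ⟶ Y) [LocallyOfFiniteType f]
    [IsLocallyNoetherian Y] : LocallyOfFinitePresentation f := by
  rw [HasRingHomProperty.iff_appLE (P := @LocallyOfFinitePresentation)]
  intro U V e
  haveI := IsLocallyNoetherian.component_noetherian U
  have h : (f.appLE U.1 V.1 e).hom.FiniteType :=
    HasRingHomProperty.appLE (P := @LocallyOfFiniteType) f ‹_› U V e
  exact RingHom.FinitePresentation.of_finiteType.mp h

variable {X Y : Scheme.{0}} [X.Over SC] [Y.Over SC] [LocallyOfFiniteType (X ↘ SC)] [LocallyOfFiniteType (Y ↘ SC)]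

/-- A morphism which is a proper map on complex points is universally closed. -/
theorem universallyClosed_of_isProperMap (f : X ⟶ Y) [f.IsOver SC] [QuasiCompact f]
    (hp : IsProperMap (Pts.map f)) : UniversallyClosed f := by
  refine DVRDom.universallyClosed_of_forall_affineSpace f fun n T hT => ?_
  let g := 𝔸(ULift.{0} (Fin n); Y) ↘ Y
  letI : (𝔸(ULift.{0} (Fin n); Y)).Over SC := ⟨g ≫ Y ↘ SC⟩
  haveI : g.IsOver SC := ⟨rfl⟩
  haveI : LocallyOfFiniteType g := inferInstanceAs (LocallyOfFiniteType (𝔸(ULift.{0} (Fin n); Y) ↘ Y))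
  haveI : LocallyOfFiniteType (𝔸(ULift.{0} (Fin n); Y) ↘ SC) :=
    inferInstanceAs (LocallyOfFiniteType (g ≫ Y ↘ SC))
  haveI : IsLocallyNoetherian (𝔸(ULift.{0} (Fin n); Y)) :=
    LocallyOfFiniteType.isLocallyNoetherian (𝔸(ULift.{0} (Fin n); Y) ↘ SC)
  haveI : LocallyOfFiniteType ((pullback f g) ↘ SC) := inferInstance
  haveI : IsLocallyNoetherian (pullback f g) := LocallyOfFiniteType.isLocallyNoetherian ((pullback f g) ↘ SC)
  haveI : LocallyOfFiniteType (pullback.snd f g) := by
    haveI : LocallyOfFiniteType f := by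
      haveI : LocallyOfFiniteType (f ≫ Y ↘ SC) := by rw [comp_over f]; infer_instance
      exact locallyOfFiniteType_of_comp f (Y ↘ SC)
    infer_instance
  haveI := locallyOfFinitePresentation_of_isLocallyNoetherian (pullback.snd f g)
  -- the base change is a proper map on complex points
  have hp' : IsProperMap (Pts.map (pullback.snd f g)) := by
    refine isProperMap_iff_ultrafilter.mpr ⟨Pts.continuous_map _, fun 𝒰 a ha => ?_⟩
    have hcond : Pts.map f ∘ Pts.map (pullback.fst f g) = Pts.map g ∘ Pts.map (pullback.snd f g) :=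
      funext (Pts.map_pullback_condition f g)
    have h1 : Tendsto (Pts.map f) (𝒰.map (Pts.map (pullback.fst f g))) (𝓝 (Pts.map g a)) := by
      rw [Ultrafilter.coe_map, tendsto_map'_iff, hcond]
      exact ((Pts.continuous_map g).tendsto a).comp ha
    obtain ⟨x, hx, hlim⟩ := (isProperMap_iff_ultrafilter.mp hp).2 h1
    obtain ⟨z, hz⟩ := (isHomeomorph_pullback f g).bijective.2 ⟨(x, a), hx⟩
    have hz1 : pair (pullback.fst f g) (pullback.snd f g) z = (x, a) := congrArg Subtype.val hz
    refine ⟨z, congrArg Prod.snd hz1, ?_⟩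
    show Tendsto id (𝒰 : Filter (Pts (pullback f g))) (𝓝 z)
    rw [(isInducing_pair f g).tendsto_nhds_iff, hz1]
    exact Tendsto.prodMk_nhds hlim ha
  have hcons : IsLocallyConstructible ((pullback.snd f g) '' T) :=
    (pullback.snd f g).isLocallyConstructible_image (isLocallyConstructible_of_isClosed hT)
  refine (isClosed_iff hcons).mpr ?_
  convert hp'.isClosedMap _ (hT.preimage Pts.continuous_pt) using 1
  ext y
  constructor
  · rintro ⟨z, hzT, hz⟩
    obtain ⟨w, hwT, hw⟩ := preimage_pt_nonempty (X := pullback f g) (Z := T ∩ (pullback.snd f g) ⁻¹' {y.pt})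
      ⟨z, hzT, hz⟩ (hT.inter ((isClosed_pt y).preimage (pullback.snd f g).continuous)).isLocallyClosed
    exact ⟨w, hwT, pt_injective (X := 𝔸(ULift.{0} (Fin n); Y)) ((Pts.pt_map _ w).trans hw)⟩
  · rintro ⟨w, hwT, rfl⟩
    exact ⟨w.pt, hwT, (Pts.pt_map _ w).symm⟩

/-- Properness read off from the complex points. -/
theorem isProper_iff (f : X ⟶ Y) [f.IsOver SC] [QuasiCompact f] :
    IsProper f ↔ IsProperMap (Pts.map f) ∧ IsSeparatedMap (Pts.map f) := by
  constructor
  · intro h
    exact ⟨isProperMap_map f, (isSeparated_iff_isSeparatedMap f).mp inferInstance⟩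
  · rintro ⟨h1, h2⟩
    haveI : LocallyOfFiniteType f := by
      haveI : LocallyOfFiniteType (f ≫ Y ↘ SC) := by rw [comp_over f]; infer_instance
      exact locallyOfFiniteType_of_comp f (Y ↘ SC)
    haveI := universallyClosed_of_isProperMap f h1
    haveI := (isSeparated_iff_isSeparatedMap f).mpr h2
    exact { }

/-- Finiteness read off from the complex points. -/
theorem isFinite_iff (f : X ⟶ Y) [f.IsOver SC] [QuasiCompact f] :
    IsFinite f ↔ IsProperMap (Pts.map f) ∧ IsSeparatedMap (Pts.map f) ∧
      ∀ y : Pts Y, (Pts.map f ⁻¹' {y}).Finite := by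
  rw [IsFinite.iff_isProper_and_locallyQuasiFinite, isProper_iff, and_assoc]
  refine and_congr_right fun _ => and_congr_right fun _ => ⟨fun h y => ?_, fun h => ?_⟩
  · refine Set.Finite.of_finite_image ((f.finite_preimage_singleton y.pt).subset ?_)
      (pt_injective (X := X)).injOn
    rintro _ ⟨x, hx, rfl⟩
    show f x.pt = y.pt
    rw [← Pts.pt_map, show Pts.map f x = y from hx]
  · haveI : LocallyOfFiniteType f := by
      haveI : LocallyOfFiniteType (f ≫ Y ↘ SC) := by rw [comp_over f]; infer_instance
      exact locallyOfFiniteType_of_comp f (Y ↘ SC)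
    rw [← Scheme.Hom.quasiFiniteLocus_eq_top_iff]
    haveI := jacobsonSpace (X := X)
    have hclosed : closedPoints X ⊆ (f.quasiFiniteLocus : Set X) := fun z hz => by
      obtain ⟨x, rfl⟩ := exists_pts (X := X) hz
      set y := Pts.map f x with hy
      have hfin : (f ⁻¹' {y.pt}).Finite := by
        have hS : ((f ⁻¹' {y.pt}) ∩ closedPoints X).Finite := ((h y).image Pts.pt).subset (by
          rintro w ⟨hw, hwc⟩
          obtain ⟨x', rfl⟩ := exists_pts (X := X) hwc
          exact ⟨x', pt_injective (X := Y) ((Pts.pt_map f x').trans hw), rfl⟩)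
        refine hS.subset (Set.Subset.trans (closure_inter_closedPoints
          ((isClosed_pt y).preimage f.continuous)).ge ?_)
        refine (IsClosed.closure_subset_iff ?_).mpr subset_rfl
        rw [← Set.biUnion_of_singleton ((f ⁻¹' {y.pt}) ∩ closedPoints X)]
        exact hS.isClosed_biUnion fun w hw => hw.2
      rw [SetLike.mem_coe, Scheme.Hom.mem_quasiFiniteLocus]
      have hfx : f x.pt = y.pt := (Pts.pt_map f x).symm
      have : Finite (f.fiber (f x.pt)) := (f.fiberHomeo (f x.pt)).finite_iff.mpr (hfx ▸ hfin)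
      exact Scheme.Hom.quasiFiniteAt_iff_isOpen_singleton_asFiber.mpr (isOpen_discrete _)
    refine TopologicalSpace.Opens.ext ?_
    by_contra hne
    obtain ⟨w, hw, hwc⟩ := nonempty_inter_closedPoints (Z := (f.quasiFiniteLocus : Set X)ᶜ)
      (Set.nonempty_compl.mpr hne) f.quasiFiniteLocus.2.isClosed_compl.isLocallyClosed
    exact hw (hclosed hwc)

omit [Y.Over SC] [LocallyOfFiniteType (Y ↘ SC)] in
/-- Properness over `ℂ` read off from the complex points. -/
theorem isProper_iff_compactSpace [QuasiCompact (X ↘ SC)] :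
    IsProper (X ↘ SC) ↔ CompactSpace (Pts X) ∧ T2Space (Pts X) := by
  letI : SC.Over SC := ⟨𝟙 SC⟩
  haveI : LocallyOfFiniteType (SC ↘ SC) := inferInstanceAs (LocallyOfFiniteType (𝟙 SC))
  haveI : (X ↘ SC).IsOver SC := ⟨Category.comp_id _⟩
  haveI : Subsingleton (Pts SC) := ⟨fun a b => Subtype.ext (by
    have ha : a.1 ≫ 𝟙 SC = 𝟙 SC := a.2
    have hb : b.1 ≫ 𝟙 SC = 𝟙 SC := b.2
    rw [Category.comp_id] at ha hb
    rw [ha, hb])⟩
  rw [isProper_iff]
  refine and_congr ⟨fun h => ⟨?_⟩, fun _ => (Pts.continuous_map _).isProperMap⟩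
    ⟨fun h => ⟨fun x y hne => h x y (Subsingleton.elim _ _) hne⟩, fun _ => fun x y _ hne => t2_separation hne⟩
  simpa using h.isCompact_preimage isCompact_univ

end Groth.Agent.AnPts
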