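import Groth.Agent.AnPts.Closure
import Mathlib.AlgebraicGeometry.Morphisms.Affine

/-!
# Complex points of a fibre product
-/

set_option autoImplicit false
set_option backward.isDefEq.respectTransparency.types false

open CategoryTheory CategoryTheory.Limits AlgebraicGeometry Topology TopologicalSpace An

namespace Groth.Agent.AnPts

variable {X Y S : Scheme.{0}} [X.Over SC] [Y.Over SC] [S.Over SC]

/-- The pair of projections on complex points. -/
noncomputable def pair {P : Scheme.{0}} [P.Over SC] (p : P ⟶ X) (q : P ⟶ Y) [p.IsOver SC] [q.IsOver SC]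
    (z : Pts P) : Pts X × Pts Y := (Pts.map p z, Pts.map q z)

lemma continuous_pair {P : Scheme.{0}} [P.Over SC] (p : P ⟶ X) (q : P ⟶ Y) [p.IsOver SC] [q.IsOver SC] :
    Continuous (pair p q) := (Pts.continuous_map p).prodMk (Pts.continuous_map q)

omit [X.Over SC] [Y.Over SC] [S.Over SC] in
lemma evTop_map {A B : Scheme.{0}} [A.Over SC] [B.Over SC] (g : A ⟶ B) [g.IsOver SC] (x : Pts A) (c : Γ(B, ⊤)) :
    (Pts.map g x).evTop c = x.evTop (g.appTop c) := by
  rw [evTop_eq, evTop_eq, Pts.map_val, Scheme.Hom.comp_appTop]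
  rfl

/-- The affine case. -/
theorem isInducing_pair_of_isAffine [IsAffine X] [IsAffine Y] [IsAffine S] {P : Scheme.{0}} [P.Over SC]
    [LocallyOfFiniteType (P ↘ SC)] {f : X ⟶ S} {g : Y ⟶ S} (p : P ⟶ X) (q : P ⟶ Y)
    [p.IsOver SC] [q.IsOver SC] (h : IsPullback p q f g) : IsInducing (pair p q) := by
  haveI : IsAffine P := .of_isPullback h
  haveI := finiteType_top (X := P)
  obtain ⟨n, Q, hQ⟩ := Algebra.FiniteType.iff_quotient_mvPolynomial''.mp ‹Algebra.FiniteType ℂ Γ(P, ⊤)›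
  have hpo := isPushout_appTop_of_isPullback h
  let R : Subring Γ(P, ⊤) := Subring.closure (Set.range p.appTop ∪ Set.range q.appTop)
  have hR : ∀ c : Γ(P, ⊤), c ∈ R := by
    let a : Γ(X, ⊤) ⟶ CommRingCat.of R :=
      CommRingCat.ofHom (p.appTop.hom.codRestrict R fun c => Subring.subset_closure (Or.inl ⟨c, rfl⟩))
    let b : Γ(Y, ⊤) ⟶ CommRingCat.of R :=
      CommRingCat.ofHom (q.appTop.hom.codRestrict R fun c => Subring.subset_closure (Or.inr ⟨c, rfl⟩))
    have hw : f.appTop ≫ a = g.appTop ≫ b := CommRingCat.hom_ext (RingHom.ext fun c => Subtype.ext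
      (congrArg (fun m => m.hom c) hpo.w))
    have : hpo.desc a b hw ≫ CommRingCat.ofHom R.subtype = 𝟙 _ := by
      refine hpo.hom_ext ?_ ?_
      · rw [← Category.assoc, hpo.inl_desc, Category.comp_id]; rfl
      · rw [← Category.assoc, hpo.inr_desc, Category.comp_id]; rfl
    intro c
    have hc := congrArg (fun m => m.hom c) this
    exact (show ((hpo.desc a b hw).hom c : Γ(P, ⊤)) = c from hc) ▸ ((hpo.desc a b hw).hom c).2
  refine ⟨le_antisymm (continuous_pair p q).le_induced ?_⟩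
  rw [(isClosedEmbedding_coords Q hQ).isInducing.eq_induced]
  refine continuous_iff_le_induced.mp ?_
  letI : TopologicalSpace (Pts P) := TopologicalSpace.induced (pair p q) inferInstance
  have hpc : Continuous (pair p q) := continuous_induced_dom
  have key : ∀ c : Γ(P, ⊤), Continuous fun z : Pts P => z.evTop c := fun c => by
    induction hR c using Subring.closure_induction with
    | mem c hc =>
      rcases hc with ⟨a, rfl⟩ | ⟨a, rfl⟩
      · simp only [← evTop_map]
        exact (continuous_evTop a).comp (continuous_fst.comp hpc)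
      · simp only [← evTop_map]
        exact (continuous_evTop a).comp (continuous_snd.comp hpc)
    | zero => simp only [← evAlg_apply, map_zero]; exact continuous_const
    | one => simp only [← evAlg_apply, map_one]; exact continuous_const
    | add a b _ _ ha hb => simp only [← evAlg_apply, map_add] at *; exact ha.add hb
    | neg a _ ha => simp only [← evAlg_apply, map_neg] at *; exact ha.neg
    | mul a b _ _ ha hb => simp only [← evAlg_apply, map_mul] at *; exact ha.mul hb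
  exact continuous_pi fun i => key _

variable [LocallyOfFiniteType (X ↘ SC)] [LocallyOfFiniteType (Y ↘ SC)] [LocallyOfFiniteType (S ↘ SC)]
  (f : X ⟶ S) (g : Y ⟶ S) [f.IsOver SC] [g.IsOver SC]

omit [LocallyOfFiniteType (X ↘ SC)] [LocallyOfFiniteType (Y ↘ SC)] [LocallyOfFiniteType (S ↘ SC)] in
omit [S.Over SC] [f.IsOver SC] in
lemma locallyOfFiniteType_of_isOver {A B : Scheme.{0}} [A.Over SC] [B.Over SC] (k : A ⟶ B) [k.IsOver SC]
    [LocallyOfFiniteType (A ↘ SC)] : LocallyOfFiniteType k := by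
  haveI : LocallyOfFiniteType (k ≫ B ↘ SC) := by rw [comp_over k]; infer_instance
  exact locallyOfFiniteType_of_comp k (B ↘ SC)

instance : LocallyOfFiniteType ((pullback f g) ↘ SC) := by
  show LocallyOfFiniteType (pullback.fst f g ≫ X ↘ SC)
  haveI : LocallyOfFiniteType g := locallyOfFiniteType_of_isOver g
  infer_instance

/-- The topology of the complex points of a fibre product is induced from the product. -/
theorem isInducing_pair : IsInducing (pair (pullback.fst f g) (pullback.snd f g)) := by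
  refine isInducing_iff_nhds.mpr fun z => le_antisymm
    (continuous_pair _ _).continuousAt.le_comap ?_
  -- affine neighbourhoods
  obtain ⟨_, ⟨S₀, hS₀, rfl⟩, hzS, -⟩ := S.isBasis_affineOpens.exists_subset_of_mem_open
    (Set.mem_univ ((pullback.fst f g ≫ f) z.pt)) isOpen_univ
  obtain ⟨_, ⟨X₀, hX₀, rfl⟩, hzX, hXS⟩ := X.isBasis_affineOpens.exists_subset_of_mem_open
    (a := pullback.fst f g z.pt) (u := f ⁻¹' S₀) hzS (S₀.2.preimage f.continuous)
  obtain ⟨_, ⟨Y₀, hY₀, rfl⟩, hzY, hYS⟩ := Y.isBasis_affineOpens.exists_subset_of_mem_open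
    (a := pullback.snd f g z.pt) (u := g ⁻¹' S₀)
    (show g (pullback.snd f g z.pt) ∈ S₀ by rw [← Scheme.Hom.comp_apply, ← pullback.condition]; exact hzS)
    (S₀.2.preimage g.continuous)
  letI : (X₀ : Scheme).Over SC := ⟨Scheme.Opens.ι X₀ ≫ X ↘ SC⟩
  letI : (Y₀ : Scheme).Over SC := ⟨Scheme.Opens.ι Y₀ ≫ Y ↘ SC⟩
  letI : (S₀ : Scheme).Over SC := ⟨Scheme.Opens.ι S₀ ≫ S ↘ SC⟩
  haveI : (Scheme.Opens.ι X₀).IsOver SC := ⟨rfl⟩
  haveI : (Scheme.Opens.ι Y₀).IsOver SC := ⟨rfl⟩
  haveI : (Scheme.Opens.ι S₀).IsOver SC := ⟨rfl⟩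
  haveI : IsAffine (X₀ : Scheme) := hX₀
  haveI : IsAffine (Y₀ : Scheme) := hY₀
  haveI : IsAffine (S₀ : Scheme) := hS₀
  let f₀ := f.resLE S₀ X₀ hXS
  let g₀ := g.resLE S₀ Y₀ hYS
  haveI : f₀.IsOver SC := ⟨by
    show f₀ ≫ Scheme.Opens.ι S₀ ≫ S ↘ SC = Scheme.Opens.ι X₀ ≫ X ↘ SC
    rw [← Category.assoc, Scheme.Hom.resLE_comp_ι, Category.assoc, comp_over f]⟩
  haveI : g₀.IsOver SC := ⟨by
    show g₀ ≫ Scheme.Opens.ι S₀ ≫ S ↘ SC = Scheme.Opens.ι Y₀ ≫ Y ↘ SC
    rw [← Category.assoc, Scheme.Hom.resLE_comp_ι, Category.assoc, comp_over g]⟩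
  haveI : LocallyOfFiniteType ((X₀ : Scheme) ↘ SC) := inferInstanceAs (LocallyOfFiniteType (Scheme.Opens.ι X₀ ≫ X ↘ SC))
  haveI : LocallyOfFiniteType ((Y₀ : Scheme) ↘ SC) := inferInstanceAs (LocallyOfFiniteType (Scheme.Opens.ι Y₀ ≫ Y ↘ SC))
  haveI : LocallyOfFiniteType ((S₀ : Scheme) ↘ SC) := inferInstanceAs (LocallyOfFiniteType (Scheme.Opens.ι S₀ ≫ S ↘ SC))
  let i := pullback.map f₀ g₀ f g (Scheme.Opens.ι X₀) (Scheme.Opens.ι Y₀) (Scheme.Opens.ι S₀)
    (Scheme.Hom.resLE_comp_ι _ _) (Scheme.Hom.resLE_comp_ι _ _)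
  haveI : IsOpenImmersion i := Scheme.pullback_map_isOpenImmersion _ _ _ _ _ _ _ _ _
  have hi1 : i ≫ pullback.fst f g = pullback.fst f₀ g₀ ≫ Scheme.Opens.ι X₀ := pullback.lift_fst _ _ _
  have hi2 : i ≫ pullback.snd f g = pullback.snd f₀ g₀ ≫ Scheme.Opens.ι Y₀ := pullback.lift_snd _ _ _
  haveI : i.IsOver SC := ⟨by
    show i ≫ pullback.fst f g ≫ X ↘ SC = pullback.fst f₀ g₀ ≫ Scheme.Opens.ι X₀ ≫ X ↘ SC
    rw [← Category.assoc, hi1, Category.assoc]⟩
  haveI : LocallyOfFiniteType ((pullback f₀ g₀) ↘ SC) := inferInstance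
  obtain ⟨w, rfl⟩ : z ∈ Set.range (Pts.map i) := by
    rw [range_map, Set.mem_preimage, Scheme.Pullback.range_map, Set.mem_inter_iff, Set.mem_preimage,
      Set.mem_preimage, Scheme.Opens.range_ι, Scheme.Opens.range_ι]
    exact ⟨hzX, hzY⟩
  have hw : IsInducing (pair (pullback.fst f₀ g₀) (pullback.snd f₀ g₀)) :=
    isInducing_pair_of_isAffine _ _ (IsPullback.of_hasPullback f₀ g₀)
  have hcomm : pair (pullback.fst f g) (pullback.snd f g) ∘ Pts.map i =
      Prod.map (Pts.map (Scheme.Opens.ι X₀)) (Pts.map (Scheme.Opens.ι Y₀)) ∘ pair (pullback.fst f₀ g₀) (pullback.snd f₀ g₀) :=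
    funext fun v => Prod.ext
      (Subtype.ext (show (v.1 ≫ i) ≫ pullback.fst f g = (v.1 ≫ pullback.fst f₀ g₀) ≫ Scheme.Opens.ι X₀ by
        rw [Category.assoc, hi1, Category.assoc]))
      (Subtype.ext (show (v.1 ≫ i) ≫ pullback.snd f g = (v.1 ≫ pullback.snd f₀ g₀) ≫ Scheme.Opens.ι Y₀ by
        rw [Category.assoc, hi2, Category.assoc]))
  have hind : IsInducing (pair (pullback.fst f g) (pullback.snd f g) ∘ Pts.map i) := by
    rw [hcomm]
    exact ((isEmbedding_map_of_isOpenImmersion _).prodMap (isEmbedding_map_of_isOpenImmersion _)).isInducing.comp hw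
  -- the image of `i` on points is the preimage of an open set of the product
  let O : Set (Pts X × Pts Y) := (Pts.pt ⁻¹' (X₀ : Set X)) ×ˢ (Pts.pt ⁻¹' (Y₀ : Set Y))
  have hO : IsOpen O := (Pts.isOpen_preimage_pt X₀).prod (Pts.isOpen_preimage_pt Y₀)
  have hrange : pair (pullback.fst f g) (pullback.snd f g) ⁻¹' O = Set.range (Pts.map i) := by
    rw [range_map, Scheme.Pullback.range_map, Scheme.Opens.range_ι, Scheme.Opens.range_ι]
    ext v
    simp only [O, pair, Set.mem_preimage, Set.mem_prod, Pts.pt_map, Set.mem_inter_iff]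
  intro s hs
  have h1 : Pts.map i ⁻¹' s ∈ 𝓝 w := (Pts.continuous_map i).continuousAt hs
  rw [hind.nhds_eq_comap, Filter.mem_comap] at h1
  obtain ⟨t, ht, hts⟩ := h1
  refine Filter.mem_comap.mpr ⟨t ∩ O, Filter.inter_mem ht (hO.mem_nhds ?_), fun v hv => ?_⟩
  · exact hrange.ge ⟨w, rfl⟩
  · obtain ⟨v', rfl⟩ := hrange.le hv.2
    exact hts hv.1

/-- The complex points of a fibre product form the fibre product. -/
theorem isHomeomorph_pullback :
    IsHomeomorph (fun z : Pts (pullback f g) =>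
      (⟨(Pts.map (pullback.fst f g) z, Pts.map (pullback.snd f g) z), Pts.map_pullback_condition f g z⟩ :
        {q : Pts X × Pts Y // Pts.map f q.1 = Pts.map g q.2})) := by
  refine isHomeomorph_iff_isEmbedding_surjective.mpr ⟨⟨?_, fun z z' h => Subtype.ext ?_⟩, fun q => ?_⟩
  · exact IsInducing.of_comp ((continuous_pair _ _).subtype_mk _) continuous_subtype_val (isInducing_pair f g)
  · exact pullback.hom_ext (congrArg Subtype.val (congrArg Prod.fst (congrArg Subtype.val h)))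
      (congrArg Subtype.val (congrArg Prod.snd (congrArg Subtype.val h)))
  · refine ⟨⟨pullback.lift q.1.1.1 q.1.2.1 (congrArg Subtype.val q.2), ?_⟩, Subtype.ext (Prod.ext
      (Subtype.ext (pullback.lift_fst _ _ _)) (Subtype.ext (pullback.lift_snd _ _ _)))⟩
    show _ ≫ pullback.fst f g ≫ X ↘ SC = _
    rw [← Category.assoc, pullback.lift_fst]
    exact q.1.1.2

end Groth.Agent.AnPts
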