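import Groth.Agent.AnPts.Connected
import Groth.Agent.AnPts.Interp
import Mathlib.RingTheory.AlgebraicIndependent.Adjoin
import Mathlib.RingTheory.AlgebraicIndependent.Transcendental
import Mathlib.RingTheory.AlgebraicIndependent.TranscendenceBasis
import Mathlib.FieldTheory.IntermediateField.Adjoin.Algebra
import Mathlib.RingTheory.Norm.Basic
import Mathlib.Algebra.MvPolynomial.NoZeroDivisors

/-!
# A regular function with continuous roots of all orders is constant
-/

set_option autoImplicit false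
set_option backward.isDefEq.respectTransparency.types false

open Polynomial Filter Topology

namespace Groth.Agent.AnPts

/-- In a finitely generated field extension, only algebraic elements have roots of all orders. -/
theorem isAlgebraic_of_forall_exists_pow {k L : Type} [Field k] [Field L] [Algebra k L] [Algebra.EssFiniteType k L]
    {u : L} (h : ∀ N : ℕ, 0 < N → ∃ e, e ^ N = u) : IsAlgebraic k u := by
  by_contra htr
  have hs : AlgebraicIndepOn k id ({u} : Set L) :=
    algebraicIndependent_unique_type_iff.mpr (htr : Transcendental k u)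
  obtain ⟨t, hut, ht⟩ := exists_isTranscendenceBasis_superset hs
  let i : t := ⟨u, hut rfl⟩
  let K := IntermediateField.adjoin k (Set.range ((↑) : t → L))
  haveI : Algebra.IsAlgebraic K L := ht.isAlgebraic_field
  haveI : Algebra.EssFiniteType K L := Algebra.EssFiniteType.of_comp k K L
  haveI : Module.Finite K L := Algebra.finite_of_essFiniteType_of_isAlgebraic
  set n := Module.finrank K L with hn
  obtain ⟨e, he⟩ := h (n + 1) n.succ_pos
  let eq := ht.1.aevalEquivField
  have hui : eq (algebraMap _ _ (MvPolynomial.X i)) = (⟨u, IntermediateField.subset_adjoin k _ ⟨i, rfl⟩⟩ : K) :=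
    Subtype.ext ((ht.1.aevalEquivField_algebraMap_apply_coe _).trans (MvPolynomial.aeval_X _ i))
  have hnorm : Algebra.norm K e ^ (n + 1) = (⟨u, IntermediateField.subset_adjoin k _ ⟨i, rfl⟩⟩ : K) ^ n := by
    rw [← map_pow, he]
    exact Algebra.norm_algebraMap (R := K) (S := L) ⟨u, IntermediateField.subset_adjoin k _ ⟨i, rfl⟩⟩
  obtain ⟨p, q, hq, hpq⟩ := IsFractionRing.div_surjective (MvPolynomial t k) (eq.symm (Algebra.norm K e))
  have hq0 : q ≠ 0 := nonZeroDivisors.ne_zero hq
  have h1 : algebraMap (MvPolynomial t k) (FractionRing (MvPolynomial t k)) (p ^ (n + 1)) =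
      algebraMap _ _ (MvPolynomial.X i ^ n * q ^ (n + 1)) := by
    have h2 := congrArg eq.symm hnorm
    rw [map_pow, map_pow, ← hpq, ← hui, AlgEquiv.symm_apply_apply, div_pow, div_eq_iff (pow_ne_zero _
      ((map_ne_zero_iff _ (IsFractionRing.injective _ _)).mpr hq0))] at h2
    rw [map_pow, map_mul, map_pow, map_pow]
    exact h2
  have h3 := congrArg (MvPolynomial.degreeOf i) (IsFractionRing.injective _ _ h1)
  have hX : (MvPolynomial.X i : MvPolynomial t k) ≠ 0 := MvPolynomial.X_ne_zero i
  rcases eq_or_ne p 0 with rfl | hp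
  · rw [zero_pow (Nat.succ_ne_zero n)] at h1
    exact absurd (IsFractionRing.injective _ _ h1).symm (mul_ne_zero (pow_ne_zero _ hX) (pow_ne_zero _ hq0))
  classical
  rw [MvPolynomial.degreeOf_pow_eq i p _ hp, MvPolynomial.degreeOf_mul_eq (pow_ne_zero _ hX) (pow_ne_zero _ hq0),
    MvPolynomial.degreeOf_pow_eq i _ _ hX, MvPolynomial.degreeOf_pow_eq i q _ hq0,
    MvPolynomial.degreeOf_X_self i] at h3
  have hn0 : 0 < n := Module.finrank_pos
  have h4 : (n + 1) ∣ n := (Nat.dvd_add_left ⟨MvPolynomial.degreeOf i q, rfl⟩).mp ⟨MvPolynomial.degreeOf i p, by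
    rw [mul_one] at h3; omega⟩
  exact absurd (Nat.le_of_dvd hn0 h4) (by omega)

/-- A polynomial function has polynomial growth on the root set of a monic polynomial. -/
theorem exists_bound_on_roots {d : ℕ} {F : (MvPolynomial (Fin d) ℂ)[X]} (hF : F.Monic)
    (U : (MvPolynomial (Fin d) ℂ)[X]) : ∃ (C : ℝ) (M : ℕ), 0 ≤ C ∧ ∀ a r,
      (F.map (MvPolynomial.eval a)).IsRoot r → ‖(U.map (MvPolynomial.eval a)).eval r‖ ≤ C * (1 + ‖a‖) ^ M := by
  choose C M hC hCb using fun k => exists_growth_bound (U.coeff k)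
  choose C' M' hC' hCb' using fun k => exists_growth_bound (F.coeff k)
  set B := 1 + ∑ k ∈ Finset.range F.natDegree, C' k with hB
  set L := ∑ k ∈ Finset.range F.natDegree, M' k with hL
  have hS : 0 ≤ ∑ k ∈ Finset.range F.natDegree, C' k := Finset.sum_nonneg fun k _ => hC' k
  have hB0 : 0 ≤ B := by linarith
  refine ⟨∑ k ∈ Finset.range (U.natDegree + 1), C k * B ^ k,
    ∑ k ∈ Finset.range (U.natDegree + 1), (M k + L * k),
    Finset.sum_nonneg fun k _ => mul_nonneg (hC k) (pow_nonneg hB0 k), fun a r hr => ?_⟩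
  have h1a : (1 : ℝ) ≤ 1 + ‖a‖ := by linarith [norm_nonneg a]
  have hr' : ‖r‖ ≤ B * (1 + ‖a‖) ^ L := by
    refine (norm_le_of_root (hF.map _) hr).trans ?_
    rw [hF.natDegree_map, hB, add_mul, one_mul, Finset.sum_mul]
    refine add_le_add (one_le_pow₀ h1a) (Finset.sum_le_sum fun k hk => ?_)
    rw [coeff_map]
    exact (hCb' k a).trans (mul_le_mul_of_nonneg_left
      (pow_le_pow_right₀ h1a (Finset.single_le_sum (fun j _ => Nat.zero_le (M' j)) hk)) (hC' k))
  rw [eval_map, eval₂_eq_sum_range, Finset.sum_mul]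
  refine (norm_sum_le _ _).trans (Finset.sum_le_sum fun k hk => ?_)
  rw [norm_mul, norm_pow]
  refine (mul_le_mul (hCb k a) (pow_le_pow_left₀ (norm_nonneg r) hr' k) (by positivity)
    (mul_nonneg (hC k) (by positivity))).trans ?_
  rw [mul_pow, mul_mul_mul_comm, ← pow_mul, ← pow_add]
  exact mul_le_mul_of_nonneg_left (pow_le_pow_right₀ h1a
    (Finset.single_le_sum (fun j _ => Nat.zero_le (M j + L * j)) hk)) (mul_nonneg (hC k) (pow_nonneg hB0 k))

variable {A : Type} [CommRing A] [Algebra ℂ A] [IsDomain A]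

/-- A unit of an affine complex variety with continuous roots of all orders is constant. -/
theorem eq_const_of_continuous_roots {m : ℕ} (q : MvPolynomial (Fin m) ℂ →ₐ[ℂ] A) (hq : Function.Surjective q)
    (u : A) (hu : ∀ y : A →ₐ[ℂ] ℂ, y u ≠ 0)
    (hw : ∀ N : ℕ, 0 < N → ∃ w : (Fin m → ℂ) → ℂ,
      ContinuousOn w (Set.range fun (y : A →ₐ[ℂ] ℂ) (i : Fin m) => y (q (MvPolynomial.X i))) ∧
        ∀ y : A →ₐ[ℂ] ℂ, w (fun i => y (q (MvPolynomial.X i))) ^ N = y u) :
    ∃ c : ℂ, ∀ y : A →ₐ[ℂ] ℂ, y u = c := by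
  haveI : Algebra.FiniteType ℂ A := Algebra.FiniteType.of_surjective q hq
  suffices halg : IsAlgebraic ℂ u by
    obtain ⟨c, hc⟩ : ∃ c, algebraMap ℂ A c = u := by
      obtain ⟨P, hP0, hP⟩ := halg
      rw [(IsAlgClosed.splits P).eq_prod_roots] at hP
      simp only [map_mul, aeval_C, map_multiset_prod, Multiset.map_map, Function.comp_def, map_sub, aeval_X] at hP
      rcases mul_eq_zero.mp hP with h | h
      · exact absurd ((map_eq_zero_iff _ (algebraMap ℂ A).injective).mp h) (leadingCoeff_ne_zero.mpr hP0)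
      · obtain ⟨c, -, hc⟩ := Multiset.mem_map.mp (Multiset.prod_eq_zero_iff.mp h)
        exact ⟨c, (sub_eq_zero.mp hc).symm⟩
    exact ⟨c, fun y => hc ▸ y.commutes c⟩
  -- chart
  obtain ⟨d, g, hginj, hgfin⟩ := exists_finite_inj_algHom_of_fg ℂ A
  let P := MvPolynomial (Fin d) ℂ
  letI : Algebra P A := g.toRingHom.toAlgebra
  haveI : IsScalarTower ℂ P A := IsScalarTower.of_algebraMap_eq fun r => (g.commutes r).symm
  haveI : Module.Finite P A := hgfin
  haveI : Algebra.IsIntegral P A := Algebra.IsIntegral.of_finite P A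
  haveI : FaithfulSMul P A := (faithfulSMul_iff_algebraMap_injective P A).mpr hginj
  haveI : CharZero P := charZero_of_injective_algebraMap (MvPolynomial.C_injective (Fin d) ℂ)
  obtain ⟨α, hα⟩ := exists_generic_generator P A
  choose s hs Q hQ using fun j => hα (q (MvPolynomial.X j))
  obtain ⟨su, hsu, U, hU⟩ := hα u
  have hint := Algebra.IsIntegral.isIntegral (R := P) α
  let F := minpoly P α
  have hFm : F.Monic := minpoly.monic hint
  have hn : 0 < F.natDegree := minpoly.natDegree_pos hint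
  have hF' : aeval α (derivative F) ≠ 0 := fun h0 => by
    have hd : (derivative F).natDegree < F.natDegree := natDegree_derivative_lt hn.ne'
    have hne : derivative F ≠ 0 := fun h => hn.ne' (natDegree_eq_zero_of_derivative_eq_zero h)
    exact absurd (natDegree_le_of_dvd (minpoly.isIntegrallyClosed_dvd hint h0) hne) (not_le.mpr hd)
  let δ := aeval α (derivative F)
  have hδ := Algebra.IsIntegral.isIntegral (R := P) δ
  let c₀ := (minpoly P δ).coeff 0
  have hc₀ : c₀ ≠ 0 := coeff_zero_minpoly_ne_zero hδ hF'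
  let D : P := (∏ j, s j) * su * c₀
  have hD : D ≠ 0 := mul_ne_zero (mul_ne_zero (Finset.prod_ne_zero_iff.mpr fun j _ => hs j) hsu) hc₀
  have hDs : ∀ a j, MvPolynomial.eval a D ≠ 0 → MvPolynomial.eval a (s j) ≠ 0 := fun a j h => by
    rw [map_mul, map_mul, map_prod] at h
    exact Finset.prod_ne_zero_iff.mp (left_ne_zero_of_mul (left_ne_zero_of_mul h)) j (Finset.mem_univ j)
  have hDu : ∀ a, MvPolynomial.eval a D ≠ 0 → MvPolynomial.eval a su ≠ 0 := fun a h => by
    rw [map_mul, map_mul] at h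
    exact right_ne_zero_of_mul (left_ne_zero_of_mul h)
  letI : Algebra P[X] A := (Polynomial.aeval α : P[X] →ₐ[P] A).toRingHom.toAlgebra
  haveI : IsScalarTower P P[X] A := IsScalarTower.of_algebraMap_eq fun c => (aeval_C α c).symm
  haveI : IsScalarTower ℂ P[X] A := IsScalarTower.of_algebraMap_eq fun c => by
    rw [IsScalarTower.algebraMap_apply ℂ P A, IsScalarTower.algebraMap_apply P P[X] A,
      ← IsScalarTower.algebraMap_apply ℂ P P[X]]
  haveI : Algebra.IsIntegral P[X] A := Algebra.IsIntegral.tower_top P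
  have hlift : ∀ a r, (F.map (MvPolynomial.eval a)).IsRoot r → ∃ y : A →ₐ[ℂ] ℂ,
      ∀ G : P[X], y (aeval α G) = (G.map (MvPolynomial.eval a)).eval r := fun a r hr => by
    let ψ : P[X] →ₐ[ℂ] ℂ := Polynomial.aevalTower (MvPolynomial.aeval a) r
    have hψ : ∀ G : P[X], ψ G = (G.map (MvPolynomial.eval a)).eval r := fun G => by
      rw [eval_map]
      show eval₂ (MvPolynomial.aeval a : P →ₐ[ℂ] ℂ).toRingHom r G = _
      congr 1
    obtain ⟨y, hy⟩ := exists_point_lift ψ (fun G hG => by
      obtain ⟨H, rfl⟩ := minpoly.isIntegrallyClosed_dvd hint (show aeval α G = 0 from hG)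
      show ψ (F * H) = 0
      rw [map_mul, hψ F, hr.eq_zero, zero_mul])
    exact ⟨y, fun G => (hy G).trans (hψ G)⟩
  have hC : ∀ (y : A →ₐ[ℂ] ℂ) a r, (∀ G : P[X], y (aeval α G) = (G.map (MvPolynomial.eval a)).eval r) →
      ∀ (c : P) (b : A) (G : P[X]), algebraMap P A c * b = aeval α G →
        MvPolynomial.eval a c * y b = (G.map (MvPolynomial.eval a)).eval r := fun y a r hy c b G h => by
    have h1 := congrArg y h
    rw [map_mul, hy, show algebraMap P A c = aeval α (Polynomial.C c) from (aeval_C α _).symm, hy,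
      Polynomial.map_C, eval_C] at h1
    exact h1
  have hsimple : ∀ a r, MvPolynomial.eval a D ≠ 0 → (F.map (MvPolynomial.eval a)).IsRoot r →
      (F.map (MvPolynomial.eval a)).derivative.eval r ≠ 0 := fun a r ha hr h0 => by
    obtain ⟨y, hy⟩ := hlift a r hr
    have hδ0 : y δ = 0 := by rw [hy, ← derivative_map]; exact h0
    have h2 : y (algebraMap P A c₀) = 0 := by
      have := congrArg y (minpoly.aeval P δ)
      rw [aeval_def, map_zero, show y (eval₂ (algebraMap P A) δ (minpoly P δ)) =
        eval₂ ((y : A →+* ℂ).comp (algebraMap P A)) (y δ) (minpoly P δ) from hom_eval₂ _ _ (y : A →+* ℂ) δ,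
        hδ0, eval₂_at_zero] at this
      exact this
    rw [show algebraMap P A c₀ = aeval α (Polynomial.C c₀) from (aeval_C α _).symm, hy, Polynomial.map_C, eval_C] at h2
    exact ha (by rw [map_mul, h2, mul_zero])
  let φ : (Fin d → ℂ) × ℂ → Fin m → ℂ :=
    fun p j => ((Q j).map (MvPolynomial.eval p.1)).eval p.2 / MvPolynomial.eval p.1 (s j)
  have hφc : ContinuousOn φ {p | MvPolynomial.eval p.1 D ≠ 0 ∧ (F.map (MvPolynomial.eval p.1)).IsRoot p.2} := by
    refine continuousOn_pi.mpr fun j => ContinuousOn.div ?_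
      ((MvPolynomial.continuous_eval (s j)).comp continuous_fst).continuousOn fun p hp => hDs _ j hp.1
    simp only [eval_map, eval₂_eq_sum_range]
    exact (continuous_finsetSum _ fun k _ => ((MvPolynomial.continuous_eval _).comp continuous_fst).mul
      (continuous_snd.pow k)).continuousOn
  have hcoord : ∀ (y : A →ₐ[ℂ] ℂ) a r, (∀ G : P[X], y (aeval α G) = (G.map (MvPolynomial.eval a)).eval r) →
      MvPolynomial.eval a D ≠ 0 → (fun j => y (q (MvPolynomial.X j))) = φ (a, r) := fun y a r hy ha => funext fun j => by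
    rw [eq_div_iff (hDs a j ha), mul_comm]
    exact hC y a r hy (s j) _ (Q j) (hQ j)
  -- roots in the function field
  let L := FractionRing A
  haveI : Algebra.EssFiniteType ℂ L :=
    haveI : Algebra.EssFiniteType A L := Algebra.EssFiniteType.of_isLocalization L (nonZeroDivisors A)
    Algebra.EssFiniteType.comp ℂ A L
  refine (isAlgebraic_algebraMap_iff (IsFractionRing.injective A L)).mp
    (isAlgebraic_of_forall_exists_pow fun N hN => ?_)
  obtain ⟨w, hwc, hwN⟩ := hw N hN
  obtain ⟨C₁, M₁, hC₁, hb₁⟩ := exists_bound_on_roots hFm U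
  obtain ⟨C₂, M₂, hC₂, hb₂⟩ := exists_bound_on_roots hFm (Polynomial.C su)
  obtain ⟨H, hH⟩ := exists_interpolation hFm hD hsimple (w := fun p => w (φ p) * MvPolynomial.eval p.1 su)
    (((hwc.comp hφc fun p hp => by
      obtain ⟨y, hy⟩ := hlift p.1 p.2 hp.2
      exact ⟨y, hcoord y p.1 p.2 hy hp.1⟩)).mul
      ((MvPolynomial.continuous_eval su).comp continuous_fst).continuousOn)
    hN (U := U * Polynomial.C (su ^ (N - 1))) (s := 1) (fun a _ => by simp)
    (fun a r ha hr => by
      obtain ⟨y, hy⟩ := hlift a r hr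
      rw [map_one, mul_one, mul_pow, ← hcoord y a r hy ha, hwN, Polynomial.map_mul, eval_mul, Polynomial.map_C,
        eval_C, map_pow, ← hC y a r hy su u U hU]
      conv_lhs => rw [← Nat.succ_pred_eq_of_pos hN, pow_succ']
      rw [Nat.pred_eq_sub_one]; ring)
    (fun a r ha hr => by
      obtain ⟨y, hy⟩ := hlift a r hr
      refine mul_ne_zero (fun h => hu y ?_) (hDu a ha)
      rw [← hwN y, hcoord y a r hy ha, h, zero_pow hN.ne'])
    (C := C₂ + C₁) (M := M₂ + M₁) (fun a r ha hr => by
      obtain ⟨y, hy⟩ := hlift a r hr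
      have h1a : (1 : ℝ) ≤ 1 + ‖a‖ := by linarith [norm_nonneg a]
      have h2 := hb₂ a r hr
      rw [Polynomial.map_C, eval_C] at h2
      have h1 := hb₁ a r hr
      rw [← hC y a r hy su u U hU, norm_mul] at h1
      rw [← hcoord y a r hy ha, norm_mul, add_mul]
      refine le_trans ?_ (add_le_add (h2.trans (mul_le_mul_of_nonneg_left (pow_le_pow_right₀ h1a
        (Nat.le_add_right M₂ M₁)) hC₂)) (h1.trans (mul_le_mul_of_nonneg_left (pow_le_pow_right₀ h1a
        (Nat.le_add_left M₁ M₂)) hC₁)))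
      have hwb : ‖w fun j => y (q (MvPolynomial.X j))‖ ≤ 1 + ‖y u‖ := by
        rcases le_total ‖w fun j => y (q (MvPolynomial.X j))‖ 1 with h | h
        · exact h.trans (le_add_of_nonneg_right (norm_nonneg _))
        · rw [← hwN y, norm_pow]
          exact (le_self_pow₀ h hN.ne').trans (le_add_of_nonneg_left zero_le_one)
      nlinarith [norm_nonneg (MvPolynomial.eval a su), mul_le_mul_of_nonneg_right hwb (norm_nonneg (MvPolynomial.eval a su))])
  refine ⟨algebraMap A L (aeval α H) / algebraMap A L (δ * algebraMap P A su), ?_⟩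
  have hδ0 : algebraMap A L (δ * algebraMap P A su) ≠ 0 :=
    (map_ne_zero_iff _ (IsFractionRing.injective A L)).mpr (mul_ne_zero hF' ((map_ne_zero_iff _ hginj).mpr hsu))
  rw [div_pow, div_eq_iff (pow_ne_zero _ hδ0), ← map_pow (algebraMap A L), ← map_pow (algebraMap A L),
    ← map_mul (algebraMap A L)]
  congr 1
  -- the identity holds on a dense set of points
  by_contra hne
  obtain ⟨x₀, -⟩ := exists_point_lift (A := A) (MvPolynomial.aeval (0 : Fin d → ℂ) : P →ₐ[ℂ] ℂ)
    (fun c hc => by rw [(map_eq_zero_iff _ hginj).mp hc]; exact map_zero _)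
  obtain ⟨_, y, hy', rfl⟩ := closure_nonempty_iff.mp ⟨_, mem_closure_coords q hq (mul_ne_zero (sub_ne_zero.mpr hne)
    ((map_ne_zero_iff _ hginj).mpr hD)) x₀⟩
  replace hy' : y (_ * g D) ≠ 0 := hy'
  rw [map_mul, mul_ne_zero_iff] at hy'
  let a : Fin d → ℂ := fun i => y (g (MvPolynomial.X i))
  have hya : ∀ c : P, y (g c) = MvPolynomial.eval a c := fun c => by
    rw [← MvPolynomial.aeval_eq_eval]
    exact DFunLike.congr_fun (MvPolynomial.aeval_unique (y.comp g)) c
  have hyG : ∀ G : P[X], y (aeval α G) = (G.map (MvPolynomial.eval a)).eval (y α) := fun G => by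
    rw [aeval_def, eval_map]
    refine (hom_eval₂ _ _ (y : A →+* ℂ) α).trans ?_
    congr 1
    exact RingHom.ext hya
  have ha : MvPolynomial.eval a D ≠ 0 := by rw [← hya]; exact hy'.2
  have hroot : (F.map (MvPolynomial.eval a)).IsRoot (y α) := by rw [IsRoot, ← hyG, minpoly.aeval, map_zero]
  apply hy'.1
  rw [map_sub, map_mul, map_pow, map_pow, map_mul, hyG, hyG, hH a _ ha hroot, ← derivative_map,
    show y (algebraMap P A su) = MvPolynomial.eval a su from hya su, ← hcoord y a _ hyG ha, ← hwN y]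
  ring

end Groth.Agent.AnPts
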